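import Groth.Agent.TFQuot.Modif
import Groth.Agent.AmpleVan.ThickPush
import Groth.Agent.H23.SpFlat
import Groth.Agent.ZClosLib.CohDescent
import Groth.Agent.ExtShX.ClosedHom

/-!
# Elementary modifications over a discrete valuation ring
-/

set_option autoImplicit false
set_option linter.style.haveILetI false
set_option linter.unusedSectionVars false
set_option backward.isDefEq.respectTransparency false
set_option backward.isDefEq.respectTransparency.types false
set_option maxHeartbeats 1000000

universe u

open CategoryTheory CategoryTheory.Limits AlgebraicGeometry TopologicalSpace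

noncomputable section

namespace Groth.Agent.TFQuot

open Groth.Agent

/-- Stalks of direct images along a closed immersion, naturally. -/
theorem exists_stalkPushEquiv {X Z : Scheme.{u}} (i : Z ⟶ X) [IsClosedImmersion i] (z : Z) :
    ∃ e : ∀ M : Z.Modules,
        (DerSch.stalkFunctor X (i z)).obj ((Scheme.Modules.pushforward i).obj M) ≃+ (DerSch.stalkFunctor Z z).obj M,
      ∀ (M N : Z.Modules) (φ : M ⟶ N) v, e N (st ((Scheme.Modules.pushforward i).map φ) (i z) v) = st φ z (e M v) := by
  haveI h : ∀ M : Z.Modules, IsIso (TopCat.Presheaf.stalkPushforward Ab.{u} i.base M.presheaf z) := fun M =>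
    KFlatLib.isIso_stalkPushforward_closed i M z
  refine ⟨fun M => AddEquiv.ofBijective (TopCat.Presheaf.stalkPushforward Ab.{u} i.base M.presheaf z).hom
    ((ConcreteCategory.isIso_iff_bijective _).1 (h M)), fun M N φ v => ?_⟩
  exact congr($(KFlatLib.stalkPushforward_naturality' i.base ((Scheme.Modules.toPresheaf Z).map φ) z) v)

variable {R : Type u} [CommRing R] [IsDomain R] [IsDiscreteValuationRing R] {X : Scheme.{u}}
  (f : X ⟶ Spec (CommRingCat.of R)) {Xs : Scheme.{u}} (i : Xs ⟶ X) {q : Xs ⟶ Spec (CommRingCat.of (IsLocalRing.ResidueField R))}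

/-- The uniformizer acts injectively on a flat sheaf. -/
theorem injective_of_flat (t : R) (ht : Irreducible t) (I : X.Modules) (hIf : FlatMod.IsFlatOver f I) :
    letI : X.Over (Spec (CommRingCat.of R)) := ⟨f⟩
    ∀ x, Function.Injective (st (Formal.smulMod R I t) x) := by
  letI : X.Over (Spec (CommRingCat.of R)) := ⟨f⟩
  intro x
  intro v w hvw
  rw [st_smulMod, st_smulMod] at hvw
  letI := FlatMod.moduleStalkOver f I x
  haveI := H23.SpGysin.isDomain_stalk (R := R) (f x)
  haveI : Module.Flat ((Spec (CommRingCat.of R)).presheaf.stalk (f x)) (I.presheaf.stalk x) := hIf x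
  refine H23.SpGysin.injective_smul_of_flat (A := (Spec (CommRingCat.of R)).presheaf.stalk (f x)) (M := I.presheaf.stalk x)
    (r := (Spec (CommRingCat.of R)).presheaf.germ ⊤ (f x) trivial ((Scheme.ΓSpecIso (CommRingCat.of R)).inv t))
    ?_ ?_
  · letI : Algebra R ((Spec (CommRingCat.of R)).presheaf.stalk (f x)) := StructureSheaf.stalkAlgebra R (f x)
    haveI : IsLocalization.AtPrime ((Spec (CommRingCat.of R)).presheaf.stalk (f x))
        (PrimeSpectrum.asIdeal (R := R) (f x)) :=
      StructureSheaf.IsLocalization.to_stalk (CommRingCat.of R) (f x)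
    intro h0
    exact ht.ne_zero ((injective_iff_map_eq_zero _).1 (IsLocalization.injective
      ((Spec (CommRingCat.of R)).presheaf.stalk (f x))
      (PrimeSpectrum.asIdeal (R := R) (f x)).primeCompl_le_nonZeroDivisors) t h0)
  · show (f.stalkMap x _) • v = (f.stalkMap x _) • w
    rw [Scheme.Hom.germ_stalkMap_apply]
    exact hvw

/-- The modification data of a torsion-free sheaf at a quotient of its special fibre, with its compatibility with the
uniformizer. -/
theorem exists_modif [IsProper f]
    (hsq : IsPullback i q f (Spec.map (CommRingCat.ofHom (IsLocalRing.residue R)))) (t : R) (ht : Irreducible t)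
    (I : X.Modules) (hIc : Coh.IsCoh I)
    (htinj : letI : X.Over (Spec (CommRingCat.of R)) := ⟨f⟩
      ∀ x, Function.Injective (st (Formal.smulMod R I t) x))
    {Y : Set Xs} {GY : Xs.Modules} {πY : (Scheme.Modules.pullback i).obj I ⟶ GY}
    (hGY : TFOne.IsQuotOn Xs ((Scheme.Modules.pullback i).obj I) Y GY πY) :
    letI : X.Over (Spec (CommRingCat.of R)) := ⟨f⟩
    let adj := Scheme.Modules.pullbackPushforwardAdjunction i
    let p : I ⟶ (Scheme.Modules.pushforward i).obj GY := adj.unit.app I ≫ (Scheme.Modules.pushforward i).map πY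
    ∃ m : Modif Y πY ((Scheme.Modules.pullback i).obj (kernel p)),
      ∀ s : I ⟶ kernel p, s ≫ kernel.ι p = Formal.smulMod R I t →
        s ≫ adj.unit.app (kernel p) = p ≫ (Scheme.Modules.pushforward i).map m.a := by
  letI : X.Over (Spec (CommRingCat.of R)) := ⟨f⟩
  haveI : IsClosedImmersion i := by
    haveI : IsClosedImmersion (Spec.map (CommRingCat.ofHom (IsLocalRing.residue R))) :=
      IsClosedImmersion.spec_of_surjective _ Ideal.Quotient.mk_surjective
    exact MorphismProperty.of_isPullback hsq.flip inferInstance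
  haveI : IsLocallyNoetherian X := LocallyOfFiniteType.isLocallyNoetherian f
  haveI : IsLocallyNoetherian Xs := LocallyOfFiniteType.isLocallyNoetherian i
  haveI : IsFinite i := inferInstance
  have hJ : IsLocalRing.maximalIdeal R = Ideal.span {t} := ht.maximalIdeal_eq
  let adj := Scheme.Modules.pullbackPushforwardAdjunction i
  let sq : IsPullback i (q : Xs ⟶ Spec (CommRingCat.of (R ⧸ IsLocalRing.maximalIdeal R)))
      (X ↘ Spec (CommRingCat.of R))
      (Spec.map (CommRingCat.ofHom (Ideal.Quotient.mk (IsLocalRing.maximalIdeal R)))) := hsq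
  have htJ : t ∈ IsLocalRing.maximalIdeal R := hJ ▸ Ideal.mem_span_singleton_self t
  -- the unit is the reduction modulo `t`
  have hseq : ∀ M : X.Modules, Coh.IsQCoh M →
      (Formal.smulMod R M t ≫ adj.unit.app M = 0) ∧
      (∀ x v, st (adj.unit.app M) x v = 0 → ∃ w, st (Formal.smulMod R M t) x w = v) ∧
      (∀ x, Function.Surjective (st (adj.unit.app M) x)) := by
    intro M hM
    obtain ⟨h, hiso⟩ := AmpleVan.unit_desc_iso sq hM
    haveI := hiso
    have h1 : Formal.smulMod R M t ≫ adj.unit.app M = 0 := by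
      have := congrArg (fun φ => Sigma.ι (fun _ : IsLocalRing.maximalIdeal R => M) ⟨t, htJ⟩ ≫ φ) h
      simp only [comp_zero, ← Category.assoc] at this
      rw [show Sigma.ι (fun _ : IsLocalRing.maximalIdeal R => M) ⟨t, htJ⟩ ≫ Formal.smulFamily _ M =
        Formal.smulMod R M t from Sigma.ι_desc _ _] at this
      exact this
    choose c hc using fun a : IsLocalRing.maximalIdeal R =>
      Ideal.mem_span_singleton'.1 (show (a : R) ∈ Ideal.span {t} from hJ ▸ a.2)
    have hfac : Formal.smulFamily (IsLocalRing.maximalIdeal R) M =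
        Sigma.desc (fun a => Formal.smulMod R M (c a)) ≫ Formal.smulMod R M t := by
      refine Sigma.hom_ext _ _ fun a => ?_
      rw [← Category.assoc, Sigma.ι_desc]
      refine (Sigma.ι_desc _ _).trans ?_
      show Formal.smulMod R M (a : R) = _
      rw [← hc a]
      simp only [Formal.smulMod, map_mul, KLin.smulModΓ_mul]
    have hex := (ShortComplex.exact_of_g_is_cokernel (ShortComplex.mk (Formal.smulFamily (IsLocalRing.maximalIdeal R) M)
      (cokernel.π _) (cokernel.condition _)) (cokernelIsCokernel _))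
    refine ⟨h1, fun x v hv => ?_, fun x => ?_⟩
    · have hπ : st (cokernel.π (Formal.smulFamily (IsLocalRing.maximalIdeal R) M)) x v = 0 := by
        refine st_injective (cokernel.desc _ _ h) x ?_
        rw [← st_comp, cokernel.π_desc, map_zero]
        exact hv
      obtain ⟨w, hw⟩ := (ShortComplex.moduleCat_exact_iff _).1 (hex.map (DerSch.stalkFunctor X x)) v hπ
      refine ⟨st (Sigma.desc fun a => Formal.smulMod R M (c a)) x w, ?_⟩
      rw [← st_comp, ← hfac]
      exact hw
    · haveI : Epi (adj.unit.app M) := by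
        rw [show adj.unit.app M = cokernel.π _ ≫ cokernel.desc _ _ h from (cokernel.π_desc _ _ _).symm]
        infer_instance
      exact st_surjective _ x
  let p : I ⟶ (Scheme.Modules.pushforward i).obj GY := adj.unit.app I ≫ (Scheme.Modules.pushforward i).map πY
  let j := kernel.ι p
  have hPc : Coh.IsCoh ((Scheme.Modules.pushforward i).obj GY) := QCoh.isCoh_pushforward_finite i hGY.2.1
  have hIYc : Coh.IsCoh (kernel p) := QCoh.isCoh_kernel hIc hPc p
  obtain ⟨tI0, tIker, tIsur⟩ := hseq I hIc.1
  obtain ⟨tY0, tYker, tYsur⟩ := hseq (kernel p) hIYc.1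
  replace htinj : ∀ x, Function.Injective (st (Formal.smulMod R I t) x) := htinj
  have htp : Formal.smulMod R I t ≫ p = 0 := by rw [← Category.assoc, tI0, zero_comp]
  let uI : I ⟶ (Scheme.Modules.pushforward i).obj ((Scheme.Modules.pullback i).obj I) := adj.unit.app I
  let uY : kernel p ⟶ (Scheme.Modules.pushforward i).obj ((Scheme.Modules.pullback i).obj (kernel p)) :=
    adj.unit.app (kernel p)
  replace tI0 : Formal.smulMod R I t ≫ uI = 0 := tI0
  replace tY0 : Formal.smulMod R (kernel p) t ≫ uY = 0 := tY0
  replace tIker : ∀ x v, st uI x v = 0 → ∃ w, st (Formal.smulMod R I t) x w = v := tIker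
  replace tYker : ∀ x v, st uY x v = 0 → ∃ w, st (Formal.smulMod R (kernel p) t) x w = v := tYker
  replace tIsur : ∀ x, Function.Surjective (st uI x) := tIsur
  replace tYsur : ∀ x, Function.Surjective (st uY x) := tYsur
  let s : I ⟶ kernel p := kernel.lift p (Formal.smulMod R I t) htp
  have hsj : s ≫ j = Formal.smulMod R I t := kernel.lift_ι _ _ _
  have hjs : j ≫ s = Formal.smulMod R (kernel p) t := by
    rw [← cancel_mono j, Category.assoc, hsj, FFun.smulMod_naturality]
  let F := (Scheme.Modules.pullback i).obj I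
  let F' := (Scheme.Modules.pullback i).obj (kernel p)
  let b : F' ⟶ F := (Scheme.Modules.pullback i).map j
  let S : F ⟶ F' := (Scheme.Modules.pullback i).map s
  haveI := AmpleVan.faithful_push i
  have nb : j ≫ uI = uY ≫ (Scheme.Modules.pushforward i).map b :=
    adj.unit.naturality j
  have nS : s ≫ uY = uI ≫ (Scheme.Modules.pushforward i).map S :=
    adj.unit.naturality s
  haveI : Epi uI := Exactness.epi_of_stalk _ fun x => (ModuleCat.epi_iff_surjective _).2 (tIsur x)
  haveI : Epi uY :=
    Exactness.epi_of_stalk _ fun x => (ModuleCat.epi_iff_surjective _).2 (tYsur x)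
  have hbπ : b ≫ πY = 0 := by
    apply (Scheme.Modules.pushforward i).map_injective
    rw [Functor.map_comp, ← cancel_epi (uY), ← reassoc_of% nb]
    exact (kernel.condition p).trans (by simp)
  have hbS : b ≫ S = 0 := by
    apply (Scheme.Modules.pushforward i).map_injective
    rw [Functor.map_comp, ← cancel_epi (uY), ← reassoc_of% nb, ← nS, reassoc_of% hjs, tY0]
    simp
  have hSb : S ≫ b = 0 := by
    apply (Scheme.Modules.pushforward i).map_injective
    rw [Functor.map_comp, ← cancel_epi (uI), ← reassoc_of% nS, ← nb, reassoc_of% hsj, tI0]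
    simp
  have E1 : ∀ x v, st ((Scheme.Modules.pushforward i).map b) x v = 0 →
      ∃ w, st ((Scheme.Modules.pushforward i).map S) x w = v := fun x v hv => by
    obtain ⟨y, rfl⟩ := tYsur x v
    rw [← st_comp, ← nb, st_comp] at hv
    obtain ⟨x0, hx0⟩ := tIker x _ hv
    rw [← hsj, st_comp] at hx0
    exact ⟨st (uI) x x0, by rw [← st_comp, ← nS, st_comp, st_injective j x hx0]⟩
  have E2 : ∀ x v, st ((Scheme.Modules.pushforward i).map πY) x v = 0 →
      ∃ w, st ((Scheme.Modules.pushforward i).map b) x w = v := fun x v hv => by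
    obtain ⟨y, rfl⟩ := tIsur x v
    rw [← st_comp] at hv
    obtain ⟨w, hw⟩ := (ShortComplex.moduleCat_exact_iff _).1
      ((ShortComplex.exact_kernel p).map (DerSch.stalkFunctor X x)) y hv
    refine ⟨st (uY) x w, ?_⟩
    rw [← st_comp, ← nb, st_comp]
    exact congrArg (st (uI) x) hw
  have E3 : ∀ x v, st ((Scheme.Modules.pushforward i).map S) x v = 0 →
      ∃ w, st ((Scheme.Modules.pushforward i).map b) x w = v := fun x v hv => by
    obtain ⟨y, rfl⟩ := tIsur x v
    rw [← st_comp, ← nS, st_comp] at hv
    obtain ⟨w, hw⟩ := tYker x _ hv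
    rw [← hjs, st_comp] at hw
    have hy : st j x w = y := by
      refine htinj x ?_
      rw [← hsj, st_comp, st_comp]
      exact congrArg (st j x) hw
    exact ⟨st (uY) x w, by rw [← st_comp, ← nb, st_comp, hy]⟩
  have down : ∀ {A B C : Xs.Modules} (α : A ⟶ B) (β : B ⟶ C),
      (∀ x v, st ((Scheme.Modules.pushforward i).map β) x v = 0 →
        ∃ w, st ((Scheme.Modules.pushforward i).map α) x w = v) →
      ∀ z v, st β z v = 0 → ∃ w, st α z w = v := by
    intro A B C α β h z v hv
    obtain ⟨e, he⟩ := exists_stalkPushEquiv i z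
    obtain ⟨w, hw⟩ := h (i z) ((e B).symm v) ((e C).injective (by
      rw [he, AddEquiv.apply_symm_apply, map_zero]; exact hv))
    exact ⟨e A w, by rw [← he, hw, AddEquiv.apply_symm_apply]⟩
  have ex1 := down S b E1
  have ex2 := down b πY E2
  have ex3 := down b S E3
  haveI := hGY.1
  have ha0 : kernel.ι πY ≫ S = 0 := CurveHom.eq_zero_of_stalk _ fun z v => by
    obtain ⟨w, hw⟩ := ex2 z (st (kernel.ι πY) z v) (by rw [← st_comp, kernel.condition, st_zero])
    show st (kernel.ι πY ≫ S) z v = 0
    rw [st_comp, ← hw, ← st_comp, hbS, st_zero]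
  let a : GY ⟶ F' := Abelian.epiDesc πY S ha0
  have ha : ∀ z v, st a z (st πY z v) = st S z v := fun z v => by rw [← st_comp, Abelian.comp_epiDesc]
  refine ⟨{ a := a, b := b, quot := hGY, inj := fun z => ?_, ab := ?_, bπ := hbπ, ex₁ := fun z v hv => ?_,
            ex₂ := ex2, coh := ZClosLib.isCoh_pullback _ hIYc }, fun s' hs' => ?_⟩
  · refine (injective_iff_map_eq_zero _).2 fun g hg => ?_
    obtain ⟨v, rfl⟩ := st_surjective πY z g
    obtain ⟨w, rfl⟩ := ex3 z v ((ha z v).symm.trans hg)
    rw [← st_comp, hbπ, st_zero]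
  · rw [← cancel_epi πY, Abelian.comp_epiDesc_assoc, hSb, comp_zero]
  · obtain ⟨w, rfl⟩ := ex1 z v hv
    exact ⟨st πY z w, ha z w⟩
  · obtain rfl : s' = s := by rw [← cancel_mono j]; exact hs'.trans hsj.symm
    show s ≫ uY = (uI ≫ (Scheme.Modules.pushforward i).map πY) ≫ (Scheme.Modules.pushforward i).map a
    rw [Category.assoc, ← Functor.map_comp, Abelian.comp_epiDesc]
    exact nS

/-- The modification data of a flat sheaf at a quotient of its special fibre. -/
theorem nonempty_modif [IsProper f]
    (hsq : IsPullback i q f (Spec.map (CommRingCat.ofHom (IsLocalRing.residue R)))) (I : X.Modules)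
    (hIc : Coh.IsCoh I) (hIf : FlatMod.IsFlatOver f I) {Y : Set Xs} {GY : Xs.Modules}
    {πY : (Scheme.Modules.pullback i).obj I ⟶ GY}
    (hGY : TFOne.IsQuotOn Xs ((Scheme.Modules.pullback i).obj I) Y GY πY) :
    Nonempty (Modif Y πY ((Scheme.Modules.pullback i).obj
      (kernel ((Scheme.Modules.pullbackPushforwardAdjunction i).unit.app I ≫ (Scheme.Modules.pushforward i).map πY)))) := by
  obtain ⟨t, ht⟩ := IsDiscreteValuationRing.exists_irreducible R
  obtain ⟨m, -⟩ := exists_modif f i hsq t ht I hIc (injective_of_flat f t ht I hIf) hGY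
  exact ⟨m⟩

end Groth.Agent.TFQuot

end
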