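import Groth.Agent.TFQuot.Beta
import Groth.Agent.AmpleDev.CurvesIn
import Groth.Agent.ExtShX.ClosedHom
import Mathlib.RingTheory.TensorProduct.Maps

/-!
# Torsion-free quotients seen on the subcurve carrying them
-/

set_option autoImplicit false
set_option linter.style.haveILetI false
set_option linter.unusedSectionVars false
set_option backward.isDefEq.respectTransparency false
set_option backward.isDefEq.respectTransparency.types false
set_option maxHeartbeats 1000000

universe u

open CategoryTheory CategoryTheory.Limits AlgebraicGeometry TopologicalSpace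

noncomputable section

namespace Groth.Agent.TFQuot

open Groth.Agent

variable {X : Scheme.{u}} [AlgebraicGeometry.IsNoetherian X] [AlgebraicGeometry.IsReduced X]
  {Y : Set X} (hY : IsClosed Y) {G : X.Modules}

/-- A torsion-free sheaf carried by `Y` is killed by the ideal of `Y`. -/
theorem isIso_unit_subsch (hG : Coh.IsQCoh G) (htG : TorSh.IsTorsionFree G) (hs : CohB1.support G ⊆ Y) :
    IsIso ((Scheme.Modules.pullbackPushforwardAdjunction (VecSt.subschι X Y hY)).unit.app G) := by
  set ι := VecSt.subschι X Y hY with hι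
  refine (QCoh.isIso_unit_closed_iff ι hG).2 fun U a ha s => ?_
  refine TFCurvLib.eq_zero_of_germ_isField hG htG _ fun y hy hf => ?_
  by_cases hys : y ∈ CohB1.support G
  · obtain ⟨z, rfl⟩ : y ∈ Set.range ι := by rw [range_subschι]; exact hs hys
    rw [FComplLib.ideal_ker, RingHom.mem_ker] at ha
    letI := hf.toField
    have h0 : X.presheaf.germ U.1 (ι z) hy a = 0 := by
      refine (ι.stalkMap z).hom.injective ?_
      rw [map_zero]
      exact (Scheme.Hom.germ_stalkMap_apply ι U.1 z hy a).trans ((congrArg _ ha).trans (map_zero _))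
    rw [QCoh.germ_smul', h0, zero_smul]
  · haveI : Subsingleton ((DerSch.stalkFunctor X y).obj G) := subsingleton_stalk_iff.2 hys
    exact Subsingleton.elim (α := (DerSch.stalkFunctor X y).obj G) _ _

include hY in
/-- The direct image of a torsion-free sheaf on a subcurve is torsion-free. -/
theorem torsionFree_push (hYs : VecSt.IsSubcurve X Y) {J : (VecSt.subsch X Y hY).Modules} (hJ : Coh.IsQCoh J)
    (htJ : TorSh.IsTorsionFree J) : TorSh.IsTorsionFree ((Coh.push (VecSt.subschι X Y hY)).obj J) := by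
  haveI := isReduced_subsch Y hY
  haveI : IsLocallyNoetherian (VecSt.subsch X Y hY) :=
    LocallyOfFiniteType.isLocallyNoetherian (VecSt.subschι X Y hY)
  refine torsionFree_of_generic fun U s hs => ?_
  refine TFCurvLib.eq_zero_of_germ_isField (F := J) hJ htJ (U := (VecSt.subschι X Y hY) ⁻¹ᵁ U) s fun y hy hf => ?_
  have h0 := hs _ hy (map_mem_genericPoints hY hYs (mem_genericPoints_of_isField hf))
  obtain ⟨W, hW, i₁, i₂, hres⟩ := TopCat.Presheaf.germ_eq ((Coh.push (VecSt.subschι X Y hY)).obj J).presheaf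
    ((VecSt.subschι X Y hY) y) hy hy s 0 (h0.trans (map_zero _).symm)
  rw [map_zero] at hres
  have hWU : W ≤ U := i₁.le
  exact AssLib.germ_eq_zero_of_res_eq_zero (M := J)
    (fun z hz => hWU hz : (VecSt.subschι X Y hY) ⁻¹ᵁ W ≤ (VecSt.subschι X Y hY) ⁻¹ᵁ U) hW _ hres

include hY in
/-- The stalks of a direct image from a subcurve. -/
theorem support_push (J : (VecSt.subsch X Y hY).Modules) :
    CohB1.support ((Coh.push (VecSt.subschι X Y hY)).obj J) = (VecSt.subschι X Y hY) '' CohB1.support J := by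
  ext x
  by_cases hx : x ∈ Set.range (VecSt.subschι X Y hY)
  · obtain ⟨z, rfl⟩ := hx
    rw [(VecSt.subschι X Y hY).isClosedEmbedding.injective.mem_set_image]
    obtain ⟨e, -⟩ := exists_stalkPushEquiv (VecSt.subschι X Y hY) z
    exact not_congr ⟨fun h => @Equiv.subsingleton _ _ (e J).symm.toEquiv h,
      fun h => @Equiv.subsingleton _ _ (e J).toEquiv h⟩
  · refine iff_of_false (fun h => h ?_) (fun ⟨z, _, hz⟩ => hx ⟨z, hz⟩)
    exact AddCommGrpCat.subsingleton_of_isZero (KFlatLib.isZero_stalk_push _ x hx J)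

variable {F : X.Modules} {π : F ⟶ G}

include hY in
/-- A torsion-free quotient is a torsion-free rank one sheaf on its subcurve. -/
theorem isTF1_pullback (hF : TFOne.IsRkOne X F) (h : TFOne.IsQuotOn X F Y G π) (hYs : VecSt.IsSubcurve X Y) :
    TFOne.IsTF1 (VecSt.subsch X Y hY) ((Scheme.Modules.pullback (VecSt.subschι X Y hY)).obj G) := by
  set ι := VecSt.subschι X Y hY with hι
  haveI := isReduced_subsch Y hY
  haveI : IsLocallyNoetherian (VecSt.subsch X Y hY) := LocallyOfFiniteType.isLocallyNoetherian ι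
  haveI : CompactSpace (VecSt.subsch X Y hY) := ι.isClosedEmbedding.compactSpace
  haveI : AlgebraicGeometry.IsNoetherian (VecSt.subsch X Y hY) := {}
  haveI hu := isIso_unit_subsch hY h.2.1.1 h.2.2.1 h.2.2.2.le
  refine ⟨ZClosLib.isCoh_pullback _ h.2.1, torsionFree_of_generic fun V s hs => ?_, fun z hz => ?_⟩
  · obtain ⟨O, hO, hOV⟩ := ι.isClosedEmbedding.isInducing.isOpen_iff.1 V.2
    obtain rfl : ι ⁻¹ᵁ ⟨O, hO⟩ = V := TopologicalSpace.Opens.ext hOV
    let u : G ⟶ (Scheme.Modules.pushforward ι).obj ((Scheme.Modules.pullback ι).obj G) :=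
      (Scheme.Modules.pullbackPushforwardAdjunction ι).unit.app G
    haveI : IsIso u := hu
    have hb : Function.Bijective (u.app ⟨O, hO⟩) := ConcreteCategory.bijective_of_isIso _
    obtain ⟨t, rfl⟩ := hb.2 s
    suffices ht : t = 0 by rw [ht]; exact map_zero (u.app _).hom
    refine TFCurvLib.eq_zero_of_germ_isField h.2.1.1 h.2.2.1 t fun y hy hf => ?_
    by_cases hyY : y ∈ Y
    · obtain ⟨w, rfl⟩ : y ∈ Set.range ι := by rw [range_subschι]; exact hyY
      have hw : w ∈ genericPoints (VecSt.subsch X Y hY) := by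
        obtain ⟨η, hη, hηw, -⟩ := isUnion_univ (X := VecSt.subsch X Y hY) w trivial
        rwa [eq_of_specializes_generic (mem_genericPoints_of_isField hf)
          (hηw.map ι.continuous) |> fun e => ι.isClosedEmbedding.injective e] at hη
      obtain ⟨e, -⟩ := exists_stalkPushEquiv ι w
      haveI : IsIso ((DerSch.stalkFunctor X (ι w)).map u) := inferInstance
      refine ((ConcreteCategory.isIso_iff_bijective _).1 this).1 ?_
      rw [map_zero]
      refine (DerSch.stalkFunctor_map_germ (ι w) u _ hy t).trans ?_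
      haveI hiso : IsIso (TopCat.Presheaf.stalkPushforward Ab.{u} ι.base
          ((Scheme.Modules.pullback ι).obj G).presheaf w) := KFlatLib.isIso_stalkPushforward_closed ι _ w
      refine ((ConcreteCategory.isIso_iff_bijective _).1 hiso).1 ?_
      rw [map_zero]
      exact (congr($(TopCat.Presheaf.stalkPushforward_germ Ab.{u} ι.base
        ((Scheme.Modules.pullback ι).obj G).presheaf ⟨O, hO⟩ w hy) (u.app ⟨O, hO⟩ t))).trans (hs w hy hw)
    · exact stalk_eq_zero h hyY _
  · have hη : ι z ∈ genericPoints X := map_mem_genericPoints hY hYs hz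
    have hηY : ι z ∈ Y := by
      have := Set.mem_range_self (f := ι) z
      rwa [range_subschι] at this
    obtain ⟨e⟩ := hF _ hη
    let eG : (DerSch.stalkFunctor X (ι z)).obj G ≃ₗ[X.presheaf.stalk (ι z)] X.presheaf.stalk (ι z) :=
      (LinearEquiv.ofBijective (st π (ι z)).hom (bijective_quot hF h hη hηY)).symm.trans e
    letI : Algebra (X.presheaf.stalk (ι z)) ((VecSt.subsch X Y hY).presheaf.stalk z) := (ι.stalkMap z).hom.toAlgebra
    let P := ((KFlatLib.stalkPullbackIso ι z).app G).toLinearEquiv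
    exact ⟨P.trans ((TensorProduct.AlgebraTensorModule.congr (LinearEquiv.refl
        ((VecSt.subsch X Y hY).presheaf.stalk z) ((VecSt.subsch X Y hY).presheaf.stalk z)) eG).trans
      (TensorProduct.AlgebraTensorModule.rid (X.presheaf.stalk (ι z)) ((VecSt.subsch X Y hY).presheaf.stalk z)
        ((VecSt.subsch X Y hY).presheaf.stalk z)))⟩

variable (k : Type u) [Field k] [X.Over (Spec (CommRingCat.of k))] [IsProper (X ↘ Spec (CommRingCat.of k))]

include hY in
/-- Quotients of a torsion-free quotient on its subcurve are quotients of the original sheaf. -/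
theorem exists_push_quot (h : TFOne.IsQuotOn X F Y G π) (hYs : VecSt.IsSubcurve X Y)
    {T : Set (VecSt.subsch X Y hY)} {G' : (VecSt.subsch X Y hY).Modules}
    {π' : (Scheme.Modules.pullback (VecSt.subschι X Y hY)).obj G ⟶ G'}
    (h' : TFOne.IsQuotOn (VecSt.subsch X Y hY) ((Scheme.Modules.pullback (VecSt.subschι X Y hY)).obj G) T G' π') :
    letI : (VecSt.subsch X Y hY).Over (Spec (CommRingCat.of k)) :=
      ⟨VecSt.subschι X Y hY ≫ (X ↘ Spec (CommRingCat.of k))⟩
    ∃ p : F ⟶ (Coh.push (VecSt.subschι X Y hY)).obj G',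
      TFOne.IsQuotOn X F ((VecSt.subschι X Y hY) '' T) ((Coh.push (VecSt.subschι X Y hY)).obj G') p ∧
        Curv2.euler k X ((Coh.push (VecSt.subschι X Y hY)).obj G') = Curv2.euler k (VecSt.subsch X Y hY) G' := by
  letI : (VecSt.subsch X Y hY).Over (Spec (CommRingCat.of k)) :=
    ⟨VecSt.subschι X Y hY ≫ (X ↘ Spec (CommRingCat.of k))⟩
  haveI hu := isIso_unit_subsch hY h.2.1.1 h.2.2.1 h.2.2.2.le
  haveI := h.1; haveI := h'.1
  haveI : IsLocallyNoetherian (VecSt.subsch X Y hY) := LocallyOfFiniteType.isLocallyNoetherian (VecSt.subschι X Y hY)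
  haveI : IsFinite (VecSt.subschι X Y hY) := inferInstance
  haveI := ExtShX.ClosedHom.preservesFiniteColimits_push (VecSt.subschι X Y hY)
  haveI : PreservesColimitsOfShape WalkingSpan (Scheme.Modules.pushforward (VecSt.subschι X Y hY)) :=
    PreservesFiniteColimits.preservesFiniteColimits WalkingSpan
  haveI hπ' : Epi π' := h'.1
  haveI : Epi ((Scheme.Modules.pushforward (VecSt.subschι X Y hY)).map π') := (Scheme.Modules.pushforward (VecSt.subschι X Y hY)).map_epi π'
  refine ⟨π ≫ (Scheme.Modules.pullbackPushforwardAdjunction (VecSt.subschι X Y hY)).unit.app G ≫ (Scheme.Modules.pushforward (VecSt.subschι X Y hY)).map π',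
    ⟨?_, QCoh.isCoh_pushforward_finite (VecSt.subschι X Y hY) h'.2.1, torsionFree_push hY hYs h'.2.1.1 h'.2.2.1, ?_⟩,
    AmpleDev.euler_push k (VecSt.subschι X Y hY) rfl h'.2.1.1⟩
  · exact @epi_comp _ _ _ _ _ π h.1 _ (@epi_comp _ _ _ _ _ _ inferInstance _ inferInstance)
  · rw [support_push hY, h'.2.2.2]

include hY k in
/-- Degrees on subcurves of a subcurve. -/
theorem degOn_sub (hdim : topologicalKrullDim X ≤ 1) {E : X.Modules} {r : ℕ}
    (hE : FlatMod.IsFinLocFreeOfRank r E) {T : Set (VecSt.subsch X Y hY)} (hT : IsClosed T)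
    (hTc : IsClosed ((VecSt.subschι X Y hY) '' T)) (uT : IsUnion ((VecSt.subschι X Y hY) '' T)) :
    letI : (VecSt.subsch X Y hY).Over (Spec (CommRingCat.of k)) :=
      ⟨VecSt.subschι X Y hY ≫ (X ↘ Spec (CommRingCat.of k))⟩
    degOn k T hT ((Scheme.Modules.pullback (VecSt.subschι X Y hY)).obj E) r =
      degOn k ((VecSt.subschι X Y hY) '' T) hTc E r := by
  letI : (VecSt.subsch X Y hY).Over (Spec (CommRingCat.of k)) :=
    ⟨VecSt.subschι X Y hY ≫ (X ↘ Spec (CommRingCat.of k))⟩
  set ι := VecSt.subschι X Y hY with hι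
  set ι' := VecSt.subschι (VecSt.subsch X Y hY) T hT with hι'
  letI : (VecSt.subsch (VecSt.subsch X Y hY) T hT).Over (Spec (CommRingCat.of k)) :=
    ⟨ι' ≫ ι ≫ (X ↘ Spec (CommRingCat.of k))⟩
  letI : (VecSt.subsch X (ι '' T) hTc).Over (Spec (CommRingCat.of k)) :=
    ⟨VecSt.subschι X (ι '' T) hTc ≫ (X ↘ Spec (CommRingCat.of k))⟩
  haveI : IsProper (VecSt.subsch (VecSt.subsch X Y hY) T hT ↘ Spec (CommRingCat.of k)) :=
    inferInstanceAs (IsProper (ι' ≫ ι ≫ (X ↘ Spec (CommRingCat.of k))))
  show Curv2.deg k (VecSt.subsch (VecSt.subsch X Y hY) T hT)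
    ((Scheme.Modules.pullback ι').obj ((Scheme.Modules.pullback ι).obj E)) r = Curv2.deg k _ _ r
  rw [show Curv2.deg k (VecSt.subsch (VecSt.subsch X Y hY) T hT)
      ((Scheme.Modules.pullback ι').obj ((Scheme.Modules.pullback ι).obj E)) r =
      Curv2.deg k (VecSt.subsch (VecSt.subsch X Y hY) T hT) ((Scheme.Modules.pullback (ι' ≫ ι)).obj E) r from
      congrArg (· - (r : ℤ) * Curv2.euler k (VecSt.subsch (VecSt.subsch X Y hY) T hT) (Coh.structureModule _))
        (Euler.euler_congr k ((Scheme.Modules.pullbackComp ι' ι).app E)),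
    ← CurveFinMap.eulerPsi_push k (ι' ≫ ι) (Category.assoc _ _ _) hE,
    ← CurveFinMap.eulerPsi_push k (VecSt.subschι X (ι '' T) hTc) rfl hE]
  haveI := isReduced_subsch T hT
  have hr : Set.range (ι' ≫ ι) = ι '' T := by
    rw [Scheme.Hom.comp_base, TopCat.coe_comp, Set.range_comp, range_subschι]
  obtain ⟨e, -⟩ := quot_iso (isTF1_structureModule (X := X)).2.2 (quot_oqi (ι' ≫ ι) hr uT) (quot_oq uT hTc)
  exact (CurvePsi.eulerPsi k hE).congr e

end Groth.Agent.TFQuot

end
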