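import Groth.Agent.TFQuot.Geom
import Groth.Agent.FlatMisc.GeomRedOpen
import Groth.Agent.FlatMisc.ApproxDim
import Groth.Agent.HilbSnap.Basic
import Groth.Agent.HilbSnap.HighEuler

/-!
# Fibres of a flat proper curve over a valuation ring with reduced special fibre
-/

set_option autoImplicit false
set_option linter.style.haveILetI false
set_option linter.unusedSectionVars false
set_option backward.isDefEq.respectTransparency false
set_option backward.isDefEq.respectTransparency.types false
set_option maxHeartbeats 1000000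

universe u

open CategoryTheory CategoryTheory.Limits AlgebraicGeometry TopologicalSpace

noncomputable section

namespace Groth.Agent.TFQuot

open Groth.Agent

theorem dim_fiber_field {K : Type u} [Field K] {Y : Scheme.{u}} (q : Y ⟶ Spec (CommRingCat.of K))
    (x : Spec (CommRingCat.of K)) : topologicalKrullDim ↥(q.fiber x) = topologicalKrullDim Y := by
  have h : (q ⁻¹' {x} : Set Y) = Set.univ := Set.eq_univ_of_forall fun z => Subsingleton.elim _ _
  exact ((q.fiberHomeo x).trans ((Homeomorph.setCongr h).trans (Homeomorph.Set.univ Y))).isHomeomorph.topologicalKrullDim_eq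

variable {R : Type u} [CommRing R] [IsLocalRing R] {X : Scheme.{u}} (f : X ⟶ Spec (CommRingCat.of R)) [Flat f]
  [IsProper f] {Xs : Scheme.{u}} [Xs.Over (Spec (CommRingCat.of (IsLocalRing.ResidueField R)))] (i : Xs ⟶ X)
  (hsq : IsPullback i (Xs ↘ Spec (CommRingCat.of (IsLocalRing.ResidueField R))) f
    (Spec.map (CommRingCat.ofHom (IsLocalRing.residue R))))
  [AlgebraicGeometry.IsReduced Xs]
  (hpure : ∀ C ∈ irreducibleComponents (Xs : Type u), topologicalKrullDim C = 1)
  (hgi : ∀ (C : Set Xs) (hC : C ∈ irreducibleComponents (Xs : Type u)), GeometricallyIntegral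
    (VecSt.subschι Xs C (isClosed_of_mem_irreducibleComponents C hC) ≫
      (Xs ↘ Spec (CommRingCat.of (IsLocalRing.ResidueField R)))))
  {Ω : Type u} [Field Ω] {t : Spec (CommRingCat.of Ω) ⟶ Spec (CommRingCat.of R)} {Y : Scheme.{u}} {j : Y ⟶ X}
  {qY : Y ⟶ Spec (CommRingCat.of Ω)} (hY : IsPullback j qY f t)

include hsq hgi hY in
/-- All geometric fibres are reduced. -/
theorem isReduced_fibre : AlgebraicGeometry.IsReduced Y := by
  let q := Xs ↘ Spec (CommRingCat.of (IsLocalRing.ResidueField R))
  haveI : GeometricallyReduced q := geometricallyReduced_of_components hgi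
  have hpt : Spec.map (CommRingCat.ofHom (IsLocalRing.residue R))
      (IsLocalRing.closedPoint (IsLocalRing.ResidueField R)) = IsLocalRing.closedPoint R :=
    IsLocalRing.comap_closedPoint (IsLocalRing.residue R)
  have h0 : IsLocalRing.closedPoint R ∈ FlatMisc.GeomRedConstr.locus f := by
    have h1 : IsLocalRing.closedPoint (IsLocalRing.ResidueField R) ∈ FlatMisc.GeomRedConstr.locus q :=
      MorphismProperty.of_isPullback (HilbSnap.isPullback_resHom (X := Xs) _) inferInstance
    rw [FlatMisc.GeomRedConstr.locus_preimage hsq, Set.mem_preimage, hpt] at h1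
    exact h1
  obtain ⟨⟨y', ψ⟩, rfl⟩ := (Scheme.SpecToEquivOfField Ω (Spec (CommRingCat.of R))).symm.surjective t
  have h1 := FlatMisc.GeomRedOpen.stable_generalization f (IsLocalRing.specializes_closedPoint y') h0
  haveI : AlgebraicGeometry.IsReduced
      (pullback f ((Scheme.SpecToEquivOfField Ω (Spec (CommRingCat.of R))).symm ⟨y', ψ⟩)) :=
    (FlatMisc.GeomRedConstr.geometricallyReduced_fiber_iff f y').1 h1 Ω (Spec.map ψ)
  exact isReduced_of_isOpenImmersion hY.isoPullback.hom

include hsq hpure hY in
/-- All geometric fibres are curves. -/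
theorem dim_fibre_le : topologicalKrullDim Y ≤ 1 := by
  let q := Xs ↘ Spec (CommRingCat.of (IsLocalRing.ResidueField R))
  haveI : IsProper q := MorphismProperty.of_isPullback hsq inferInstance
  haveI : IsLocallyNoetherian Xs := LocallyOfFiniteType.isLocallyNoetherian q
  have hpt : Spec.map (CommRingCat.ofHom (IsLocalRing.residue R))
      (IsLocalRing.closedPoint (IsLocalRing.ResidueField R)) = IsLocalRing.closedPoint R :=
    IsLocalRing.comap_closedPoint (IsLocalRing.residue R)
  have h0 : topologicalKrullDim ↥(f.fiber (IsLocalRing.closedPoint R)) ≤ ((1 : ℕ) : WithBot ℕ∞) := by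
    rw [← hpt, ← FlatMisc.ApproxDim.fibre_dim_baseChange hsq, dim_fiber_field]
    exact (dim_le_one hpure).trans_eq (by simp)
  have hall : ∀ x : X, FlatMor.fibreDimAt f x ≤ ((1 : ℕ) : WithBot ℕ∞) := by
    intro x
    by_contra hx
    obtain ⟨_, ⟨z, hz, rfl⟩, hzc⟩ : ∃ s ∈ f '' {x : X | FlatMor.fibreDimAt f x ≤ ((1 : ℕ) : WithBot ℕ∞)}ᶜ,
        s = IsLocalRing.closedPoint R := ⟨IsLocalRing.closedPoint R,
      (IsLocalRing.specializes_closedPoint (f x)).mem_closed
        (f.isClosedMap _ (FibDim.isOpen_fibreDimAt_le f 1).isClosed_compl) ⟨x, hx, rfl⟩, rfl⟩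
    refine hz ?_
    obtain ⟨w, -, hw, -, he⟩ := FibDim.exists_fibMax_generization f z
    show FlatMor.fibreDimAt f z ≤ ((1 : ℕ) : WithBot ℕ∞)
    rw [he]
    exact_mod_cast (FibDim.topologicalKrullDim_fiber_le_iff f _ 1).1 h0 w (hw.trans hzc)
  have h := FlatMisc.ApproxDim.fibre_dim_baseChange hY (IsLocalRing.closedPoint Ω)
  rw [dim_fiber_field] at h
  rw [h]
  refine le_trans ((FibDim.topologicalKrullDim_fiber_le_iff f _ 1).2 fun z _ => ?_) (le_of_eq (by simp))
  exact_mod_cast (FibDim.fibreDimAt_ge_rd f (specializes_refl z)).trans (hall z)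

end Groth.Agent.TFQuot

end
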