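import Groth.Agent.TFCurvLib.AssTF
import Groth.Agent.ExtShX.LinearHom
import Groth.Agent.ExtShX.Stalk
import Groth.Agent.Exactness.Local
import Groth.Agent.KFlatLib.Scheme.Exact
import Groth.Agent.HilbPoly.Simple
import Groth.Agent.H23.TopDim
import Groth.Agent.Lib.Euler
import Groth.Prelude.Def_TFOne

/-!
# Torsion-free quotients of rank one sheaves on reduced curves
-/

set_option autoImplicit false
set_option linter.style.haveILetI false
set_option linter.unusedSectionVars false
set_option backward.isDefEq.respectTransparency false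
set_option backward.isDefEq.respectTransparency.types false
set_option maxHeartbeats 1000000

universe u

open CategoryTheory CategoryTheory.Limits AlgebraicGeometry TopologicalSpace

noncomputable section

namespace Groth.Agent.TFQuot

open Groth.Agent

variable {X : Scheme.{u}}

/-- The map on stalks. -/
abbrev st {M N : X.Modules} (φ : M ⟶ N) (x : X) :
    (DerSch.stalkFunctor X x).obj M ⟶ (DerSch.stalkFunctor X x).obj N :=
  (DerSch.stalkFunctor X x).map φ

theorem st_comp {M N P : X.Modules} (φ : M ⟶ N) (ψ : N ⟶ P) (x : X) (v : (DerSch.stalkFunctor X x).obj M) :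
    st (φ ≫ ψ) x v = st ψ x (st φ x v) := by
  show (DerSch.stalkFunctor X x).map (φ ≫ ψ) v = _
  rw [Functor.map_comp, ModuleCat.comp_apply]

theorem st_zero {M N : X.Modules} (x : X) (v : (DerSch.stalkFunctor X x).obj M) :
    st (0 : M ⟶ N) x v = 0 := by
  show (DerSch.stalkFunctor X x).map (0 : M ⟶ N) v = _
  rw [Functor.map_zero]
  rfl

theorem st_sub {M N : X.Modules} (φ ψ : M ⟶ N) (x : X) (v : (DerSch.stalkFunctor X x).obj M) :
    st (φ - ψ) x v = st φ x v - st ψ x v := by
  show (DerSch.stalkFunctor X x).map (φ - ψ) v = _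
  rw [Functor.map_sub]
  rfl

theorem st_add {M N : X.Modules} (φ ψ : M ⟶ N) (x : X) (v : (DerSch.stalkFunctor X x).obj M) :
    st (φ + ψ) x v = st φ x v + st ψ x v := by
  show (DerSch.stalkFunctor X x).map (φ + ψ) v = _
  rw [Functor.map_add]
  rfl

theorem st_surjective {M N : X.Modules} (φ : M ⟶ N) [Epi φ] (x : X) : Function.Surjective (st φ x) :=
  (ModuleCat.epi_iff_surjective _).1 (inferInstance : Epi ((DerSch.stalkFunctor X x).map φ))

theorem st_injective {M N : X.Modules} (φ : M ⟶ N) [Mono φ] (x : X) : Function.Injective (st φ x) :=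
  (ModuleCat.mono_iff_injective _).1 (inferInstance : Mono ((DerSch.stalkFunctor X x).map φ))

theorem st_smulMod {k : Type u} [CommRing k] [X.Over (Spec (CommRingCat.of k))] (M : X.Modules) (c : k) (x : X)
    (v : (DerSch.stalkFunctor X x).obj M) :
    st (Formal.smulMod k M c) x v =
      X.presheaf.germ ⊤ x trivial (Coh.toGlobal (X ↘ Spec (CommRingCat.of k)) c) • v := by
  show (DerSch.stalkFunctor X x).map (Formal.smulMod k M c) v = _
  rw [ExtShX.stalk_smulMod]
  rfl

theorem mem_genericPoints_of_isField {y : X} (hy : IsField (X.presheaf.stalk y)) : y ∈ genericPoints X := by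
  obtain ⟨C, hC, hsub⟩ := exists_mem_irreducibleComponents_subset_of_isIrreducible _
    (isIrreducible_singleton (x := y)).closure
  obtain ⟨η, hη⟩ := QuasiSober.sober hC.1 (isClosed_of_mem_irreducibleComponents C hC)
  have h : η ⤳ y := hη.specializes (hsub (subset_closure rfl))
  obtain rfl := TFCurvLib.eq_of_specializes_of_isField hy h
  show closure ({η} : Set X) ∈ irreducibleComponents X
  rwa [hη.def]

theorem eq_of_specializes_generic {η y : X} (hη : η ∈ genericPoints X) (h : y ⤳ η) : y = η := by
  have h2 : closure ({y} : Set X) ⊆ closure {η} :=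
    hη.2 isIrreducible_singleton.closure (closure_minimal (Set.singleton_subset_iff.2 h.mem_closure) isClosed_closure)
  exact (h.antisymm (specializes_iff_mem_closure.2 (h2 (subset_closure rfl)))).eq

theorem isField_stalk_generic [AlgebraicGeometry.IsReduced X] {η : X} (hη : η ∈ genericPoints X) :
    IsField (X.presheaf.stalk η) := by
  haveI hsub : Subsingleton ↥(Spec (X.presheaf.stalk η)) := ⟨fun a b => by
    apply (X.fromSpecStalk η).isEmbedding.injective
    have key : ∀ a : ↥(Spec (X.presheaf.stalk η)), X.fromSpecStalk η a = η := fun a => by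
      refine eq_of_specializes_generic hη ?_
      have := Set.mem_range_self (f := X.fromSpecStalk η) a
      rwa [Scheme.range_fromSpecStalk] at this
    rw [key a, key b]⟩
  rw [IsLocalRing.isField_iff_maximalIdeal_eq, eq_bot_iff]
  intro r hr
  have hnil : r ∈ nilradical (X.presheaf.stalk η) := by
    rw [nilradical_eq_sInf, Submodule.mem_sInf]
    intro P hP
    have h := Subsingleton.elim (α := ↥(Spec (X.presheaf.stalk η))) (⟨P, hP⟩ : PrimeSpectrum _)
      (IsLocalRing.closedPoint _)
    rw [show P = IsLocalRing.maximalIdeal _ from congrArg PrimeSpectrum.asIdeal h]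
    exact hr
  exact (Submodule.mem_bot _).2 (IsNilpotent.eq_zero hnil)

variable [IsLocallyNoetherian X] [AlgebraicGeometry.IsReduced X]

/-- Maps into torsion-free modules vanish if they vanish at the generic points. -/
theorem hom_eq_zero {M G : X.Modules} (hG : Coh.IsQCoh G) (htG : TorSh.IsTorsionFree G) (φ : M ⟶ G)
    (h : ∀ η ∈ genericPoints X, ∀ v, st φ η v = 0) : φ = 0 := by
  refine Scheme.Modules.hom_ext _ _ fun U => ?_
  ext s
  refine TFCurvLib.eq_zero_of_germ_isField hG htG _ fun y hy hf => ?_
  exact (DerSch.stalkFunctor_map_germ y φ U hy s).symm.trans (h y (mem_genericPoints_of_isField hf) _)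

theorem subsingleton_stalk_iff {G : X.Modules} {x : X} :
    Subsingleton ((DerSch.stalkFunctor X x).obj G) ↔ x ∉ CohB1.support G := by
  simp only [CohB1.support, Set.mem_setOf_eq, not_not]
  rfl

theorem mem_support_of_rkOne {M : X.Modules} (hM : TFOne.IsRkOne X M) {η : X} (hη : η ∈ genericPoints X) :
    η ∈ CohB1.support M := fun hs => by
  obtain ⟨e⟩ := hM η hη
  haveI := hs
  exact not_subsingleton (X.presheaf.stalk η) e.symm.toEquiv.subsingleton

section Quot

variable {M G : X.Modules} {Y : Set X} {π : M ⟶ G}

theorem stalk_eq_zero (h : TFOne.IsQuotOn X M Y G π) {η : X} (hY : η ∉ Y) (v : (DerSch.stalkFunctor X η).obj G) :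
    v = 0 := by
  haveI : Subsingleton ((DerSch.stalkFunctor X η).obj G) := subsingleton_stalk_iff.2 (h.2.2.2 ▸ hY)
  exact Subsingleton.elim _ _

theorem bijective_quot (hM : TFOne.IsRkOne X M) (h : TFOne.IsQuotOn X M Y G π) {η : X} (hη : η ∈ genericPoints X)
    (hY : η ∈ Y) : Function.Bijective (st π η) := by
  haveI := h.1
  refine ⟨?_, st_surjective π η⟩
  obtain ⟨e⟩ := hM η hη
  letI := (isField_stalk_generic hη).toField
  rw [injective_iff_map_eq_zero]
  intro v hv
  by_contra hv0
  refine (show η ∈ CohB1.support G from h.2.2.2.symm ▸ hY) ?_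
  refine subsingleton_of_forall_eq 0 fun w => ?_
  obtain ⟨u, rfl⟩ := st_surjective π η w
  have hev : e v ≠ 0 := fun h0 => hv0 (e.map_eq_zero_iff.1 h0)
  have hu : u = (e u * (e v)⁻¹) • v := e.injective (by
    rw [map_smul, smul_eq_mul, mul_assoc, inv_mul_cancel₀ hev, mul_one])
  rw [hu, map_smul, hv, smul_zero]

/-- Endomorphisms and quotient maps respect torsion-free quotients. -/
theorem exists_factor (hM : TFOne.IsRkOne X M) {G' : X.Modules} {Y' : Set X} {π' : M ⟶ G'}
    (h : TFOne.IsQuotOn X M Y G π) (h' : TFOne.IsQuotOn X M Y' G' π') (hle : Y' ⊆ Y) (φ : M ⟶ M) :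
    ∃ r : G ⟶ G', π ≫ r = φ ≫ π' := by
  haveI := h.1
  have h0 : kernel.ι π ≫ φ ≫ π' = 0 := by
    refine hom_eq_zero h'.2.1.1 h'.2.2.1 _ fun η hη v => ?_
    by_cases hY : η ∈ Y'
    · have hv : st (kernel.ι π) η v = 0 := by
        refine (bijective_quot hM h hη (hle hY)).1 ?_
        rw [map_zero, ← st_comp, kernel.condition, st_zero]
      rw [st_comp, hv, map_zero]
    · exact stalk_eq_zero h' hY _
  exact ⟨Abelian.epiDesc π (φ ≫ π') h0, Abelian.comp_epiDesc _ _ _⟩

end Quot

/-- The nongeneric points of a curve are closed. -/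
theorem isClosed_singleton_of_notMem (hdim : topologicalKrullDim X ≤ 1) {x : X} (hx : x ∉ genericPoints X) :
    IsClosed ({x} : Set X) := by
  obtain ⟨C, hC, hsub⟩ := exists_mem_irreducibleComponents_subset_of_isIrreducible _
    (isIrreducible_singleton (x := x)).closure
  obtain ⟨η, hη⟩ := QuasiSober.sober hC.1 (isClosed_of_mem_irreducibleComponents C hC)
  have hxη : x ≠ η := fun he => hx (by
    show closure ({x} : Set X) ∈ irreducibleComponents X
    rwa [he, hη.def])
  have hs : η ⤳ x := hη.specializes (hsub (subset_closure rfl))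
  rw [← closure_eq_iff_isClosed]
  refine subset_antisymm (fun z hz => ?_) subset_closure
  by_contra hzx
  have key : ∀ {p q : X}, q ⤳ p → p ≠ q →
      (⟨closure {p}, isIrreducible_singleton.closure, isClosed_closure⟩ : IrreducibleCloseds X) <
        ⟨closure {q}, isIrreducible_singleton.closure, isClosed_closure⟩ := by
    intro p q h hne
    rw [← SetLike.coe_ssubset_coe]
    refine ⟨isClosed_closure.closure_subset_iff.2 (by simpa using h.mem_closure), fun hle => hne ?_⟩
    exact ((specializes_iff_mem_closure.2 (hle (subset_closure rfl))).antisymm h).eq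
  let s : LTSeries (IrreducibleCloseds X) :=
    RelSeries.cons ((RelSeries.singleton _ _).cons _ (key hs hxη))
      ⟨closure {z}, isIrreducible_singleton.closure, isClosed_closure⟩
      (by simp only [RelSeries.head_cons]; exact key (specializes_iff_mem_closure.2 hz) hzx)
  have h2 : (2 : WithBot ℕ∞) ≤ topologicalKrullDim X := by
    refine le_trans (le_of_eq ?_) (Order.LTSeries.length_le_krullDim s)
    simp only [s, RelSeries.cons_length, RelSeries.singleton_length]
    rfl
  exact absurd (h2.trans hdim) (by decide)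

/-- A coherent module vanishing at the generic points of a proper curve has nonnegative Euler characteristic. -/
theorem euler_nonneg (k : Type u) [Field k] [X.Over (Spec (CommRingCat.of k))]
    [IsProper (X ↘ Spec (CommRingCat.of k))] (hdim : topologicalKrullDim X ≤ 1) {K : X.Modules} (hK : Coh.IsCoh K)
    (h : ∀ η ∈ genericPoints X, η ∉ CohB1.support K) : 0 ≤ Curv2.euler k X K := by
  haveI : CompactSpace X := QuasiCompact.compactSpace_of_compactSpace (X ↘ Spec (CommRingCat.of k))
  haveI : IsNoetherian X := {}
  exact (Euler.euler_nonneg_of_good k hK (Euler.good_of_support hK fun x hx =>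
    closure_eq_iff_isClosed.2 (isClosed_singleton_of_notMem hdim fun hg => h x hg hx))).1

theorem dim_le_one (hpure : ∀ C ∈ irreducibleComponents (X : Type u), topologicalKrullDim C = 1) :
    topologicalKrullDim X ≤ 1 := by
  rw [H23.TopDim.dim_eq_iSup_irreducibleComponents]
  exact iSup₂_le fun C hC => (hpure C hC).le

end Groth.Agent.TFQuot

end
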