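import Groth.Agent.TFQuot.Push
import Groth.Agent.GeomField.GlobalFunctions
import Groth.Agent.GeomField.Irreducible
import Groth.Agent.ASB.Hom
import Groth.Agent.QCoh.Support
import Groth.Prelude.Def_KLin

/-!
# Endomorphisms of rank one sheaves on curves with geometrically integral components
-/

set_option autoImplicit false
set_option linter.style.haveILetI false
set_option linter.unusedSectionVars false
set_option backward.isDefEq.respectTransparency false
set_option backward.isDefEq.respectTransparency.types false
set_option maxHeartbeats 1000000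

universe u

open CategoryTheory CategoryTheory.Limits AlgebraicGeometry TopologicalSpace

noncomputable section

namespace Groth.Agent.TFQuot

open Groth.Agent

attribute [local instance] Curv2.resAlgebra Curv2.stalkAlgebra

variable {k : Type u} [Field k]

/-- The base field is algebraically closed in the function field of a geometrically integral scheme. -/
theorem mem_range_of_isIntegral {C : Scheme.{u}} [C.Over (Spec (CommRingCat.of k))] [IrreducibleSpace C]
    [AlgebraicGeometry.IsReduced C] [GeometricallyIntegral (C ↘ Spec (CommRingCat.of k))]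
    {a : C.presheaf.stalk (genericPoint C)} (ha : IsIntegral k a) :
    a ∈ Set.range (algebraMap k (C.presheaf.stalk (genericPoint C))) := by
  have hgen : genericPoint C ∈ genericPoints C := by
    show closure ({genericPoint C} : Set C) ∈ irreducibleComponents C
    rw [genericPoint_closure, irreducibleComponents_eq_singleton]
    rfl
  have hF : IsField (C.presheaf.stalk (genericPoint C)) := isField_stalk_generic hgen
  letI : Field (C.presheaf.stalk (genericPoint C)) := hF.toField
  haveI : Algebra.IsGeometricallyReduced k (C.presheaf.stalk (genericPoint C)) :=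
    (GeomField.isGeomReducedAt_iff _).1 ((GeomField.geometricallyReduced_iff (k := k) (X := C)).1 inferInstance _)
  let K : IntermediateField k (C.presheaf.stalk (genericPoint C)) := IntermediateField.adjoin k {a}
  haveI : FiniteDimensional k K := IntermediateField.adjoin.finiteDimensional ha
  haveI : Algebra.IsGeometricallyReduced k K := by
    rw [GeomField.gr_iff]
    haveI := (GeomField.gr_iff (k := k) (C.presheaf.stalk (genericPoint C))).1 inferInstance
    exact isReduced_of_injective (Algebra.TensorProduct.map K.val (AlgHom.id k (AlgebraicClosure k)))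
      (TensorProduct.map_injective_of_flat_flat K.val.toLinearMap LinearMap.id Subtype.val_injective
        Function.injective_id)
  haveI : Algebra.IsSeparable k K := GeomField.isSeparable_of_gr k K
  have hsep : _root_.IsSeparable k a := by
    have := Algebra.IsSeparable.isSeparable k (⟨a, IntermediateField.mem_adjoin_simple_self k a⟩ : K)
    change (minpoly k _).Separable at this
    rw [← minpoly.algHom_eq K.val Subtype.val_injective] at this
    exact this
  let r : C.presheaf.stalk (genericPoint C) →ₐ[k] C.residueField (genericPoint C) :=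
    { toRingHom := (C.residue (genericPoint C)).hom, commutes' := fun _ => rfl }
  have hr : Function.Injective r := r.toRingHom.injective
  have hsep' : _root_.IsSeparable k (r a) := by
    show (minpoly k (r a)).Separable
    rw [minpoly.algHom_eq r hr]
    exact hsep
  obtain ⟨c, hc⟩ := (GeomField.geometricallyIrreducible_iff_separable (k := k) (X := C)).1 inferInstance _ hsep'
  exact ⟨c, hr ((r.commutes c).trans hc)⟩

variable {X : Scheme.{u}} [X.Over (Spec (CommRingCat.of k))]

/-- On a scheme with geometrically integral components integral elements of the generic local rings are scalars. -/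
theorem exists_scalar [AlgebraicGeometry.IsReduced X]
    (hgi : ∀ (C : Set X) (hC : C ∈ irreducibleComponents (X : Type u)), GeometricallyIntegral
      (VecSt.subschι X C (isClosed_of_mem_irreducibleComponents C hC) ≫ (X ↘ Spec (CommRingCat.of k))))
    {η : X} (hη : η ∈ genericPoints X) {a : X.presheaf.stalk η} (ha : IsIntegral k a) :
    ∃ c : k, algebraMap k (X.presheaf.stalk η) c = a := by
  obtain ⟨C, hCη⟩ : ∃ C : Set X, C = closure {η} := ⟨_, rfl⟩
  have hC : C ∈ irreducibleComponents X := hCη.symm ▸ hη
  have hcl := isClosed_of_mem_irreducibleComponents C hC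
  haveI hgiC := hgi C hC
  obtain ⟨y, rfl⟩ : η ∈ Set.range (VecSt.subschι X C hcl) := by
    rw [range_subschι, hCη]
    exact subset_closure rfl
  set ι := VecSt.subschι X C hcl with hι
  letI : (VecSt.subsch X C hcl).Over (Spec (CommRingCat.of k)) := ⟨ι ≫ (X ↘ Spec (CommRingCat.of k))⟩
  haveI : GeometricallyIntegral (VecSt.subsch X C hcl ↘ Spec (CommRingCat.of k)) := hgiC
  haveI := isReduced_subsch _ hcl
  have hy : IsGenericPoint y (Set.univ : Set (VecSt.subsch X C hcl)) := by
    refine Set.eq_univ_of_forall fun z => ?_
    rw [← specializes_iff_mem_closure, ← ι.isClosedEmbedding.isInducing.specializes_iff,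
      specializes_iff_mem_closure, ← hCη]
    have := Set.mem_range_self (f := ι) z
    rwa [range_subschι] at this
  haveI : IrreducibleSpace (VecSt.subsch X C hcl) := by
    haveI : Nonempty (VecSt.subsch X C hcl) := ⟨y⟩
    refine (irreducibleSpace_def _).2 ?_
    show IsIrreducible (Set.univ : Set (VecSt.subsch X C hcl))
    rw [← hy.def]
    exact isIrreducible_singleton.closure
  obtain rfl : y = genericPoint (VecSt.subsch X C hcl) :=
    (hy.eq (genericPoint_spec _))
  let σ : X.presheaf.stalk (ι (genericPoint _)) →ₐ[k] (VecSt.subsch X C hcl).presheaf.stalk (genericPoint _) :=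
    { toRingHom := (ι.stalkMap _).hom
      commutes' := fun c => by
        show ι.stalkMap _ (X.presheaf.germ ⊤ (ι _) trivial (Coh.toGlobal (X ↘ Spec (CommRingCat.of k)) c)) = _
        rw [Scheme.Hom.germ_stalkMap_apply]
        exact congrArg ((VecSt.subsch X C hcl).presheaf.germ ⊤ _ trivial)
          (KLin.toGlobal_comp ι (X ↘ Spec (CommRingCat.of k)) c).symm }
  obtain ⟨c, hc⟩ := mem_range_of_isIntegral (ha.map σ)
  letI := (isField_stalk_generic hη).toField
  exact ⟨c, σ.toRingHom.injective ((σ.commutes c).trans hc)⟩

/-- The eigenvalue at a point where the sheaf is free of rank one. -/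
def ev {I : X.Modules} {η : X} (e : I.presheaf.stalk η ≃ₗ[X.presheaf.stalk η] X.presheaf.stalk η) :
    CategoryTheory.End I →ₐ[k] X.presheaf.stalk η :=
  AlgHom.ofLinearMap
    { toFun := fun ψ => e (st ψ η (e.symm 1))
      map_add' := fun ψ χ => by
        rw [← map_add, ← st_add]
      map_smul' := fun c ψ => by
        show e (st (c • ψ) η (e.symm 1)) = c • e (st ψ η (e.symm 1))
        rw [KLin.smul_def, st_comp, st_smulMod, map_smul, map_smul, Algebra.smul_def]
        rfl }
    (by
      show e (st (𝟙 I) η (e.symm 1)) = 1
      rw [show st (𝟙 I) η = 𝟙 _ from CategoryTheory.Functor.map_id _ _]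
      exact e.apply_symm_apply 1)
    (fun ψ χ => by
      show e (st (χ ≫ ψ) η (e.symm 1)) = e (st ψ η (e.symm 1)) * e (st χ η (e.symm 1))
      rw [st_comp]
      set w : (DerSch.stalkFunctor X η).obj I := st χ η (e.symm 1) with hw
      have h : w = (e w : X.presheaf.stalk η) • (e.symm 1 : (DerSch.stalkFunctor X η).obj I) :=
        e.injective (by rw [map_smul, e.apply_symm_apply, smul_eq_mul, mul_one])
      conv_lhs => rw [h]
      rw [map_smul, map_smul, smul_eq_mul, mul_comm])

theorem st_eq_ev_smul {I : X.Modules} {η : X} (e : I.presheaf.stalk η ≃ₗ[X.presheaf.stalk η] X.presheaf.stalk η)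
    (ψ : I ⟶ I) (v : (DerSch.stalkFunctor X η).obj I) :
    st ψ η v = (ev (k := k) e ψ : X.presheaf.stalk η) • v := by
  have h : v = (e v : X.presheaf.stalk η) • (e.symm 1 : (DerSch.stalkFunctor X η).obj I) :=
    e.injective (by rw [map_smul, e.apply_symm_apply, smul_eq_mul, mul_one])
  refine e.injective ?_
  conv_lhs => rw [h, map_smul, map_smul]
  rw [map_smul, smul_eq_mul, smul_eq_mul, mul_comm]
  rfl

/-- The support of a torsion-free sheaf is a union of components. -/
theorem isSubcurve_support [AlgebraicGeometry.IsNoetherian X] [AlgebraicGeometry.IsReduced X] {G : X.Modules}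
    (hG : Coh.IsCoh G) (htG : TorSh.IsTorsionFree G) {η₁ : X} (hη₁ : η₁ ∈ genericPoints X)
    (h₁ : η₁ ∈ CohB1.support G) : VecSt.IsSubcurve X (CohB1.support G) := by
  classical
  let 𝒮 : Set (Set X) := (fun η => closure {η}) '' {η | η ∈ genericPoints X ∧ η ∈ CohB1.support G}
  have hsub : 𝒮 ⊆ irreducibleComponents X := by
    rintro _ ⟨η, hη, rfl⟩
    exact hη.1
  refine ⟨𝒮, hsub, ⟨_, η₁, ⟨hη₁, h₁⟩, rfl⟩, subset_antisymm (fun x hx => ?_) ?_⟩
  · by_contra hxS
    have hcl : IsClosed (⋃₀ 𝒮) := by
      rw [Set.sUnion_eq_biUnion]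
      exact Set.Finite.isClosed_biUnion (NoetherianSpace.finite_irreducibleComponents.subset hsub)
        fun C hC => isClosed_of_mem_irreducibleComponents C (hsub hC)
    refine hx (subsingleton_of_forall_eq 0 fun v => ?_)
    obtain ⟨U, hxU, s, rfl⟩ := G.presheaf.exists_germ_eq v
    let W : X.Opens := ⟨(U : Set X) ∩ (⋃₀ 𝒮)ᶜ, U.2.inter hcl.isOpen_compl⟩
    have h0 : G.presheaf.map (homOfLE (show W ≤ U from Set.inter_subset_left)).op s = 0 :=
      TFCurvLib.eq_zero_of_germ_isField hG.1 htG (U := W) _ fun y hy hf => by
        haveI : Subsingleton ((DerSch.stalkFunctor X y).obj G) := subsingleton_stalk_iff.2 fun hys =>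
          hy.2 (Set.mem_sUnion.2 ⟨_, ⟨y, ⟨mem_genericPoints_of_isField hf, hys⟩, rfl⟩, subset_closure rfl⟩)
        exact Subsingleton.elim (α := (DerSch.stalkFunctor X y).obj G) _ _
    rw [← TopCat.Presheaf.germ_res_apply G.presheaf (homOfLE (show W ≤ U from Set.inter_subset_left)) x
      ⟨hxU, hxS⟩ s, h0, map_zero]
  · rintro x ⟨_, ⟨η, hη, rfl⟩, hx⟩
    exact closure_minimal (Set.singleton_subset_iff.2 hη.2)
      (QCoh.isClosed_support_of_isFT hG.1 hG.2) hx

/-- A subcurve contains a generic point. -/
theorem exists_generic_mem {Z : Set X} (hZ : VecSt.IsSubcurve X Z) : ∃ η ∈ genericPoints X, η ∈ Z := by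
  obtain ⟨S, hS, ⟨C, hC⟩, rfl⟩ := hZ
  obtain ⟨η, hη⟩ := QuasiSober.sober (hS hC).1 (isClosed_of_mem_irreducibleComponents C (hS hC))
  exact ⟨η, by show closure ({η} : Set X) ∈ irreducibleComponents X; rw [hη.def]; exact hS hC,
    Set.mem_sUnion.2 ⟨C, hC, hη.mem⟩⟩

theorem torsionFree_of_mono {G M : X.Modules} (i : G ⟶ M) [Mono i] (hM : TorSh.IsTorsionFree M) :
    TorSh.IsTorsionFree G := fun x => by
  haveI : Module.IsTorsionFree (X.presheaf.stalk x) ((DerSch.stalkFunctor X x).obj M) := hM x
  exact (st_injective i x).moduleIsTorsionFree (st i x : _ → _) fun r v => (st i x).hom.map_smul r v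

end Groth.Agent.TFQuot

end
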