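import Groth.Agent.TFQuot.Basic
import Groth.Agent.ExtShX.ClosedHom
import Groth.Agent.KFlatLib.Scheme.ClosedPush
import Groth.Agent.H23.RedSub
import Groth.Agent.Bdd.Smul
import Groth.Prelude.Def_VecSt

/-!
# Sheaves on subcurves seen on the curve
-/

set_option autoImplicit false
set_option linter.style.haveILetI false
set_option linter.unusedSectionVars false
set_option backward.isDefEq.respectTransparency false
set_option backward.isDefEq.respectTransparency.types false
set_option maxHeartbeats 1000000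

universe u

open CategoryTheory CategoryTheory.Limits AlgebraicGeometry TopologicalSpace

noncomputable section

namespace Groth.Agent.TFQuot

open Groth.Agent

variable {X : Scheme.{u}}

theorem isReduced_subsch (Z : Set X) (hZ : IsClosed Z) : AlgebraicGeometry.IsReduced (VecSt.subsch X Z hZ) :=
  H23.RedSub.isReduced_subscheme fun U => by
    rw [Scheme.IdealSheafData.vanishingIdeal_ideal]
    exact PrimeSpectrum.isRadical_vanishingIdeal _

theorem range_subschι (Z : Set X) (hZ : IsClosed Z) : Set.range (VecSt.subschι X Z hZ) = Z := by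
  rw [Scheme.IdealSheafData.range_subschemeι]
  exact Scheme.IdealSheafData.coe_support_vanishingIdeal ⟨Z, hZ⟩

/-- The generic points of a union of components are generic points of the whole. -/
theorem map_mem_genericPoints [AlgebraicGeometry.IsNoetherian X] {Z : Set X} (hZ : IsClosed Z)
    (hZs : VecSt.IsSubcurve X Z) {z : VecSt.subsch X Z hZ} (hz : z ∈ genericPoints (VecSt.subsch X Z hZ)) :
    (VecSt.subschι X Z hZ) z ∈ genericPoints X := by
  obtain ⟨S, hS, -, hZS⟩ := hZs
  have hmem : (VecSt.subschι X Z hZ) z ∈ Z := by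
    have := Set.mem_range_self (f := VecSt.subschι X Z hZ) z
    rwa [range_subschι] at this
  obtain ⟨C, hC, hzC⟩ : ∃ C ∈ S, (VecSt.subschι X Z hZ) z ∈ C := by
    simpa [hZS] using hmem
  obtain ⟨η, hη⟩ := QuasiSober.sober (hS hC).1 (isClosed_of_mem_irreducibleComponents C (hS hC))
  obtain ⟨y, hy⟩ : η ∈ Set.range (VecSt.subschι X Z hZ) := by
    rw [range_subschι, hZS]
    exact Set.mem_sUnion.2 ⟨C, hC, hη.mem⟩
  have hspec : y ⤳ z := (VecSt.subschι X Z hZ).isClosedEmbedding.isInducing.specializes_iff.1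
    (by rw [hy]; exact hη.specializes hzC)
  rw [← eq_of_specializes_generic hz hspec, hy]
  show closure ({η} : Set X) ∈ irreducibleComponents X
  rw [hη.def]
  exact hS hC

/-- Maps into a torsion-free sheaf pushed forward from a subcurve vanish if they vanish at generic points. -/
theorem hom_push_eq_zero [AlgebraicGeometry.IsNoetherian X] {Z : Set X} {hZ : IsClosed Z}
    (hZs : VecSt.IsSubcurve X Z) {J : (VecSt.subsch X Z hZ).Modules} (hJ : Coh.IsQCoh J) (htJ : TorSh.IsTorsionFree J)
    {A : X.Modules} (φ : A ⟶ (Coh.push (VecSt.subschι X Z hZ)).obj J)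
    (h : ∀ η ∈ genericPoints X, ∀ v, st φ η v = 0) : φ = 0 := by
  haveI := isReduced_subsch Z hZ
  haveI : IsLocallyNoetherian (VecSt.subsch X Z hZ) :=
    LocallyOfFiniteType.isLocallyNoetherian (VecSt.subschι X Z hZ)
  refine Scheme.Modules.hom_ext _ _ fun U => ?_
  ext s
  refine TFCurvLib.eq_zero_of_germ_isField (F := J) hJ htJ (U := (VecSt.subschι X Z hZ) ⁻¹ᵁ U) _ fun y hy hf => ?_
  have hg := map_mem_genericPoints hZ hZs (mem_genericPoints_of_isField hf)
  have h0 := (DerSch.stalkFunctor_map_germ ((VecSt.subschι X Z hZ) y) φ U hy s).symm.trans (h _ hg _)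
  obtain ⟨W, hW, i₁, i₂, hres⟩ := TopCat.Presheaf.germ_eq ((Coh.push (VecSt.subschι X Z hZ)).obj J).presheaf
    ((VecSt.subschι X Z hZ) y) hy hy _ 0 (h0.trans (map_zero _).symm)
  rw [map_zero] at hres
  have hWU : W ≤ U := i₁.le
  exact AssLib.germ_eq_zero_of_res_eq_zero (M := J)
    (fun z hz => hWU hz : (VecSt.subschι X Z hZ) ⁻¹ᵁ W ≤ (VecSt.subschι X Z hZ) ⁻¹ᵁ U) hW _ hres

/-- Outside the subcurve the pushforward has no stalk. -/
theorem push_stalk_eq_zero {Z : Set X} {hZ : IsClosed Z} (J : (VecSt.subsch X Z hZ).Modules) {x : X} (hx : x ∉ Z)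
    (v : (DerSch.stalkFunctor X x).obj ((Coh.push (VecSt.subschι X Z hZ)).obj J)) : v = 0 := by
  haveI : Subsingleton ((DerSch.stalkFunctor X x).obj ((Coh.push (VecSt.subschι X Z hZ)).obj J)) :=
    AddCommGrpCat.subsingleton_of_isZero
      (KFlatLib.isZero_stalk_push (VecSt.subschι X Z hZ) x (by rwa [range_subschι]) J)
  exact Subsingleton.elim _ _

/-- Endomorphisms of the pushforward of a simple sheaf are scalars. -/
theorem push_simple {k : Type u} [Field k] [X.Over (Spec (CommRingCat.of k))] {Z : Set X} {hZ : IsClosed Z}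
    {J : (VecSt.subsch X Z hZ).Modules}
    (hJ : TFOne.IsSimple (VecSt.subsch X Z hZ) k (VecSt.subschι X Z hZ ≫ (X ↘ Spec (CommRingCat.of k))) J)
    (φ : (Coh.push (VecSt.subschι X Z hZ)).obj J ⟶ (Coh.push (VecSt.subschι X Z hZ)).obj J) :
    ∃ c : k, φ = Formal.smulMod k _ c := by
  obtain ⟨c, hc⟩ := hJ.2 ((ExtShX.ClosedHom.fullyFaithful (VecSt.subschι X Z hZ)).preimage φ)
  refine ⟨c, ?_⟩
  rw [← (ExtShX.ClosedHom.fullyFaithful (VecSt.subschι X Z hZ)).map_preimage φ, hc]
  letI : (VecSt.subsch X Z hZ).Over (Spec (CommRingCat.of k)) := ⟨VecSt.subschι X Z hZ ≫ (X ↘ Spec (CommRingCat.of k))⟩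
  have h1 : Coh.toGlobal (VecSt.subschι X Z hZ ≫ (X ↘ Spec (CommRingCat.of k))) c =
      (VecSt.subschι X Z hZ).appTop (Coh.toGlobal (X ↘ Spec (CommRingCat.of k)) c) :=
    KLin.toGlobal_comp _ _ _
  refine Scheme.Modules.hom_ext _ _ fun V => ?_
  ext s
  have h2 := congr(($(Bdd.pushforward_smulHom (VecSt.subschι X Z hZ)
    (Coh.toGlobal (X ↘ Spec (CommRingCat.of k)) c) J)).app V s)
  rw [← h1] at h2
  exact h2

/-- The pushforward of a nonzero sheaf is nonzero. -/
theorem push_ne_zero {Z : Set X} {hZ : IsClosed Z} {J : (VecSt.subsch X Z hZ).Modules} (hJ : ¬ IsZero J) :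
    ¬ IsZero ((Coh.push (VecSt.subschι X Z hZ)).obj J) := fun h => by
  refine hJ ((IsZero.iff_id_eq_zero J).2 ((ExtShX.ClosedHom.fullyFaithful (VecSt.subschι X Z hZ)).map_injective ?_))
  exact h.eq_of_src _ _

end Groth.Agent.TFQuot

end
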