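import Groth.Agent.TFQuot.ModifDvr
import Groth.Agent.KRRReg.LamPull

/-!
# The numbers `β` of a modification
-/

set_option autoImplicit false
set_option linter.style.haveILetI false
set_option linter.unusedSectionVars false
set_option backward.isDefEq.respectTransparency false
set_option backward.isDefEq.respectTransparency.types false
set_option maxHeartbeats 1000000

universe u

open CategoryTheory CategoryTheory.Limits AlgebraicGeometry TopologicalSpace

noncomputable section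

namespace Groth.Agent.TFQuot

open Groth.Agent

variable {k : Type u} [Field k] {X : Scheme.{u}} [X.Over (Spec (CommRingCat.of k))]

/-- The degree of `E` on the reduced closed subscheme on `Z`. -/
def degOn (k : Type u) [Field k] [X.Over (Spec (CommRingCat.of k))] (Z : Set X) (hZ : IsClosed Z) (E : X.Modules)
    (r : ℕ) : ℤ :=
  letI : (VecSt.subsch X Z hZ).Over (Spec (CommRingCat.of k)) :=
    ⟨VecSt.subschι X Z hZ ≫ (X ↘ Spec (CommRingCat.of k))⟩
  Curv2.deg k (VecSt.subsch X Z hZ) ((Scheme.Modules.pullback (VecSt.subschι X Z hZ)).obj E) r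

theorem rBeta_eq (Z : Set X) (hZ : IsClosed Z) (E : X.Modules) (r : ℕ) (G : X.Modules) :
    TFOne.rBeta X k (X ↘ Spec (CommRingCat.of k)) Z hZ E r G = (r : ℤ) * Curv2.euler k X G + degOn k Z hZ E r :=
  rfl

theorem degOn_congr {Y Z : Set X} (h : Y = Z) (hY : IsClosed Y) (hZ : IsClosed Z) (E : X.Modules) (r : ℕ) :
    degOn k Y hY E r = degOn k Z hZ E r := by
  subst h
  rfl

variable [IsProper (X ↘ Spec (CommRingCat.of k))] [AlgebraicGeometry.IsReduced X] {E : X.Modules} {r : ℕ}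

include k in
theorem degOn_union_meet (hdim : topologicalKrullDim X ≤ 1) (hE : FlatMod.IsFinLocFreeOfRank r E) {Y Z U W : Set X}
    (hY : IsClosed Y) (hZ : IsClosed Z) (hUc : IsClosed U)
    (hWc : IsClosed W) (uY : IsUnion Y) (uZ : IsUnion Z) (uU : IsUnion U) (uW : IsUnion W)
    (hU : ∀ η ∈ genericPoints X, η ∈ U ↔ η ∈ Y ∨ η ∈ Z) (hW : ∀ η ∈ genericPoints X, η ∈ W ↔ η ∈ Y ∧ η ∈ Z) :
    degOn k U hUc E r + degOn k W hWc E r = degOn k Y hY E r + degOn k Z hZ E r :=
  deg_union_meet k hdim hE hY hZ hUc hWc uY uZ uU uW hU hW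

include k in
theorem euler_of_isEmpty {M : X.Modules} {G : X.Modules} {π : M ⟶ G} (h : TFOne.IsQuotOn X M ∅ G π) :
    Curv2.euler k X G = 0 := by
  have hz : IsZero G := CurveCohLib.isZero_of_subsingleton_stalks fun x => not_not.1 fun hx =>
    Set.notMem_empty x (h.2.2.2 ▸ (hx : x ∈ CohB1.support G))
  rw [Euler.euler_eq_sum k G 0 fun i _ => Euler.subsingleton_HH_of_isZero hz i, Finset.sum_range_zero]

include k in
theorem degOn_empty (hE : FlatMod.IsFinLocFreeOfRank r E) : degOn k (∅ : Set X) isClosed_empty E r = 0 := by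
  letI : (VecSt.subsch X ∅ isClosed_empty).Over (Spec (CommRingCat.of k)) :=
    ⟨VecSt.subschι X ∅ isClosed_empty ≫ (X ↘ Spec (CommRingCat.of k))⟩
  haveI := CurveCohLib.isNoetherian_of_proper (k := k) (X := X)
  show Curv2.deg k _ _ r = 0
  rw [← CurveFinMap.eulerPsi_push k (VecSt.subschι X ∅ isClosed_empty) rfl hE]
  have h := quot_oq (X := X) (Z := ∅) (fun x hx => absurd hx (Set.notMem_empty x)) isClosed_empty
  exact (CurvePsi.eulerPsi k hE).zero h.2.1 fun x hx => absurd (h.2.2.2 ▸ hx) (Set.notMem_empty x)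

include k in
theorem euler_univ {M G : X.Modules} {π : M ⟶ G} (hM : TFOne.IsTF1 X M) (h : TFOne.IsQuotOn X M Set.univ G π) :
    Curv2.euler k X G = Curv2.euler k X M := by
  haveI := CurveCohLib.isNoetherian_of_proper (k := k) (X := X)
  obtain ⟨e, -⟩ := quot_iso hM.2.2 h (quot_id hM)
  exact Euler.euler_congr k e

include k in
theorem degOn_univ (hdim : topologicalKrullDim X ≤ 1) (hE : FlatMod.IsFinLocFreeOfRank r E) :
    degOn k (Set.univ : Set X) isClosed_univ E r = Curv2.deg k X E r :=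
  deg_univ k hdim hE

include k in
theorem rBeta_univ (hdim : topologicalKrullDim X ≤ 1) {M G : X.Modules} {π : M ⟶ G} (hM : TFOne.IsTF1 X M)
    (h : TFOne.IsQuotOn X M Set.univ G π) (hE : FlatMod.IsFinLocFreeOfRank r E) {d : ℤ}
    (hχ : Curv2.euler k X M = d) (hd : Curv2.deg k X E r = -(r : ℤ) * d) :
    TFOne.rBeta X k (X ↘ Spec (CommRingCat.of k)) Set.univ isClosed_univ E r G = 0 := by
  rw [rBeta_eq, euler_univ hM h, hχ, degOn_univ hdim hE, hd]
  ring

include k in
theorem rBeta_empty {M G : X.Modules} {π : M ⟶ G} (h : TFOne.IsQuotOn X M ∅ G π)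
    (hE : FlatMod.IsFinLocFreeOfRank r E) :
    TFOne.rBeta X k (X ↘ Spec (CommRingCat.of k)) ∅ isClosed_empty E r G = 0 := by
  rw [rBeta_eq, euler_of_isEmpty h, degOn_empty hE, mul_zero, add_zero]

variable {F F' G : X.Modules} {Y : Set X} {π : F ⟶ G} (m : Modif Y π F')

include k m in
/-- `β(W) + β(Y ∪ Z) ≤ β'(Z) + β(Y)`. -/
theorem rBeta_modif (hF : TFOne.IsTF1 X F) (hdim : topologicalKrullDim X ≤ 1) (hE : FlatMod.IsFinLocFreeOfRank r E)
    {Z U W : Set X} {hY : IsClosed Y} {hZ : IsClosed Z} {hUc : IsClosed U} {hWc : IsClosed W} (uY : IsUnion Y)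
    (uZ : IsUnion Z) (uU : IsUnion U) (uW : IsUnion W) (hU : ∀ η ∈ genericPoints X, η ∈ U ↔ η ∈ Y ∨ η ∈ Z)
    (hW : ∀ η ∈ genericPoints X, η ∈ W ↔ η ∈ Y ∧ η ∈ Z)
    {G1 GW GU : X.Modules} {π1 : F' ⟶ G1} {πW : F ⟶ GW} {πU : F ⟶ GU} (h1 : TFOne.IsQuotOn X F' Z G1 π1)
    (hGW : TFOne.IsQuotOn X F W GW πW) (hGU : TFOne.IsQuotOn X F U GU πU) :
    TFOne.rBeta X k (X ↘ Spec (CommRingCat.of k)) W hWc E r GW +
        TFOne.rBeta X k (X ↘ Spec (CommRingCat.of k)) U hUc E r GU ≤
      TFOne.rBeta X k (X ↘ Spec (CommRingCat.of k)) Z hZ E r G1 +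
        TFOne.rBeta X k (X ↘ Spec (CommRingCat.of k)) Y hY E r G := by
  have h := (euler_quot_modif (k := k) m hF hdim h1 hGW hGU (uW.subset hY fun η hη h => ((hW η hη).1 h).1)
    (uW.subset hZ fun η hη h => ((hW η hη).1 h).2) (uY.subset hUc fun η hη h => (hU η hη).2 (.inl h))
    (uZ.subset hUc fun η hη h => (hU η hη).2 (.inr h)) (fun η hη h h' => (hW η hη).2 ⟨h, h'⟩)
    fun η hη h => (hU η hη).1 h).1
  have hd := degOn_union_meet (k := k) hdim hE hY hZ hUc hWc uY uZ uU uW hU hW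
  simp only [rBeta_eq]
  nlinarith [mul_le_mul_of_nonneg_left h (Int.natCast_nonneg r)]

theorem isUnion_comps {P : Set X → Prop} :
    IsUnion (⋃₀ {C | C ∈ irreducibleComponents (X : Type u) ∧ P C}) :=
  isUnion_sUnion fun _ hC => hC.1

omit [X.Over (Spec (CommRingCat.of k))] [IsProper (X ↘ Spec (CommRingCat.of k))] in
theorem isClosed_comps [NoetherianSpace X] {P : Set X → Prop} :
    IsClosed (⋃₀ {C | C ∈ irreducibleComponents (X : Type u) ∧ P C}) := by
  rw [Set.sUnion_eq_biUnion]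
  exact Set.Finite.isClosed_biUnion
    (TopologicalSpace.NoetherianSpace.finite_irreducibleComponents.subset fun C hC => hC.1)
    fun C hC => isClosed_of_mem_irreducibleComponents C hC.1

theorem mem_meet_iff {Y Z W : Set X} (hW : W = ⋃₀ {C | C ∈ irreducibleComponents (X : Type u) ∧ C ⊆ Y ∩ Z})
    (hY : IsClosed Y) (hZ : IsClosed Z) {η : X} (hη : η ∈ genericPoints X) : η ∈ W ↔ η ∈ Y ∧ η ∈ Z := by
  rw [hW, mem_sUnion_components_iff hη, generic_closure_subset_iff (hY.inter hZ)]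
  exact Iff.rfl

theorem mem_compl_iff {Y Y' : Set X} (hY' : Y' = ⋃₀ {C | C ∈ irreducibleComponents (X : Type u) ∧ ¬ C ⊆ Y})
    (hY : IsClosed Y) {η : X} (hη : η ∈ genericPoints X) : η ∈ Y' ↔ η ∉ Y := by
  rw [hY', mem_sUnion_components_iff hη, generic_closure_subset_iff hY]

theorem mem_diff_iff {Y Z V : Set X}
    (hV : V = ⋃₀ {C | C ∈ irreducibleComponents (X : Type u) ∧ C ⊆ Z ∧ ¬ C ⊆ Y}) (hY : IsClosed Y)
    (hZ : IsClosed Z) {η : X} (hη : η ∈ genericPoints X) : η ∈ V ↔ η ∈ Z ∧ η ∉ Y := by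
  rw [hV, mem_sUnion_components_iff (P := fun C => C ⊆ Z ∧ ¬ C ⊆ Y) hη, generic_closure_subset_iff hY,
    generic_closure_subset_iff hZ]

/-- The standing data of an elementary modification over a discrete valuation ring. -/
theorem modif_setup {R : Type u} [CommRing R] [IsDomain R] [IsDiscreteValuationRing R] {X : Scheme.{u}}
    {f : X ⟶ Spec (CommRingCat.of R)} [IsProper f] {Xs : Scheme.{u}}
    [Xs.Over (Spec (CommRingCat.of (IsLocalRing.ResidueField R)))] {i : Xs ⟶ X}
    (hsq : IsPullback i (Xs ↘ Spec (CommRingCat.of (IsLocalRing.ResidueField R))) f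
      (Spec.map (CommRingCat.ofHom (IsLocalRing.residue R))))
    [AlgebraicGeometry.IsReduced Xs] (hpure : ∀ C ∈ irreducibleComponents (Xs : Type u), topologicalKrullDim C = 1)
    {E : X.Modules} {r : ℕ} (hE : FlatMod.IsFinLocFreeOfRank r E) :
    IsProper (Xs ↘ Spec (CommRingCat.of (IsLocalRing.ResidueField R))) ∧ AlgebraicGeometry.IsNoetherian Xs ∧
      topologicalKrullDim Xs ≤ 1 ∧ FlatMod.IsFinLocFreeOfRank r ((Scheme.Modules.pullback i).obj E) := by
  haveI hp : IsProper (Xs ↘ Spec (CommRingCat.of (IsLocalRing.ResidueField R))) :=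
    MorphismProperty.of_isPullback hsq inferInstance
  haveI hn := CurveCohLib.isNoetherian_of_proper (k := IsLocalRing.ResidueField R) (X := Xs)
  exact ⟨hp, hn, dim_le_one hpure,
    KRRReg.isFinLocFreeOfRank_pullback i hE⟩

end Groth.Agent.TFQuot

end
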