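import Groth.Agent.TFQuot.Extend

/-!
# Extensions with semistable, quasistable or simple special fibre
-/

set_option autoImplicit false
set_option linter.style.haveILetI false
set_option linter.unusedSectionVars false
set_option backward.isDefEq.respectTransparency false
set_option backward.isDefEq.respectTransparency.types false
set_option maxHeartbeats 1000000

universe u

open CategoryTheory CategoryTheory.Limits AlgebraicGeometry TopologicalSpace

noncomputable section

namespace Groth.Agent.TFQuot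

open Groth.Agent

variable {R : Type u} [CommRing R] [IsDomain R] [IsDiscreteValuationRing R] {X : Scheme.{u}}
  {f : X ⟶ Spec (CommRingCat.of R)} [Flat f] [IsProper f] {Xs : Scheme.{u}}
  [Xs.Over (Spec (CommRingCat.of (IsLocalRing.ResidueField R)))] {i : Xs ⟶ X} {Xg : Scheme.{u}}
  [Xg.Over (Spec (CommRingCat.of (FractionRing R)))] {j : Xg ⟶ X} [AlgebraicGeometry.IsReduced Xs]
  (hsq : IsPullback i (Xs ↘ Spec (CommRingCat.of (IsLocalRing.ResidueField R))) f
    (Spec.map (CommRingCat.ofHom (IsLocalRing.residue R))))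
  (hgen : IsPullback j (Xg ↘ Spec (CommRingCat.of (FractionRing R))) f
    (Spec.map (CommRingCat.ofHom (algebraMap R (FractionRing R)))))

include hsq in
/-- The special fibre is nonempty if the generic geometric fibre carries a nonzero sheaf. -/
theorem nonempty_special {c : Cpl f i} (P : GPt j c) {M : P.Y.Modules} (hM : ¬ IsZero M) : Nonempty Xs := by
  haveI := c.isProper
  obtain ⟨y⟩ : Nonempty P.Y := by
    by_contra hne
    exact hM (CurveCohLib.isZero_of_subsingleton_stalks fun y => absurd ⟨y⟩ hne)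
  haveI : IsLocallyNoetherian c.X' := LocallyOfFiniteType.isLocallyNoetherian c.f'
  haveI : CompactSpace c.X' := QuasiCompact.compactSpace_of_compactSpace c.f'
  obtain ⟨z, -, hz⟩ := IsClosed.exists_closed_singleton (isClosed_closure (s := ({P.g y} : Set c.X')))
    ⟨P.g y, subset_closure rfl⟩
  have hfz : c.f' z = IsLocalRing.closedPoint c.A := by
    have hcl : IsClosed ({c.f' z} : Set (Spec (CommRingCat.of c.A))) := by
      rw [← Set.image_singleton]
      exact c.f'.isClosedMap _ hz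
    exact ((IsLocalRing.specializes_closedPoint (c.f' z)).mem_closed hcl rfl).symm
  obtain ⟨w, -, -⟩ := Scheme.Pullback.exists_preimage_pullback (f := c.f') (g := Spec.map (CommRingCat.ofHom c.ev))
    z (IsLocalRing.closedPoint _) (hfz.trans (c.ev_closed _).symm)
  exact ⟨c.sq'.isoPullback.inv w⟩

include hsq in
/-- The points traced by a section on the special fibre and on a geometric generic fibre. -/
theorem exists_section_points {c : Cpl f i} (P : GPt j c) {σ : Spec (CommRingCat.of R) ⟶ X} (hσ : σ ≫ f = 𝟙 _)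
    {σg : Spec (CommRingCat.of (FractionRing R)) ⟶ Xg}
    (hσg : σg ≫ (Xg ↘ Spec (CommRingCat.of (FractionRing R))) = 𝟙 _)
    (hσgj : σg ≫ j = Spec.map (CommRingCat.ofHom (algebraMap R (FractionRing R))) ≫ σ) :
    ∃ (x₀ : Xs) (y : Spec (CommRingCat.of P.Ω) ⟶ P.Y), i x₀ = σ (IsLocalRing.closedPoint R) ∧
      y ≫ P.jY = P.tK ≫ σg ∧ y ≫ P.qY = 𝟙 _ ∧ P.g (y (IsLocalRing.closedPoint P.Ω)) ⤳ c.i' x₀ := by
  let σs := hsq.lift (Spec.map (CommRingCat.ofHom (IsLocalRing.residue R)) ≫ σ) (𝟙 _)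
    (by rw [Category.assoc, hσ, Category.comp_id, Category.id_comp])
  let y := P.sqK.lift (P.tK ≫ σg) (𝟙 _) (by rw [Category.assoc, hσg, Category.comp_id, Category.id_comp])
  have hy1 : y ≫ P.jY = P.tK ≫ σg := P.sqK.lift_fst _ _ _
  have hy2 : y ≫ P.qY = 𝟙 _ := P.sqK.lift_snd _ _ _
  have hs1 : σs ≫ i = Spec.map (CommRingCat.ofHom (IsLocalRing.residue R)) ≫ σ := hsq.lift_fst _ _ _
  have hs2 : σs ≫ (Xs ↘ Spec (CommRingCat.of (IsLocalRing.ResidueField R))) = 𝟙 _ := hsq.lift_snd _ _ _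
  let σ' := c.sq.lift (Spec.map (CommRingCat.ofHom c.φ) ≫ σ) (𝟙 _)
    (by rw [Category.assoc, hσ, Category.comp_id, Category.id_comp])
  have hp1 : σ' ≫ c.p = Spec.map (CommRingCat.ofHom c.φ) ≫ σ := c.sq.lift_fst _ _ _
  have hp2 : σ' ≫ c.f' = 𝟙 _ := c.sq.lift_snd _ _ _
  have hres : Spec.map (CommRingCat.ofHom c.ev) ≫ Spec.map (CommRingCat.ofHom c.φ) =
      Spec.map (CommRingCat.ofHom (IsLocalRing.residue R)) := by
    have h := congrArg (fun m => σs ≫ m) (c.sq'.paste_horiz c.sq).w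
    simp only [c.hi] at h
    rw [← Category.assoc, ← Category.assoc σs, hs1, Category.assoc, hσ, Category.comp_id, hs2, Category.id_comp] at h
    exact h.symm
  have ht : P.tK ≫ Spec.map (CommRingCat.ofHom (algebraMap R (FractionRing R))) =
      P.t ≫ Spec.map (CommRingCat.ofHom c.φ) := by
    have h := congrArg (fun m => y ≫ m) P.sqR.w
    simp only [← P.hjY, Category.assoc] at h
    rw [reassoc_of% hy1, reassoc_of% hy2, reassoc_of% hσgj, hσ, Category.comp_id] at h
    exact h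
  have hyσ : y ≫ P.g = P.t ≫ σ' := c.sq.hom_ext
    (by rw [Category.assoc, ← P.hjY, reassoc_of% hy1, hσgj, Category.assoc, hp1, ← Category.assoc, ht, Category.assoc])
    (by rw [Category.assoc, P.sq.w, reassoc_of% hy2, Category.assoc, hp2, Category.comp_id])
  have hsσ : σs ≫ c.i' = Spec.map (CommRingCat.ofHom c.ev) ≫ σ' := c.sq.hom_ext
    (by rw [Category.assoc, c.hi, hs1, Category.assoc, hp1, ← Category.assoc (Spec.map (CommRingCat.ofHom c.ev)), hres])
    (by rw [Category.assoc, c.sq'.w, reassoc_of% hs2, Category.assoc, hp2, Category.comp_id])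
  refine ⟨σs (IsLocalRing.closedPoint _), y, ?_, hy1, hy2, ?_⟩
  · rw [← Scheme.Hom.comp_apply, hs1, Scheme.Hom.comp_apply]
    haveI : IsLocalHom (IsLocalRing.residue R) := IsLocalHom.of_surjective _ Ideal.Quotient.mk_surjective
    exact congrArg σ (IsLocalRing.comap_closedPoint (IsLocalRing.residue R))
  · rw [← Scheme.Hom.comp_apply, hyσ, ← Scheme.Hom.comp_apply, hsσ, Scheme.Hom.comp_apply, Scheme.Hom.comp_apply,
      c.ev_closed]
    exact (IsLocalRing.specializes_closedPoint (P.t (IsLocalRing.closedPoint P.Ω))).map σ'.continuous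

variable (hpure : ∀ C ∈ irreducibleComponents (Xs : Type u), topologicalKrullDim C = 1)
  (hgi : ∀ (C : Set Xs) (hC : C ∈ irreducibleComponents (Xs : Type u)), GeometricallyIntegral
    (VecSt.subschι Xs C (isClosed_of_mem_irreducibleComponents C hC) ≫
      (Xs ↘ Spec (CommRingCat.of (IsLocalRing.ResidueField R)))))
  {I : X.Modules} (hI : TFOne.IsRelTF1 f I)

include hsq hgen hpure hgi hI in
theorem exists_simple
    (hIg : TFOne.FibSimple (Xg ↘ Spec (CommRingCat.of (FractionRing R))) ((Scheme.Modules.pullback j).obj I)) :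
    ∃ I' : X.Modules, TFOne.IsRelTF1 f I' ∧
      Nonempty ((Scheme.Modules.pullback j).obj I' ≅ (Scheme.Modules.pullback j).obj I) ∧ TFOne.FibSimple f I' := by
  obtain ⟨c⟩ := nonempty_cpl f i hsq
  obtain ⟨P⟩ := nonempty_gpt j hgen c
  have hs := hIg P.Ω P.tK P.Y P.jY P.qY P.sqK
  haveI := nonempty_special hsq P hs.1
  obtain ⟨I', hA, -, hdec⟩ := exists_noDec (d := Curv2.euler (IsLocalRing.ResidueField R) Xs
      ((Scheme.Modules.pullback i).obj I)) hsq hgi hgen P (isTF1_gpt hsq hI P)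
    (fun _ => True) (fun _ _ _ _ _ _ _ _ _ _ _ => trivial) hs ⟨good_self hsq hgi hI, rfl⟩ trivial
  exact ⟨I', relTF1_of_good hsq hgi hgen hI hA.good, hA.good.gen, fibSimple_of_good hsq hpure hgi hgen hI hA.good hdec hIg⟩

variable {E : X.Modules} {r : ℕ} (hr : 0 < r) (hE : FlatMod.IsFinLocFreeOfRank r E) {d : ℤ}
  (hχ : Curv2.euler (IsLocalRing.ResidueField R) Xs ((Scheme.Modules.pullback i).obj I) = d)
  (hEd : Curv2.deg (IsLocalRing.ResidueField R) Xs ((Scheme.Modules.pullback i).obj E) r = -(r : ℤ) * d)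

include hsq hgen hpure hgi hI hr hE hχ hEd in
theorem exists_semistable
    (hIg : TFOne.FibSemistable (Xg ↘ Spec (CommRingCat.of (FractionRing R))) ((Scheme.Modules.pullback j).obj I)
      ((Scheme.Modules.pullback j).obj E) r) :
    ∃ I' : X.Modules, TFOne.IsRelTF1 f I' ∧
      Nonempty ((Scheme.Modules.pullback j).obj I' ≅ (Scheme.Modules.pullback j).obj I) ∧
        TFOne.FibSemistable f I' E r := by
  obtain ⟨c⟩ := nonempty_cpl f i hsq
  obtain ⟨P⟩ := nonempty_gpt j hgen c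
  have h₀ : Adm f i j I d I := ⟨good_self hsq hgi hI, hχ⟩
  obtain ⟨I', hA, hs⟩ := exists_sem hsq hpure hgi hgen hr hE hEd P (isTF1_gpt hsq hI P) h₀
    (bgen_nonneg hsq hpure hgi hE hEd hI P h₀ (hIg P.Ω P.tK P.Y P.jY P.qY P.sqK))
  exact ⟨I', relTF1_of_good hsq hgi hgen hI hA.good, hA.good.gen,
    fibSemistable_of_sem hsq hpure hgi hgen hE hI hA.good hs hIg⟩

include hsq hgen hpure hgi hI hr hE hχ hEd in
theorem exists_simple_semistable
    (hIg1 : TFOne.FibSimple (Xg ↘ Spec (CommRingCat.of (FractionRing R))) ((Scheme.Modules.pullback j).obj I))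
    (hIg2 : TFOne.FibSemistable (Xg ↘ Spec (CommRingCat.of (FractionRing R))) ((Scheme.Modules.pullback j).obj I)
      ((Scheme.Modules.pullback j).obj E) r) :
    ∃ I' : X.Modules, TFOne.IsRelTF1 f I' ∧
      Nonempty ((Scheme.Modules.pullback j).obj I' ≅ (Scheme.Modules.pullback j).obj I) ∧
        TFOne.FibSimple f I' ∧ TFOne.FibSemistable f I' E r := by
  obtain ⟨c⟩ := nonempty_cpl f i hsq
  obtain ⟨P⟩ := nonempty_gpt j hgen c
  have h₀ : Adm f i j I d I := ⟨good_self hsq hgi hI, hχ⟩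
  have hsP := hIg1 P.Ω P.tK P.Y P.jY P.qY P.sqK
  haveI := nonempty_special hsq P hsP.1
  have hMY := isTF1_gpt hsq hI P
  obtain ⟨I₁, hA₁, hs₁⟩ := exists_sem hsq hpure hgi hgen hr hE hEd P hMY h₀
    (bgen_nonneg hsq hpure hgi hE hEd hI P h₀ (hIg2 P.Ω P.tK P.Y P.jY P.qY P.sqK))
  obtain ⟨I', hA, hs, hdec⟩ := exists_noDec hsq hgi hgen P hMY (Sem R i E)
    (fun J hJ hJs => Sem.modif_dec hsq hpure hgi hgen hr hE hEd hJ hJs) hsP hA₁ hs₁
  exact ⟨I', relTF1_of_good hsq hgi hgen hI hA.good, hA.good.gen,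
    fibSimple_of_good hsq hpure hgi hgen hI hA.good hdec hIg1, fibSemistable_of_sem hsq hpure hgi hgen hE hI hA.good hs hIg2⟩

include hsq hgen hpure hgi hI hr hE hχ hEd in
theorem exists_quasistable {σ : Spec (CommRingCat.of R) ⟶ X} (hσ : σ ≫ f = 𝟙 _) (U : X.Opens)
    (hσU : Set.range σ.base ⊆ (U : Set X)) [Smooth (U.ι ≫ f)]
    {σg : Spec (CommRingCat.of (FractionRing R)) ⟶ Xg}
    (hσg : σg ≫ (Xg ↘ Spec (CommRingCat.of (FractionRing R))) = 𝟙 _)
    (hσgj : σg ≫ j = Spec.map (CommRingCat.ofHom (algebraMap R (FractionRing R))) ≫ σ)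
    (hIg : TFOne.FibQuasistableAlong (Xg ↘ Spec (CommRingCat.of (FractionRing R)))
      ((Scheme.Modules.pullback j).obj I) ((Scheme.Modules.pullback j).obj E) σg hσg r) :
    ∃ I' : X.Modules, TFOne.IsRelTF1 f I' ∧
      Nonempty ((Scheme.Modules.pullback j).obj I' ≅ (Scheme.Modules.pullback j).obj I) ∧
        TFOne.FibQuasistableAlong f I' E σ hσ r := by
  obtain ⟨c⟩ := nonempty_cpl f i hsq
  obtain ⟨P⟩ := nonempty_gpt j hgen c
  have h₀ : Adm f i j I d I := ⟨good_self hsq hgi hI, hχ⟩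
  obtain ⟨x₀, y, hx₀, hy1, hy2, hy⟩ := exists_section_points hsq P hσ hσg hσgj
  have hMY := isTF1_gpt hsq hI P
  have hq := hIg P.Ω P.tK P.Y P.jY P.qY P.sqK y hy1 hy2
  obtain ⟨I₁, hA₁, hs₁⟩ := exists_sem hsq hpure hgi hgen hr hE hEd P hMY h₀
    (bgen_nonneg hsq hpure hgi hE hEd hI P h₀ hq.1)
  haveI : IsProper (Xs ↘ Spec (CommRingCat.of (IsLocalRing.ResidueField R))) :=
    MorphismProperty.of_isPullback hsq inferInstance
  haveI := CurveCohLib.isNoetherian_of_proper (k := IsLocalRing.ResidueField R) (X := Xs)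
  obtain ⟨η₀, hη₀, hη₀x, -⟩ := isUnion_univ (X := Xs) x₀ trivial
  obtain ⟨I', hA, hs, hpos⟩ := exists_quasi hsq hpure hgi hgen hr hE hEd P hMY hη₀ hη₀x
    (fun η hη hηx => unique_component hsq (U := U) (hx₀ ▸ hσU ⟨_, rfl⟩) hη hη₀ hηx hη₀x) hy
    (fun Z hZ uZ hyZ hne => by
      letI : P.Y.Over (Spec (CommRingCat.of P.Ω)) := ⟨P.qY⟩
      haveI : IsProper (P.Y ↘ Spec (CommRingCat.of P.Ω)) := P.isProper
      haveI : AlgebraicGeometry.IsReduced P.Y := isReduced_fibre f i hsq hgi P.sqR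
      haveI := CurveCohLib.isNoetherian_of_proper (k := P.Ω) (X := P.Y)
      have hdim : topologicalKrullDim P.Y ≤ 1 := dim_fibre_le f i hsq hpure P.sqR
      have hEY := KRRReg.isFinLocFreeOfRank_pullback P.jY (KRRReg.isFinLocFreeOfRank_pullback j hE)
      obtain ⟨G, π, hG⟩ := exists_quotOn hMY uZ hZ
      have h : 0 < TFOne.rBeta P.Y P.Ω (P.Y ↘ Spec (CommRingCat.of P.Ω)) Z hZ _ r G :=
        hq.2 Z hZ (isSubcurve_of_isUnion uZ hZ ⟨_, hyZ⟩) hne hyZ G π hG
      rwa [rBeta_eq_bq P.Ω hdim hEY hMY hZ uZ hG] at h) hA₁ hs₁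
  exact ⟨I', relTF1_of_good hsq hgi hgen hI hA.good, hA.good.gen,
    fibQuasi_of_sem hsq hpure hgi hgen hE hI hA.good hs hσ hx₀ hpos hσgj hIg⟩

end Groth.Agent.TFQuot

end
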