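import Groth.Agent.TFQuot.Tower

/-!
# The formal quotient of a decomposing tower, algebraized
-/

set_option autoImplicit false
set_option linter.style.haveILetI false
set_option linter.unusedSectionVars false
set_option backward.isDefEq.respectTransparency false
set_option backward.isDefEq.respectTransparency.types false
set_option maxHeartbeats 2000000

universe u

open CategoryTheory CategoryTheory.Limits AlgebraicGeometry TopologicalSpace Opposite

noncomputable section

namespace Groth.Agent.TFQuot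

open Groth.Agent

/-- The coherent flat quotient attached to a decomposing tower over a complete discrete valuation ring. -/
theorem exists_flat_quotient (R : Type u) [CommRing R] [IsDomain R] [IsDiscreteValuationRing R] (X : Scheme.{u}) (f : X ⟶ Spec (CommRingCat.of R)) [Flat f] [IsProper f] (Xs : Scheme.{u}) [Xs.Over (Spec (CommRingCat.of (IsLocalRing.ResidueField R)))] (i : Xs ⟶ X) (hsq : IsPullback i (Xs ↘ Spec (CommRingCat.of (IsLocalRing.ResidueField R))) f (Spec.map (CommRingCat.ofHom (IsLocalRing.residue R)))) [IsReduced Xs] [IsAdicComplete (IsLocalRing.maximalIdeal R) R] (In : ℕ → X.Modules) (hIc : Coh.IsCoh (In 0)) (hIf : FlatMod.IsFlatOver f (In 0)) (hIs : TFOne.IsTF1 Xs ((Scheme.Modules.pullback i).obj (In 0))) (Y : Set Xs) (hY : IsClosed Y) (Y' : Set Xs) (hY' : Y' = ⋃₀ {C | C ∈ irreducibleComponents (Xs : Type u) ∧ ¬ C ⊆ Y}) (G G' : ℕ → Xs.Modules) (π : ∀ n : ℕ, ((Scheme.Modules.pullback i).obj (In n)) ⟶ G n) (π' : ∀ n : ℕ, ((Scheme.Modules.pullback i).obj (In n))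 ⟶ G' n) (hG : ∀ n : ℕ, TFOne.IsQuotOn Xs ((Scheme.Modules.pullback i).obj (In n)) Y (G n) (π n)) (hG' : ∀ n : ℕ, TFOne.IsQuotOn Xs ((Scheme.Modules.pullback i).obj (In n)) Y' (G' n) (π' n)) (hstep : ∀ n : ℕ, In (n + 1) = kernel ((Scheme.Modules.pullbackPushforwardAdjunction i).unit.app (In n) ≫ (Scheme.Modules.pushforward i).map (π n))) (hdec : ∀ n : ℕ, IsIso (biprod.lift (π n) (π' n))) : ∃ (F : X.Modules) (p : In 0 ⟶ F), Coh.IsCoh F ∧ Epi p ∧ FlatMod.IsFlatOver f F ∧ ∃ e : (Scheme.Modules.pullback i).obj F ≅ G 0, (Scheme.Modules.pullback i).map p ≫ e.hom = π 0 := by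
  letI : X.Over (Spec (CommRingCat.of R)) := ⟨f⟩
  haveI : IsProper (X ↘ Spec (CommRingCat.of R)) := inferInstanceAs (IsProper f)
  haveI hp : IsProper (Xs ↘ Spec (CommRingCat.of (IsLocalRing.ResidueField R))) :=
    MorphismProperty.of_isPullback hsq inferInstance
  haveI : IsClosedImmersion (Spec.map (CommRingCat.ofHom (IsLocalRing.residue R))) :=
    IsClosedImmersion.spec_of_surjective _ Ideal.Quotient.mk_surjective
  haveI : IsClosedImmersion i := MorphismProperty.of_isPullback hsq.flip inferInstance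
  haveI : IsLocallyNoetherian X := LocallyOfFiniteType.isLocallyNoetherian f
  haveI : CompactSpace X := QuasiCompact.compactSpace_of_compactSpace f
  obtain ⟨t, ht⟩ := IsDiscreteValuationRing.exists_irreducible R
  have hJ : IsLocalRing.maximalIdeal R = Ideal.span {t} := ht.maximalIdeal_eq
  have mY' := fun η hη => TFQuot.mem_compl_iff (η := η) hY' hY hη
  -- the tower
  have hinv : ∀ n, Coh.IsCoh (In n) ∧ (∀ x, Function.Injective (TFQuot.st (Formal.smulMod R (In n) t) x)) ∧
      TFOne.IsTF1 Xs ((Scheme.Modules.pullback i).obj (In n)) := by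
    intro n
    induction n with
    | zero => exact ⟨hIc, TFQuot.injective_of_flat f t ht (In 0) hIf, hIs⟩
    | succ n ih =>
      obtain ⟨a, b, c, -⟩ := TFQuot.tower_step f i rfl hsq t ht (In n) (In (n + 1)) ih.1 ih.2.1 ih.2.2 mY' (hG n)
        (hstep n) (hG (n + 1)) (hG' (n + 1)) (hdec (n + 1))
      exact ⟨a, b, c⟩
  choose j s θ hj hθ hsj hsθ hker hsur using fun n =>
    (TFQuot.tower_step f i rfl hsq t ht (In n) (In (n + 1)) (hinv n).1 (hinv n).2.1 (hinv n).2.2 mY' (hG n)
      (hstep n) (hG (n + 1)) (hG' (n + 1)) (hdec (n + 1))).2.2.2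
  let c := TFQuot.towerMap j
  haveI hc : ∀ n, Mono (c n) := TFQuot.mono_towerMap j
  have hcs : ∀ n, c (n + 1) = j n ≫ c n := fun n => rfl
  let τ : ∀ x : X, X.presheaf.stalk x := fun x => TFQuot.scalSt x t
  have hτ : ∀ n x (v : (DerSch.stalkFunctor X x).obj (In n)),
      TFQuot.st (c (n + 1)) x (TFQuot.st (s n) x v) = τ x • TFQuot.st (c n) x v := fun n x v => by
    rw [hcs, TFQuot.st_comp, ← TFQuot.st_comp (s n), hsj, TFQuot.st_smul, map_smul]
  have hL : ∀ x, TFQuot.Layers (τ x) (fun n => TFQuot.stRange (c n) x) := fun x => by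
    refine ⟨?_, fun n => ?_, fun n v hv => ?_, fun n v hv => ?_, fun n v hv hv' => ?_⟩
    · refine eq_top_iff.2 fun v _ => ⟨v, ?_⟩
      show TFQuot.st (𝟙 (In 0)) x v = v
      show (DerSch.stalkFunctor X x).map (𝟙 (In 0)) v = v
      rw [CategoryTheory.Functor.map_id]
      rfl
    · rintro _ ⟨w, rfl⟩
      exact ⟨TFQuot.st (j n) x w, (TFQuot.st_comp _ _ _ _).symm⟩
    · obtain ⟨w, rfl⟩ := hv
      exact ⟨TFQuot.st (s n) x w, hτ n x w⟩
    · obtain ⟨y, rfl⟩ := hv
      haveI := hθ n
      obtain ⟨u, hu⟩ := (ConcreteCategory.bijective_of_isIso ((DerSch.stalkFunctor X x).map (θ n))).2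
        (TFQuot.st (TFQuot.redQuot i (π (n + 1))) x y)
      obtain ⟨w, rfl⟩ := hsur n x u
      refine ⟨TFQuot.st (c n) x w, ⟨w, rfl⟩, ?_⟩
      have hh : TFQuot.st (TFQuot.redQuot i (π (n + 1))) x (TFQuot.st (s n) x w) =
          TFQuot.st (θ n) x (TFQuot.st (TFQuot.redQuot i (π n)) x w) := by
        rw [← TFQuot.st_comp (TFQuot.redQuot i (π n)) (θ n), ← TFQuot.st_comp (s n) (TFQuot.redQuot i (π (n + 1))), hsθ]
      obtain ⟨z, hz⟩ := (hker (n + 1) x (y - TFQuot.st (s n) x w)).1 (by
        rw [map_sub, hh]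
        exact sub_eq_zero.2 hu.symm)
      refine ⟨z, ?_⟩
      show TFQuot.st (c (n + 2)) x z = TFQuot.st (c (n + 1)) x y - τ x • TFQuot.st (c n) x w
      rw [hcs, TFQuot.st_comp, hz, map_sub, hτ]
    · obtain ⟨w, rfl⟩ := hv
      obtain ⟨z, hz⟩ := hv'
      have h1 : TFQuot.st (s n) x w = TFQuot.st (j (n + 1)) x z := by
        refine TFQuot.st_injective (c (n + 1)) x ?_
        rw [hτ, ← TFQuot.st_comp]
        exact hz.symm
      have h2 : TFQuot.st (TFQuot.redQuot i (π (n + 1))) x (TFQuot.st (s n) x w) = 0 := by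
        rw [h1]; exact (hker (n + 1) x _).2 ⟨z, rfl⟩
      rw [← TFQuot.st_comp, hsθ, TFQuot.st_comp] at h2
      haveI := hθ n
      obtain ⟨z', hz'⟩ := (hker n x w).1 ((ConcreteCategory.bijective_of_isIso
        ((DerSch.stalkFunctor X x).map (θ n))).1 (h2.trans (map_zero _).symm))
      exact ⟨z', (TFQuot.st_comp _ _ _ _).trans (congrArg (TFQuot.st (c n) x) hz')⟩
  -- the formal module
  let Q : ℕ → X.Modules := fun n => cokernel (c (n + 1))
  have htr : ∀ n, c (n + 2) ≫ cokernel.π (c (n + 1)) = 0 := fun n => by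
    show (j (n + 1) ≫ c (n + 1)) ≫ _ = 0
    rw [Category.assoc, cokernel.condition, comp_zero]
  let tr : ∀ n, Q (n + 1) ⟶ Q n := fun n => cokernel.desc _ (cokernel.π (c (n + 1))) (htr n)
  let Gf : ℕᵒᵖ ⥤ X.Modules := Functor.ofOpSequence tr
  have hkill : ∀ n, Formal.smulFamily (IsLocalRing.maximalIdeal R ^ (n + 1)) (In 0) ≫ cokernel.π (c (n + 1)) = 0 :=
    fun n => CurveHom.eq_zero_of_stalk _ fun x v => by
      show TFQuot.st (Formal.smulFamily _ (In 0) ≫ cokernel.π (c (n + 1))) x v = 0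
      obtain ⟨w, hw⟩ := (TFQuot.st_modPow_iff hJ (In 0) (n + 1) x (TFQuot.st (Formal.smulFamily _ (In 0)) x v)).1 (by
        show TFQuot.st (cokernel.π _) x _ = 0
        rw [← TFQuot.st_comp, cokernel.condition, TFQuot.st_zero])
      rw [TFQuot.st_comp, ← hw]
      exact (TFQuot.st_cokernel_iff _ x _).2 ((hL x).pow_mem (n + 1) w)
  have hQc : ∀ n, Coh.IsCoh (Q n) := fun n => QCoh.isCoh_cokernel (hinv (n + 1)).1.1 hIc (c (n + 1))
  have hQk : ∀ n, Formal.KilledBy (IsLocalRing.maximalIdeal R ^ (n + 1)) (Q n) := fun n a ha => by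
    haveI : Epi (cokernel.π (c (n + 1))) := inferInstance
    rw [← cancel_epi (cokernel.π (c (n + 1))), comp_zero, ← FFun.smulMod_naturality]
    have := congrArg (fun φ => Sigma.ι (fun _ : (IsLocalRing.maximalIdeal R ^ (n + 1) : Ideal R) => In 0) ⟨a, ha⟩ ≫ φ)
      (hkill n)
    simp only [comp_zero, ← Category.assoc] at this
    rwa [show Sigma.ι (fun _ : (IsLocalRing.maximalIdeal R ^ (n + 1) : Ideal R) => In 0) ⟨a, ha⟩ ≫
      Formal.smulFamily _ (In 0) = Formal.smulMod R (In 0) a from Sigma.ι_desc _ _] at this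
  have hGf : Formal.IsCohFormal (IsLocalRing.maximalIdeal R) Gf := by
    refine ⟨hQc, hQk, fun n => ?_⟩
    have hm : Gf.map (homOfLE (Nat.le_succ n)).op = tr n := Functor.ofOpSequence_map_homOfLE_succ tr n
    rw [hm]
    have hw : Formal.smulFamily (IsLocalRing.maximalIdeal R ^ (n + 1)) (Q (n + 1)) ≫ tr n = 0 := by
      refine Sigma.hom_ext _ _ fun a => ?_
      rw [comp_zero, ← Category.assoc, show Sigma.ι (fun _ : (IsLocalRing.maximalIdeal R ^ (n + 1) : Ideal R) => Q (n + 1)) a ≫
        Formal.smulFamily _ (Q (n + 1)) = Formal.smulMod R (Q (n + 1)) (a : R) from Sigma.ι_desc _ _,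
        FFun.smulMod_naturality, hQk n a a.2, comp_zero]
    refine ⟨hw, ?_⟩
    haveI : Epi (tr n) := by
      haveI : Epi (cokernel.π (c (n + 2)) ≫ tr n) := by rw [cokernel.π_desc]; infer_instance
      exact epi_of_epi (cokernel.π (c (n + 2))) _
    haveI hE1 : Epi (cokernel.desc _ (tr n) hw) := epi_of_epi_fac (cokernel.π_desc _ (tr n) hw)
    haveI hM1 : Mono (cokernel.desc _ (tr n) hw) := Exactness.mono_of_stalk _ fun x =>
      (ModuleCat.mono_iff_injective _).2 ((injective_iff_map_eq_zero _).2 fun u hu => by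
        obtain ⟨v, rfl⟩ := TFQuot.st_surjective (cokernel.π (Formal.smulFamily _ (Q (n + 1)))) x u
        obtain ⟨y, rfl⟩ := TFQuot.st_surjective (cokernel.π (c (n + 2))) x v
        have hy : TFQuot.st (cokernel.π (c (n + 1))) x y = 0 := by
          have h2 : TFQuot.st (cokernel.desc _ (tr n) hw) x
              (TFQuot.st (cokernel.π (Formal.smulFamily _ (Q (n + 1)))) x (TFQuot.st (cokernel.π (c (n + 2))) x y)) = 0 := hu
          rw [← TFQuot.st_comp _ (cokernel.desc _ (tr n) hw), cokernel.π_desc, ← TFQuot.st_comp _ (tr n),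
            cokernel.π_desc] at h2
          exact h2
        obtain ⟨w, hw'⟩ := (hL x).exists_pow (n + 1) y ((TFQuot.st_cokernel_iff _ x y).1 hy)
        refine (TFQuot.st_modPow_iff hJ (Q (n + 1)) (n + 1) x _).2
          ⟨TFQuot.st (cokernel.π (c (n + 2))) x w, ?_⟩
        have h3 := (TFQuot.st_cokernel_iff (c (n + 2)) x _).2 hw'
        rw [map_sub, map_smul, sub_eq_zero] at h3
        exact h3.symm)
    exact @isIso_of_mono_of_epi _ _ _ _ _ _ hM1 hE1
  obtain ⟨M, hMc, ⟨e⟩⟩ := (S0004.result R (IsLocalRing.maximalIdeal R) X).2 Gf hGf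
  let ψ : Formal.completion (IsLocalRing.maximalIdeal R) (In 0) ⟶ Gf :=
    NatTrans.ofOpSequence (fun n => cokernel.desc _ (cokernel.π (c (n + 1))) (hkill n)) fun n => by
      show (Formal.completion (IsLocalRing.maximalIdeal R) (In 0)).map (homOfLE (n.le_add_right 1)).op ≫ _ = _
      rw [show (Formal.completion (IsLocalRing.maximalIdeal R) (In 0)).map (homOfLE (n.le_add_right 1)).op =
        Formal.modPowTrans (IsLocalRing.maximalIdeal R) (n + 1) (In 0) from
        Functor.ofOpSequence_map_homOfLE_succ _ n, show Gf.map (homOfLE (n.le_add_right 1)).op = tr n from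
        Functor.ofOpSequence_map_homOfLE_succ tr n, ← cancel_epi (cokernel.π (Formal.smulFamily _ (In 0)))]
      simp only [Formal.modPowTrans, cokernel.π_desc_assoc, Formal.modPowπ, cokernel.π_desc]
      exact (cokernel.π_desc (c (n + 2)) _ (htr n)).symm
  obtain ⟨φ, hφ, -⟩ := (S0004.result R (IsLocalRing.maximalIdeal R) X).1 (In 0) M hIc hMc (ψ ≫ e.inv)
  let q : ∀ n, M ⟶ Q n := fun n => Formal.modPowπ (IsLocalRing.maximalIdeal R) (n + 1) M ≫ e.hom.app (op n)
  have hq : ∀ n, φ ≫ q n = cokernel.π (c (n + 1)) := fun n => by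
    show φ ≫ Formal.modPowπ (IsLocalRing.maximalIdeal R) (n + 1) M ≫ e.hom.app (op n) = _
    rw [← Category.assoc, ← hφ n, Category.assoc, NatTrans.comp_app, Category.assoc, e.inv_hom_id_app]
    erw [Category.comp_id]
    exact cokernel.π_desc _ _ (hkill n)
  have hqker : ∀ n x v, TFQuot.st (q n) x v = 0 ↔ ∃ w, τ x ^ (n + 1) • w = v := fun n x v => by
    rw [← TFQuot.st_modPow_iff hJ M (n + 1) x v]
    show TFQuot.st (Formal.modPowπ _ (n + 1) M ≫ e.hom.app (op n)) x v = 0 ↔ _
    rw [TFQuot.st_comp]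
    exact map_eq_zero_iff _ (ConcreteCategory.bijective_of_isIso
      ((DerSch.stalkFunctor X x).map (e.hom.app (op n)))).1
  have hqφ : ∀ n x v, TFQuot.st (q n) x (TFQuot.st φ x v) = 0 ↔ v ∈ TFQuot.stRange (c (n + 1)) x := fun n x v => by
    rw [← TFQuot.st_comp, hq]
    exact TFQuot.st_cokernel_iff _ x v
  -- the uniformizer and the special fibre
  have hrange : ∀ x, f x = IsLocalRing.closedPoint R → x ∈ Set.range i := fun x hx => by
    obtain ⟨z, hz, -⟩ := Scheme.Pullback.exists_preimage_pullback (f := f)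
      (g := Spec.map (CommRingCat.ofHom (IsLocalRing.residue R))) x
      (IsLocalRing.closedPoint (IsLocalRing.ResidueField R)) (hx.trans (IsLocalRing.comap_closedPoint (IsLocalRing.residue R)).symm)
    refine ⟨hsq.isoPullback.inv z, ?_⟩
    rw [← Scheme.Hom.comp_apply, IsPullback.isoPullback_inv_fst, hz]
  have hτeq : ∀ x, τ x = f.stalkMap x ((Spec (CommRingCat.of R)).presheaf.germ ⊤ (f x) trivial
      ((Scheme.ΓSpecIso (CommRingCat.of R)).inv t)) := fun x =>
    (Scheme.Hom.germ_stalkMap_apply f ⊤ x trivial _).symm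
  have hτunit : ∀ x, ¬ f x = IsLocalRing.closedPoint R → IsUnit (τ x) := fun x hx => by
    rw [hτeq]
    refine IsUnit.map _ ?_
    letI : Algebra R ((Spec (CommRingCat.of R)).presheaf.stalk (f x)) := StructureSheaf.stalkAlgebra R (f x)
    haveI : IsLocalization.AtPrime ((Spec (CommRingCat.of R)).presheaf.stalk (f x))
        (PrimeSpectrum.asIdeal (R := R) (f x)) :=
      StructureSheaf.IsLocalization.to_stalk (CommRingCat.of R) (f x)
    refine (IsLocalization.AtPrime.isUnit_to_map_iff ((Spec (CommRingCat.of R)).presheaf.stalk (f x))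
      (PrimeSpectrum.asIdeal (R := R) (f x)) t).2 fun hmem => hx ?_
    refine PrimeSpectrum.ext (le_antisymm (IsLocalRing.le_maximalIdeal (f x).2.ne_top) ?_)
    show IsLocalRing.maximalIdeal R ≤ _
    rw [hJ, Ideal.span_le, Set.singleton_subset_iff]
    exact hmem
  have hτmax : ∀ x, f x = IsLocalRing.closedPoint R → τ x ∈ IsLocalRing.maximalIdeal (X.presheaf.stalk x) :=
    fun x hx => by
    rw [hτeq, IsLocalRing.mem_maximalIdeal, mem_nonunits_iff]
    intro hu
    letI : Algebra R ((Spec (CommRingCat.of R)).presheaf.stalk (f x)) := StructureSheaf.stalkAlgebra R (f x)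
    haveI : IsLocalization.AtPrime ((Spec (CommRingCat.of R)).presheaf.stalk (f x))
        (PrimeSpectrum.asIdeal (R := R) (f x)) :=
      StructureSheaf.IsLocalization.to_stalk (CommRingCat.of R) (f x)
    refine (IsLocalization.AtPrime.isUnit_to_map_iff ((Spec (CommRingCat.of R)).presheaf.stalk (f x))
      (PrimeSpectrum.asIdeal (R := R) (f x)) t).1 (IsUnit.of_map (f.stalkMap x).hom _ hu) ?_
    rw [hx]
    exact (IsLocalRing.mem_maximalIdeal t).2 ht.not_isUnit
  -- the algebraized quotient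
  haveI hφepi : Epi φ := by
    have hC : Coh.IsCoh (cokernel φ) := QCoh.isCoh_cokernel hIc.1 hMc φ
    refine Preadditive.epi_of_isZero_cokernel _ (CurveCohLib.isZero_of_subsingleton_stalks fun x₀ => ?_)
    by_contra hx₀
    obtain ⟨x, hxS, hx⟩ := IsClosed.exists_closed_singleton (QCoh.isClosed_support_of_isFT hC.1 hC.2) ⟨x₀, hx₀⟩
    have hfx : f x = IsLocalRing.closedPoint R := by
      have hcl : IsClosed ({f x} : Set (Spec (CommRingCat.of R))) := by
        rw [← Set.image_singleton]
        exact f.isClosedMap _ hx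
      exact ((IsLocalRing.specializes_closedPoint (f x)).mem_closed hcl rfl).symm
    haveI : Module.Finite (X.presheaf.stalk x) ((DerSch.stalkFunctor X x).obj (cokernel φ)) :=
      QCoh.finite_stalk_of_isFT hC.1 hC.2 x
    have htop : (⊤ : Submodule (X.presheaf.stalk x) ((DerSch.stalkFunctor X x).obj (cokernel φ))) ≤
        Ideal.span {τ x} • ⊤ := fun u _ => by
      obtain ⟨y, rfl⟩ := TFQuot.st_surjective (cokernel.π φ) x u
      haveI : Epi (φ ≫ q 0) := by rw [hq]; infer_instance
      obtain ⟨a, ha⟩ := TFQuot.st_surjective (φ ≫ q 0) x (TFQuot.st (q 0) x y)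
      obtain ⟨w, hw⟩ := (hqker 0 x (y - TFQuot.st φ x a)).1 (by rw [map_sub, ← TFQuot.st_comp, ha, sub_self])
      rw [show y = TFQuot.st φ x a + τ x ^ (0 + 1) • w by rw [hw]; abel, map_add, ← TFQuot.st_comp, cokernel.condition,
        TFQuot.st_zero, zero_add, zero_add, pow_one, map_smul]
      exact Submodule.smul_mem_smul (Ideal.mem_span_singleton_self _) Submodule.mem_top
    have hbot := Submodule.eq_bot_of_le_smul_of_le_jacobson_bot (Ideal.span {τ x}) ⊤ Module.Finite.fg_top htop
      (((Ideal.span_singleton_le_iff_mem _).2 (hτmax x hfx)).trans (IsLocalRing.maximalIdeal_le_jacobson _))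
    exact hxS (subsingleton_of_forall_eq 0 fun u => (Submodule.mem_bot _).1 (hbot ▸ Submodule.mem_top (x := u)))
  have hinj : ∀ x (v : (DerSch.stalkFunctor X x).obj M), τ x • v = 0 → v = 0 := fun x v hv => by
    by_cases hx : f x = IsLocalRing.closedPoint R
    · obtain ⟨y, rfl⟩ := TFQuot.st_surjective φ x v
      have hall : ∀ n, TFQuot.st φ x y ∈ (IsLocalRing.maximalIdeal (X.presheaf.stalk x)) ^ n •
          (⊤ : Submodule (X.presheaf.stalk x) ((DerSch.stalkFunctor X x).obj M)) := fun n => by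
        have h1 : τ x • y ∈ TFQuot.stRange (c (n + 1 + 1)) x :=
          (hqφ (n + 1) x _).1 (by rw [map_smul, hv, map_zero])
        obtain ⟨w, hw⟩ := (hqker n x _).1 ((hqφ n x y).2 ((hL x).mem_of_smul_mem (m := n + 1) h1))
        rw [← hw, pow_succ, mul_smul]
        exact Submodule.smul_mem_smul (Ideal.pow_mem_pow (hτmax x hx) n) Submodule.mem_top
      haveI : IsNoetherianRing (X.presheaf.stalk x) := inferInstance
      haveI : Module.Finite (X.presheaf.stalk x) ((DerSch.stalkFunctor X x).obj M) :=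
        QCoh.finite_stalk_of_isFT hMc.1 hMc.2 x
      have h0 := Ideal.iInf_pow_smul_eq_bot_of_isLocalRing (M := (DerSch.stalkFunctor X x).obj M)
        (IsLocalRing.maximalIdeal (X.presheaf.stalk x)) (IsLocalRing.maximalIdeal.isMaximal _).ne_top
      exact (Submodule.mem_bot _).1 (h0 ▸ Submodule.mem_iInf _ |>.2 hall)
    · exact (hτunit x hx).smul_eq_zero.1 hv
  have hflat : FlatMod.IsFlatOver f M := fun x => by
    letI := FlatMod.moduleStalkOver f M x
    show Module.Flat ((Spec (CommRingCat.of R)).presheaf.stalk (f x)) (M.presheaf.stalk x)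
    letI : Algebra R ((Spec (CommRingCat.of R)).presheaf.stalk (f x)) := StructureSheaf.stalkAlgebra R (f x)
    haveI : IsLocalization.AtPrime ((Spec (CommRingCat.of R)).presheaf.stalk (f x))
        (PrimeSpectrum.asIdeal (R := R) (f x)) :=
      StructureSheaf.IsLocalization.to_stalk (CommRingCat.of R) (f x)
    haveI : IsDomain ((Spec (CommRingCat.of R)).presheaf.stalk (f x)) := H23.SpGysin.isDomain_stalk (f x)
    haveI : IsDedekindDomain ((Spec (CommRingCat.of R)).presheaf.stalk (f x)) :=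
      IsLocalization.isDedekindDomain R (PrimeSpectrum.asIdeal (R := R) (f x)).primeCompl_le_nonZeroDivisors _
    haveI : Module.IsTorsionFree ((Spec (CommRingCat.of R)).presheaf.stalk (f x)) (M.presheaf.stalk x) := by
      refine Module.IsTorsionFree.of_smul_eq_zero fun a v hav => ?_
      by_cases ha : a = 0
      · exact Or.inl ha
      refine Or.inr ?_
      obtain ⟨⟨r, d⟩, hrd⟩ := IsLocalization.surj (PrimeSpectrum.asIdeal (R := R) (f x)).primeCompl a
      have hu := IsLocalization.map_units ((Spec (CommRingCat.of R)).presheaf.stalk (f x)) d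
      have hr0 : r ≠ 0 := fun h0 => ha (hu.mul_left_eq_zero.1 (hrd.trans (by rw [h0, map_zero])))
      obtain ⟨k, u, rfl⟩ := IsDiscreteValuationRing.eq_unit_mul_pow_irreducible hr0 ht
      have h1 : algebraMap R ((Spec (CommRingCat.of R)).presheaf.stalk (f x)) ((u : R) * t ^ k) • v = 0 := by
        rw [← hrd, mul_comm, mul_smul, hav, smul_zero]
      rw [map_mul, mul_smul, (u.isUnit.map (algebraMap R _)).smul_eq_zero, map_pow] at h1
      clear hr0 hrd hav
      induction k generalizing v with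
      | zero => simpa using h1
      | succ k ih =>
        rw [pow_succ, mul_smul] at h1
        refine hinj x v ?_
        rw [hτeq]
        exact ih _ h1
    infer_instance
  let p0 := TFQuot.redQuot i (π 0)
  have hp0 : ∀ x v, TFQuot.st p0 x v = 0 ↔ v ∈ TFQuot.stRange (c 1) x := fun x v => by
    rw [show c 1 = j 0 from (hcs 0).trans (Category.comp_id _)]
    exact hker 0 x v
  have hφp : kernel.ι φ ≫ p0 = 0 := CurveHom.eq_zero_of_stalk _ fun x v => by
    show TFQuot.st (kernel.ι φ ≫ p0) x v = 0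
    rw [TFQuot.st_comp, hp0, ← hqφ, ← TFQuot.st_comp (kernel.ι φ), kernel.condition, TFQuot.st_zero, map_zero]
  let adj := Scheme.Modules.pullbackPushforwardAdjunction i
  let h : M ⟶ (Scheme.Modules.pushforward i).obj (G 0) := Abelian.epiDesc φ p0 hφp
  let e0 : (Scheme.Modules.pullback i).obj M ⟶ G 0 := (adj.homEquiv _ _).symm h
  have he0 : (Scheme.Modules.pullback i).map φ ≫ e0 = π 0 := by
    rw [← Adjunction.homEquiv_naturality_left_symm, Abelian.comp_epiDesc, Equiv.symm_apply_eq, Adjunction.homEquiv_unit]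
  have he0' : adj.unit.app M ≫ (Scheme.Modules.pushforward i).map e0 = h :=
    (adj.homEquiv_unit _ _ _).symm.trans ((adj.homEquiv _ _).apply_symm_apply h)
  haveI : Epi e0 := by
    haveI : Epi (π 0) := (hG 0).1
    exact epi_of_epi_fac he0
  haveI : Mono e0 := by
    haveI := AmpleVan.faithful_push i
    refine (Scheme.Modules.pushforward i).mono_of_mono_map (Exactness.mono_of_stalk _ fun x =>
      (ModuleCat.mono_iff_injective _).2 ((injective_iff_map_eq_zero _).2 fun u hu => ?_))
    obtain ⟨hd, hiso⟩ := AmpleVan.unit_desc_iso (J := IsLocalRing.maximalIdeal R) hsq hMc.1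
    haveI := hiso
    have hu0 : Epi (adj.unit.app M) := by
      rw [show adj.unit.app M = cokernel.π _ ≫ cokernel.desc _ _ hd from (cokernel.π_desc _ _ _).symm]
      infer_instance
    obtain ⟨y, rfl⟩ := @TFQuot.st_surjective _ _ _ (adj.unit.app M) hu0 x u
    obtain ⟨z, rfl⟩ := TFQuot.st_surjective φ x y
    have h1 : TFQuot.st p0 x z = 0 := by
      rw [show p0 = φ ≫ h from (Abelian.comp_epiDesc _ _ _).symm, TFQuot.st_comp, ← he0', TFQuot.st_comp]
      exact hu
    obtain ⟨w, hw⟩ := (hqker 0 x _).1 ((hqφ 0 x z).2 ((hp0 x z).1 h1))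
    rw [← hw, zero_add, pow_one, ← TFQuot.st_smul]
    refine (TFQuot.st_comp (Formal.smulMod R M t) (adj.unit.app M) x w).symm.trans ?_
    rw [show Formal.smulMod R M t ≫ adj.unit.app M = 0 from ?_, TFQuot.st_zero]
    · have := congrArg (fun ψ => Sigma.ι (fun _ : IsLocalRing.maximalIdeal R => M)
        ⟨t, hJ ▸ Ideal.mem_span_singleton_self t⟩ ≫ ψ) hd
      simp only [comp_zero, ← Category.assoc] at this
      rwa [show Sigma.ι (fun _ : IsLocalRing.maximalIdeal R => M) ⟨t, hJ ▸ Ideal.mem_span_singleton_self t⟩ ≫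
        Formal.smulFamily _ M = Formal.smulMod R M t from Sigma.ι_desc _ _] at this
  haveI : IsIso e0 := isIso_of_mono_of_epi e0
  exact ⟨M, φ, hMc, hφepi, hflat, asIso e0, he0⟩

end Groth.Agent.TFQuot

end
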