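import Groth.Agent.TFQuot.Chi
import Groth.Agent.TFQuot.TFStalk
import Groth.Agent.S18842

/-!
# The function `β` of a sheaf
-/

set_option autoImplicit false
set_option linter.style.haveILetI false
set_option linter.unusedSectionVars false
set_option backward.isDefEq.respectTransparency false
set_option backward.isDefEq.respectTransparency.types false
set_option maxHeartbeats 1000000

universe u

open CategoryTheory CategoryTheory.Limits AlgebraicGeometry TopologicalSpace

noncomputable section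

namespace Groth.Agent.TFQuot

open Groth.Agent

variable (k : Type u) [Field k] {X : Scheme.{u}} [X.Over (Spec (CommRingCat.of k))]

open Classical in
/-- `χ(E ⊗ M_T)`. -/
def bq (E M : X.Modules) (T : Set X) : ℤ :=
  if h : ∃ (G : X.Modules) (π : M ⟶ G), TFOne.IsQuotOn X M T G π then Curv2.euler k X (tE E h.choose) else 0

variable [IsProper (X ↘ Spec (CommRingCat.of k))] [AlgebraicGeometry.IsReduced X] {E : X.Modules} {r : ℕ}
  {M : X.Modules} {d : ℤ}

include k in
theorem bq_eq (hM : TFOne.IsTF1 X M) {T : Set X} {G : X.Modules} {π : M ⟶ G} (h : TFOne.IsQuotOn X M T G π) :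
    bq k E M T = Curv2.euler k X (tE E G) := by
  haveI := CurveCohLib.isNoetherian_of_proper (k := k) (X := X)
  have hex : ∃ (G : X.Modules) (π : M ⟶ G), TFOne.IsQuotOn X M T G π := ⟨G, π, h⟩
  rw [bq, dif_pos hex]
  obtain ⟨π', h'⟩ := hex.choose_spec
  obtain ⟨e, -⟩ := quot_iso hM.2.2 h' h
  exact Euler.euler_congr k ((DCoh.tensorBi.obj E).mapIso e)

include k in
theorem rBeta_eq_bq (hdim : topologicalKrullDim X ≤ 1) (hE : FlatMod.IsFinLocFreeOfRank r E)
    (hM : TFOne.IsTF1 X M) {T : Set X} (hT : IsClosed T) (uT : IsUnion T) {G : X.Modules} {π : M ⟶ G}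
    (h : TFOne.IsQuotOn X M T G π) :
    TFOne.rBeta X k (X ↘ Spec (CommRingCat.of k)) T hT E r G = bq k E M T := by
  rw [bq_eq k hM h, rBeta_eq_euler k hdim hE hM hT uT h]

include k in
theorem bq_empty (hdim : topologicalKrullDim X ≤ 1) (hE : FlatMod.IsFinLocFreeOfRank r E) (hM : TFOne.IsTF1 X M) :
    bq k E M ∅ = 0 := by
  haveI := CurveCohLib.isNoetherian_of_proper (k := k) (X := X)
  have u0 : IsUnion (∅ : Set X) := fun x hx => absurd hx (Set.notMem_empty x)
  obtain ⟨G, π, h⟩ := exists_quotOn hM u0 isClosed_empty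
  rw [← rBeta_eq_bq k hdim hE hM isClosed_empty u0 h, rBeta_empty h hE]

include k in
theorem bq_univ (hdim : topologicalKrullDim X ≤ 1) (hE : FlatMod.IsFinLocFreeOfRank r E) (hM : TFOne.IsTF1 X M)
    (hχ : Curv2.euler k X M = d) (hd : Curv2.deg k X E r = -(r : ℤ) * d) : bq k E M Set.univ = 0 := by
  haveI := CurveCohLib.isNoetherian_of_proper (k := k) (X := X)
  rw [← rBeta_eq_bq k hdim hE hM isClosed_univ isUnion_univ (quot_id hM),
    rBeta_univ hdim hM (quot_id hM) hE hχ hd]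

include k in
theorem bq_submod (hpure : ∀ C ∈ irreducibleComponents (X : Type u), topologicalKrullDim C = 1)
    (hE : FlatMod.IsFinLocFreeOfRank r E) (hM : TFOne.IsTF1 X M) {Y Z : Set X} (hY : IsClosed Y) (hZ : IsClosed Z)
    (uY : IsUnion Y) (uZ : IsUnion Z) (nY : Y.Nonempty) (nZ : Z.Nonempty) :
    bq k E M (Y ∪ Z) + bq k E M (⋃₀ {C | C ∈ irreducibleComponents (X : Type u) ∧ C ⊆ Y ∩ Z}) ≤
      bq k E M Y + bq k E M Z := by
  haveI := CurveCohLib.isNoetherian_of_proper (k := k) (X := X)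
  have hdim := dim_le_one hpure
  obtain ⟨W, hW⟩ : ∃ W, W = ⋃₀ {C | C ∈ irreducibleComponents (X : Type u) ∧ C ⊆ Y ∩ Z} := ⟨_, rfl⟩
  rw [← hW]
  have uW : IsUnion W := hW ▸ isUnion_comps
  have hWc : IsClosed W := hW ▸ isClosed_comps
  obtain ⟨GY, πY, hGY⟩ := exists_quotOn hM uY hY
  obtain ⟨GZ, πZ, hGZ⟩ := exists_quotOn hM uZ hZ
  obtain ⟨GU, πU, hGU⟩ := exists_quotOn hM (uY.union uZ) (hY.union hZ)
  obtain ⟨GW, πW, hGW⟩ := exists_quotOn hM uW hWc
  have h := Groth.Agent.S18842.result k X hpure M hM Y Z W hY hZ (isSubcurve_of_isUnion uY hY nY)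
    (isSubcurve_of_isUnion uZ hZ nZ) hW GY GZ GU GW πY πZ πU πW hGY hGZ hGU hGW
  have hdeg := degOn_union_meet (k := k) hdim hE hY hZ (hY.union hZ) hWc uY uZ (uY.union uZ) uW (fun η _ => Iff.rfl)
    fun η hη => mem_meet_iff hW hY hZ hη
  rw [← rBeta_eq_bq k hdim hE hM hY uY hGY, ← rBeta_eq_bq k hdim hE hM hZ uZ hGZ,
    ← rBeta_eq_bq k hdim hE hM (hY.union hZ) (uY.union uZ) hGU, ← rBeta_eq_bq k hdim hE hM hWc uW hGW]
  simp only [rBeta_eq]
  nlinarith [mul_le_mul_of_nonneg_left h (Int.natCast_nonneg r)]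

include k in
/-- Semistability in terms of `bq`. -/
theorem isSemistable_iff_bq (hdim : topologicalKrullDim X ≤ 1) (hE : FlatMod.IsFinLocFreeOfRank r E)
    (hM : TFOne.IsTF1 X M) :
    TFOne.IsSemistable X k (X ↘ Spec (CommRingCat.of k)) M E r ↔
      ∀ T : Set X, IsClosed T → IsUnion T → T.Nonempty → T ≠ Set.univ → 0 ≤ bq k E M T := by
  haveI := CurveCohLib.isNoetherian_of_proper (k := k) (X := X)
  refine ⟨fun h T hT uT nT hne => ?_, fun h => ⟨hM, fun T hT hs hne G π hG => ?_⟩⟩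
  · obtain ⟨G, π, hG⟩ := exists_quotOn hM uT hT
    rw [← rBeta_eq_bq k hdim hE hM hT uT hG]
    exact h.2 T hT (isSubcurve_of_isUnion uT hT nT) hne G π hG
  · obtain ⟨η, -, hη⟩ := exists_generic_mem hs
    rw [rBeta_eq_bq k hdim hE hM hT (isUnion_of_isSubcurve hs) hG]
    exact h T hT (isUnion_of_isSubcurve hs) ⟨η, hη⟩ hne

include k in
/-- There are finitely many unions of components. -/
theorem finite_unions : {T : Set X | IsClosed T ∧ IsUnion T}.Finite := by
  haveI := CurveCohLib.isNoetherian_of_proper (k := k) (X := X)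
  refine Set.Finite.of_finite_image (f := fun T : Set X => {η ∈ genericPoints X | η ∈ T})
    ((finite_genericPoints (X := X)).finite_subsets.subset ?_) fun T hT T' hT' h => ?_
  · rintro _ ⟨T, -, rfl⟩
    exact fun η hη => hη.1
  · exact hT.2.ext hT.1 hT'.2 hT'.1 fun η hη =>
      ⟨fun hh => (h.le ⟨hη, hh⟩).2, fun hh => (h.ge ⟨hη, hh⟩).2⟩

/-- The twisted Euler characteristic only depends on the module up to isomorphism. -/
theorem euler_tE_congr {E' G G' : X.Modules} (eE : E ≅ E') (e : G ≅ G') :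
    Curv2.euler k X (tE E G) = Curv2.euler k X (tE E' G') :=
  Euler.euler_congr k ((DCoh.tensorBi.mapIso eE).app G ≪≫ (DCoh.tensorBi.obj E').mapIso e)

end Groth.Agent.TFQuot

end
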