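import Groth.Agent.TFQuot.Beta
import Groth.Agent.CurveFinMap.Mult
import Groth.Agent.ASB.Tensor
import Groth.Agent.CurveBC.Coh
import Groth.Agent.HilbSnap.HighEuler
import Groth.Agent.QCoh.Support

/-!
# The numbers `β` as Euler characteristics of twisted quotients, and their constancy in flat families
-/

set_option autoImplicit false
set_option linter.style.haveILetI false
set_option linter.unusedSectionVars false
set_option backward.isDefEq.respectTransparency false
set_option backward.isDefEq.respectTransparency.types false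
set_option maxHeartbeats 1000000

universe u

open CategoryTheory CategoryTheory.Limits AlgebraicGeometry TopologicalSpace

noncomputable section

namespace Groth.Agent.TFQuot

open Groth.Agent

/-- `E ⊗ F`. -/
abbrev tE {X : Scheme.{u}} (E F : X.Modules) : X.Modules := (DCoh.tensorBi.obj E).obj F

theorem isFinLocFree_of_rank {X : Scheme.{u}} {E : X.Modules} {r : ℕ} (hE : FlatMod.IsFinLocFreeOfRank r E) :
    FlatMod.IsFinLocFree E := fun y => let ⟨W, hy, he⟩ := hE y; ⟨W, r, hy, he⟩

theorem isCoh_tE {X : Scheme.{u}} {E F : X.Modules} {r : ℕ} (hE : FlatMod.IsFinLocFreeOfRank r E)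
    (hF : Coh.IsCoh F) : Coh.IsCoh (tE E F) :=
  CurveTensor.isCoh_tensor (isFinLocFree_of_rank hE) hF

theorem isFlatOver_tE {X S : Scheme.{u}} (f : X ⟶ S) {E F : X.Modules} {r : ℕ}
    (hE : FlatMod.IsFinLocFreeOfRank r E) (hF : FlatMod.IsFlatOver f F) : FlatMod.IsFlatOver f (tE E F) := fun x => by
  obtain ⟨b⟩ := CurveTensor.exists_basis_stalk hE x
  let e : ((tE E F).presheaf.stalk x) ≃ₗ[X.presheaf.stalk x] (Fin r → F.presheaf.stalk x) :=
    (KFlatLib.stalkTensorIso x E F).symm.toLinearEquiv ≪≫ₗ
      TensorProduct.congr b.equivFun (LinearEquiv.refl _ _) ≪≫ₗ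
      TensorProduct.comm (X.presheaf.stalk x) (Fin r → X.presheaf.stalk x) (F.presheaf.stalk x) ≪≫ₗ
      TensorProduct.piScalarRight (X.presheaf.stalk x) (X.presheaf.stalk x) (F.presheaf.stalk x) (Fin r)
  letI := FlatMod.moduleStalkOver f F x
  letI := FlatMod.moduleStalkOver f (tE E F) x
  haveI : Module.Flat (S.presheaf.stalk (f x)) (F.presheaf.stalk x) := hF x
  exact Module.Flat.of_linearEquiv (R := S.presheaf.stalk (f x))
    (({ e.toAddEquiv with map_smul' := fun a m => e.map_smul (f.stalkMap x a) m } :
      ((tE E F).presheaf.stalk x) ≃ₗ[S.presheaf.stalk (f x)] (Fin r → F.presheaf.stalk x)).trans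
      (DirectSum.linearEquivFunOnFintype (S.presheaf.stalk (f x)) (Fin r) fun _ => F.presheaf.stalk x).symm)

theorem nonempty_pullback_tE {X Y : Scheme.{u}} (g : Y ⟶ X) (E F : X.Modules) :
    Nonempty ((Scheme.Modules.pullback g).obj (tE E F) ≅
      tE ((Scheme.Modules.pullback g).obj E) ((Scheme.Modules.pullback g).obj F)) :=
  ASB.pullback_tensor g E F

/-- The Euler characteristic of the fibre over the point of a field. -/
theorem eulerChar_field {K : Type u} [Field K] {Y : Scheme.{u}} (q : Y ⟶ Spec (CommRingCat.of K)) [IsProper q]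
    {M : Y.Modules} (hM : Coh.IsQCoh M) (x : Spec (CommRingCat.of K)) :
    PerfAux.eulerChar q M x = (letI : Y.Over (Spec (CommRingCat.of K)) := ⟨q⟩; Curv2.euler K Y M) := by
  letI : Y.Over (Spec (CommRingCat.of K)) := ⟨q⟩
  haveI : CompactSpace Y := QuasiCompact.compactSpace_of_compactSpace q
  haveI : QuasiSeparatedSpace Y := quasiSeparatedSpace_of_quasiSeparated q
  letI : Algebra K ((Spec (CommRingCat.of K)).residueField x : Type u) := (HilbSnap.resHom x).toAlgebra
  letI : (q.fiber x).Over (Spec (CommRingCat.of ((Spec (CommRingCat.of K)).residueField x : Type u))) :=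
    ⟨q.fiberToSpecResidueField x⟩
  exact CurveBC.euler_eq K ((Spec (CommRingCat.of K)).residueField x : Type u) (q.fiberι x)
    (HilbSnap.isPullback_resHom (X := Y) x) M hM

/-- The Euler characteristic on a fibre over a field point. -/
theorem euler_square {X S : Scheme.{u}} (f : X ⟶ S) [IsProper f] {N : X.Modules} (hN : Coh.IsQCoh N)
    {Ω : Type u} [Field Ω] {t : Spec (CommRingCat.of Ω) ⟶ S} {Y : Scheme.{u}} {i : Y ⟶ X}
    {qY : Y ⟶ Spec (CommRingCat.of Ω)} (hsq : IsPullback i qY f t) :
    (letI : Y.Over (Spec (CommRingCat.of Ω)) := ⟨qY⟩; Curv2.euler Ω Y ((Scheme.Modules.pullback i).obj N)) =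
      PerfAux.eulerChar f N (t (IsLocalRing.closedPoint Ω)) := by
  haveI : IsProper qY := MorphismProperty.of_isPullback hsq inferInstance
  rw [← eulerChar_field qY (QCoh.isQCoh_pullback i hN) (IsLocalRing.closedPoint Ω), HilbSnap.eulerChar_bc hsq hN]

/-- Euler characteristics of a flat family over a local ring are constant. -/
theorem eulerChar_eq_closed {A : Type u} [CommRing A] [IsLocalRing A] [IsNoetherianRing A] {X : Scheme.{u}}
    (f : X ⟶ Spec (CommRingCat.of A)) [IsProper f] {N : X.Modules} (hN : Coh.IsCoh N)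
    (hfl : FlatMod.IsFlatOver f N) (s : Spec (CommRingCat.of A)) :
    PerfAux.eulerChar f N s = PerfAux.eulerChar f N (IsLocalRing.closedPoint A) := by
  haveI : IsLocallyNoetherian X := LocallyOfFiniteType.isLocallyNoetherian f
  obtain ⟨U, hU, hcU, hc⟩ := (IsLocallyConstant.iff_exists_open _).1
    (PBC.isLocallyConstant_eulerChar f N (QCoh.isCoh_iff_isFP.1 hN) hfl) (IsLocalRing.closedPoint A)
  exact hc s ((IsLocalRing.specializes_closedPoint s).mem_open hU hcU)

section Curve

variable (k : Type u) [Field k] {X : Scheme.{u}} [X.Over (Spec (CommRingCat.of k))]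
  [IsProper (X ↘ Spec (CommRingCat.of k))] [AlgebraicGeometry.IsReduced X]

include k in
/-- Additive functions only depend on the lengths at the generic points. -/
theorem psi_eq_of_length (hdim : topologicalKrullDim X ≤ 1) (ψ : CurvePsi.Psi X) {A B : X.Modules}
    (hA : Coh.IsCoh A) (hB : Coh.IsCoh B)
    (h : ∀ η ∈ genericPoints X, Module.length (X.presheaf.stalk η) (A.presheaf.stalk η) =
      Module.length (X.presheaf.stalk η) (B.presheaf.stalk η)) : ψ.toFun A = ψ.toFun B := by
  classical
  haveI := CurveCohLib.isNoetherian_of_proper (k := k) (X := X)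
  let s : Finset X := (finite_genericPoints (X := X)).toFinset
  let c : X → ℤ := fun η => ψ.toFun ((Coh.push (VecSt.subschι X (closure {η}) isClosed_closure)).obj
    (Coh.structureModule (VecSt.subsch X (closure {η}) isClosed_closure)))
  let len : X.Modules → X → ℕ∞ := fun F x => Module.length (X.presheaf.stalk x) (F.presheaf.stalk x)
  have uC : ∀ η ∈ genericPoints X, IsUnion (closure ({η} : Set X)) := fun η hη x hx =>
    ⟨η, hη, specializes_iff_mem_closure.2 hx, subset_closure rfl⟩
  have hc0 : ∀ η ∈ genericPoints X, IsClosed ({η} : Set X) → c η = 0 := fun η hη hcl => by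
    have hq := quot_oq (uC η hη) isClosed_closure
    refine ψ.zero hq.2.1 fun x hx => ?_
    have hx' : x ∈ closure ({η} : Set X) := by rw [← hq.2.2.2]; exact hx
    rw [hcl.closure_eq] at hx'
    rw [Set.mem_singleton_iff.1 hx']
    exact hcl
  let φ : CurvePsi.Psi X :=
    { toFun := fun F => ∑ η ∈ s, ((len F η).toNat : ℤ) * c η
      congr := fun {M N} e => Finset.sum_congr rfl fun η _ => by
        rw [show len M η = len N η from ((DerSch.stalkFunctor X η).mapIso e).toLinearEquiv.length_eq]
      add := fun {A B C} f g w hS hA hB hC => by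
        rw [← Finset.sum_add_distrib]
        refine Finset.sum_congr rfl fun η hη => ?_
        have e : len B η = len A η + len C η := CycLib.length_stalk_shortExact hS hA.1 hB.1 hC.1 η
        have hfin : len B η < ⊤ := CycLib.length_stalk_lt_top B hB fun y _ hy =>
          eq_of_specializes_generic ((finite_genericPoints (X := X)).mem_toFinset.1 hη) hy
        rw [e, WithTop.add_lt_top] at hfin
        rw [e, ENat.toNat_add hfin.1.ne hfin.2.ne]
        push_cast
        ring
      zero := fun {M} _ h0 => Finset.sum_eq_zero fun η hη => by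
        by_cases hs : Subsingleton (M.presheaf.stalk η)
        · rw [show len M η = 0 from Module.length_eq_zero]
          simp
        · rw [hc0 η ((finite_genericPoints (X := X)).mem_toFinset.1 hη) (h0 η hs), mul_zero] }
  have key : ∀ {F : X.Modules}, Coh.IsCoh F → ψ.toFun F = φ.toFun F := fun {F} hF =>
    CurveFinMap.psi_ext k hdim ψ φ (fun {Z} i _ _ _ => by
      let η := i (genericPoint Z)
      have hrange : Set.range i = closure ({η} : Set X) := by
        rw [((genericPoint_spec Z).image i.continuous).def, Set.image_univ,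
          i.isClosedEmbedding.isClosed_range.closure_eq]
      by_cases hη : η ∈ genericPoints X
      · have hq := quot_oqi i hrange (uC η hη)
        obtain ⟨e, -⟩ := quot_iso (isTF1_structureModule (X := X)).2.2 hq (quot_oq (uC η hη) isClosed_closure)
        rw [ψ.congr e]
        show c η = ∑ θ ∈ s, _
        rw [Finset.sum_eq_single η]
        · obtain ⟨e0⟩ := AssLib.nonempty_stalkUnitEquiv η
          have l1 : len ((Coh.push i).obj (Coh.structureModule Z)) η =
              Module.length (X.presheaf.stalk η) (X.presheaf.stalk η) :=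
            ((LinearEquiv.ofBijective (st (oqi i) η).hom (bijective_quot isTF1_structureModule.2.2 hq hη
              (subset_closure rfl))).symm.trans e0.symm).length_eq
          letI := (isField_stalk_generic hη).toField
          rw [l1, Module.length_eq_one]
          simp
        · intro θ hθ hne
          have hθC : θ ∉ closure ({η} : Set X) := fun hm => hne
            (eq_of_specializes_generic ((finite_genericPoints (X := X)).mem_toFinset.1 hθ)
              (specializes_iff_mem_closure.2 hm)).symm
          haveI : Subsingleton (((Coh.push i).obj (Coh.structureModule Z)).presheaf.stalk θ) :=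
            subsingleton_stalk_iff.2 (hq.2.2.2 ▸ hθC)
          rw [show len ((Coh.push i).obj (Coh.structureModule Z)) θ = 0 from Module.length_eq_zero]
          simp
        · exact fun hn => absurd ((finite_genericPoints (X := X)).mem_toFinset.2 hη) hn
      · have hcl := isClosed_singleton_of_notMem hdim hη
        have hG : Coh.IsCoh ((Coh.push i).obj (Coh.structureModule Z)) := QCoh.isCoh_push_structure i
        have h0 : ∀ x ∈ CohB1.support ((Coh.push i).obj (Coh.structureModule Z)), IsClosed ({x} : Set X) :=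
          fun x hx => by
            have hxr := QCoh.support_push_subset i QCoh.isQCoh_structureModule hx
            rw [hrange, hcl.closure_eq] at hxr
            exact Set.mem_singleton_iff.1 hxr ▸ hcl
        rw [ψ.zero hG h0, φ.zero hG h0]) hF
  rw [key hA, key hB]
  exact Finset.sum_congr rfl fun η hη => by
    rw [show len A η = len B η from h η ((finite_genericPoints (X := X)).mem_toFinset.1 hη)]

include k in
/-- The generic lengths of a torsion-free quotient are those of the structure sheaf of its support. -/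
theorem length_quot {M G : X.Modules} {Z : Set X} {π : M ⟶ G} (hM : TFOne.IsRkOne X M)
    (h : TFOne.IsQuotOn X M Z G π) {η : X} (hη : η ∈ genericPoints X) [Decidable (η ∈ Z)] :
    Module.length (X.presheaf.stalk η) (G.presheaf.stalk η) = if η ∈ Z then 1 else 0 := by
  haveI := CurveCohLib.isNoetherian_of_proper (k := k) (X := X)
  split_ifs with hZ
  · obtain ⟨e⟩ := hM η hη
    letI := (isField_stalk_generic hη).toField
    exact (((LinearEquiv.ofBijective (st π η).hom (bijective_quot hM h hη hZ)).symm.trans e).length_eq).trans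
      (Module.length_eq_one _ _)
  · haveI : Subsingleton (G.presheaf.stalk η) := subsingleton_stalk_iff.2 (h.2.2.2 ▸ hZ)
    exact Module.length_eq_zero

include k in
/-- Riemann–Roch for torsion-free quotients: `r·χ(G) + deg(E|_Z) = χ(E ⊗ G)`. -/
theorem rBeta_eq_euler (hdim : topologicalKrullDim X ≤ 1) {E : X.Modules} {r : ℕ}
    (hE : FlatMod.IsFinLocFreeOfRank r E) {M G : X.Modules} {Z : Set X} {π : M ⟶ G} (hM : TFOne.IsTF1 X M)
    (hZ : IsClosed Z) (uZ : IsUnion Z) (h : TFOne.IsQuotOn X M Z G π) :
    TFOne.rBeta X k (X ↘ Spec (CommRingCat.of k)) Z hZ E r G = Curv2.euler k X (tE E G) := by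
  haveI := CurveCohLib.isNoetherian_of_proper (k := k) (X := X)
  classical
  haveI := CurveCohLib.isNoetherian_of_proper (k := k) (X := X)
  have hq := quot_oq uZ hZ
  have h1 := psi_eq_of_length k hdim (CurvePsi.eulerPsi k hE) h.2.1 hq.2.1 fun η hη => by
    rw [length_quot k hM.2.2 h hη, length_quot k isTF1_structureModule.2.2 hq hη]
  letI : (VecSt.subsch X Z hZ).Over (Spec (CommRingCat.of k)) :=
    ⟨VecSt.subschι X Z hZ ≫ (X ↘ Spec (CommRingCat.of k))⟩
  rw [CurveFinMap.eulerPsi_push k (VecSt.subschι X Z hZ) rfl hE] at h1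
  show (r : ℤ) * Curv2.euler k X G + Curv2.deg k (VecSt.subsch X Z hZ) _ r = _
  rw [← h1]
  show (r : ℤ) * _ + (Curv2.euler k X (tE E G) - (r : ℤ) * _) = _
  ring

include k in
/-- Twisting a module vanishing at the generic points gives a nonnegative Euler characteristic. -/
theorem euler_tE_nonneg (hdim : topologicalKrullDim X ≤ 1) {E : X.Modules} {r : ℕ}
    (hE : FlatMod.IsFinLocFreeOfRank r E) {K : X.Modules} (hK : Coh.IsCoh K)
    (h : ∀ η ∈ genericPoints X, η ∉ CohB1.support K) : 0 ≤ Curv2.euler k X (tE E K) :=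
  haveI := CurveCohLib.isNoetherian_of_proper (k := k) (X := X)
  euler_nonneg k hdim (isCoh_tE hE hK) fun η hη hs => h η hη (CurveTensor.support_tensor_subset hs)

include k in
/-- A quotient of a torsion-free rank one sheaf has no smaller twisted Euler characteristic than its
torsion-free part. -/
theorem exists_quot_le (hdim : topologicalKrullDim X ≤ 1) {E : X.Modules} {r : ℕ}
    (hE : FlatMod.IsFinLocFreeOfRank r E) {M F : X.Modules} (hM : TFOne.IsTF1 X M) (hF : Coh.IsCoh F) (p : M ⟶ F)
    [Epi p] : ∃ (Z : Set X) (G : X.Modules) (π : M ⟶ G) (ρ : F ⟶ G),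
      IsClosed Z ∧ IsUnion Z ∧ TFOne.IsQuotOn X M Z G π ∧ p ≫ ρ = π ∧
      (∀ η ∈ genericPoints X, η ∈ Z ↔ η ∈ CohB1.support F) ∧
      Curv2.euler k X (tE E G) ≤ Curv2.euler k X (tE E F) := by
  classical
  haveI := CurveCohLib.isNoetherian_of_proper (k := k) (X := X)
  let Z : Set X := ⋃₀ {C | C ∈ irreducibleComponents (X : Type u) ∧ C ⊆ CohB1.support F}
  have hsc := QCoh.isClosed_support_of_isFT hF.1 hF.2
  have hZmem : ∀ η ∈ genericPoints X, η ∈ Z ↔ η ∈ CohB1.support F := fun η hη => by
    rw [mem_sUnion_components_iff (P := fun C => C ⊆ CohB1.support F) hη, generic_closure_subset_iff hsc]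
  obtain ⟨G, π, hG⟩ := exists_quotOn hM (isUnion_comps (X := X)) (isClosed_comps (X := X)) (Z := Z)
  have hinj : ∀ η ∈ genericPoints X, η ∈ CohB1.support F → Function.Injective (st p η) := fun η hη hs => by
    refine (injective_iff_map_eq_zero _).2 fun v hv => ?_
    obtain ⟨e⟩ := hM.2.2 η hη
    letI := (isField_stalk_generic hη).toField
    by_contra hv0
    refine hs (subsingleton_of_forall_eq 0 fun w => ?_)
    obtain ⟨m, rfl⟩ := st_surjective p η w
    have hev : e v ≠ 0 := fun h0 => hv0 (e.map_eq_zero_iff.1 h0)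
    have hm : m = (e m * (e v)⁻¹) • v := e.injective (by
      rw [map_smul, smul_eq_mul, mul_assoc, inv_mul_cancel₀ hev, mul_one])
    rw [hm, map_smul, hv, smul_zero]
  have h0 : kernel.ι p ≫ π = 0 := hom_eq_zero hG.2.1.1 hG.2.2.1 _ fun η hη v => by
    by_cases hZ : η ∈ Z
    · have hv : st (kernel.ι p) η v = 0 := hinj η hη ((hZmem η hη).1 hZ) (by
        rw [← st_comp, kernel.condition, st_zero, map_zero])
      rw [st_comp, hv, map_zero]
    · exact stalk_eq_zero hG hZ _
  let ρ : F ⟶ G := Abelian.epiDesc p π h0
  have hρ : p ≫ ρ = π := Abelian.comp_epiDesc _ _ _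
  haveI : Epi π := hG.1
  haveI : Epi ρ := epi_of_epi_fac hρ
  refine ⟨Z, G, π, ρ, isClosed_comps, isUnion_comps, hG, hρ, hZmem, ?_⟩
  have hK := QCoh.isCoh_kernel hF hG.2.1 ρ
  have hk : ∀ η ∈ genericPoints X, η ∉ CohB1.support (kernel ρ) := fun η hη hs => hs
    (subsingleton_of_forall_eq 0 fun w => st_injective (kernel.ι ρ) η (by
      rw [map_zero]
      obtain ⟨m, hm⟩ := st_surjective p η (st (kernel.ι ρ) η w)
      by_cases hsF : η ∈ CohB1.support F
      · have : m = 0 := (bijective_quot hM.2.2 hG hη ((hZmem η hη).2 hsF)).1 (by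
          rw [map_zero, ← hρ, st_comp, hm, ← st_comp, kernel.condition, st_zero])
        rw [← hm, this, map_zero]
      · haveI : Subsingleton ((DerSch.stalkFunctor X η).obj F) := subsingleton_stalk_iff.2 hsF
        exact Subsingleton.elim _ _))
  have hnn := euler_tE_nonneg k hdim hE hK hk
  have hS := CurveTensor.shortExact_tensor (isFinLocFree_of_rank hE) _ _ _ (CurveSlope.shortExact_kernel_of_epi ρ)
  have := Euler.euler_add k hS (isCoh_tE hE hK) (isCoh_tE hE hF) (isCoh_tE hE hG.2.1)
  dsimp only at this hnn
  linarith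

end Curve

end Groth.Agent.TFQuot

end
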