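import Groth.Agent.TFQuot.Scalars
import Groth.Agent.TorLib.Basic
import Groth.Agent.QCoh.Stalk
import Groth.Agent.KFlatLib.Perfect.Spread

/-!
# Torsion-free quotients: existence, uniqueness and a criterion for torsion-freeness
-/

set_option autoImplicit false
set_option linter.style.haveILetI false
set_option linter.unusedSectionVars false
set_option backward.isDefEq.respectTransparency false
set_option backward.isDefEq.respectTransparency.types false
set_option maxHeartbeats 1000000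

universe u

open CategoryTheory CategoryTheory.Limits AlgebraicGeometry TopologicalSpace

noncomputable section

namespace Groth.Agent.TFQuot

open Groth.Agent

variable {X : Scheme.{u}}

theorem finite_genericPoints [NoetherianSpace X] : (genericPoints X).Finite := by
  haveI := (TopologicalSpace.NoetherianSpace.finite_irreducibleComponents (α := X)).to_subtype
  exact Set.finite_coe_iff.1 (Finite.of_equiv _ genericPoints.equiv.symm)

/-- Regular elements of local rings stay nonzero at generic points. -/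
theorem specializes_ne_zero {x y : X} (hy : y ∈ genericPoints X) [hf : Fact (IsField (X.presheaf.stalk y))]
    (h : y ⤳ x) {r : X.presheaf.stalk x} (hr : r ∈ nonZeroDivisors (X.presheaf.stalk x)) :
    X.presheaf.stalkSpecializes h r ≠ 0 := by
  let φ := X.presheaf.stalkSpecializes h
  letI := hf.out.toField
  let P : PrimeSpectrum (X.presheaf.stalk x) := ⟨RingHom.ker φ.hom, RingHom.ker_isPrime _⟩
  have hP : P.asIdeal ∈ minimalPrimes (X.presheaf.stalk x) := by
    refine ⟨⟨P.2, bot_le⟩, fun Q hQ hQP => ?_⟩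
    have hyP : X.fromSpecStalk x P = y := by
      have h1 := congrArg (fun g => g.base (IsLocalRing.closedPoint (X.presheaf.stalk y)))
        (Scheme.SpecMap_stalkSpecializes_fromSpecStalk h)
      simp only [Scheme.Hom.comp_base, TopCat.comp_app] at h1
      rw [show Spec.map φ (IsLocalRing.closedPoint (X.presheaf.stalk y)) = P from ?_] at h1
      · exact h1.trans Scheme.fromSpecStalk_closedPoint
      · refine PrimeSpectrum.ext (Ideal.ext fun a => ?_)
        show φ.hom a ∈ IsLocalRing.maximalIdeal _ ↔ φ.hom a = 0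
        rw [IsLocalRing.isField_iff_maximalIdeal_eq.1 hf.out, Submodule.mem_bot]
    have hz : X.fromSpecStalk x ⟨Q, hQ.1⟩ ⤳ y := by
      rw [← hyP]
      exact ((PrimeSpectrum.le_iff_specializes ⟨Q, hQ.1⟩ P).1 hQP).map (X.fromSpecStalk x).continuous
    have heq := (X.fromSpecStalk x).isEmbedding.injective
      ((eq_of_specializes_generic hy hz).trans hyP.symm)
    exact (congrArg PrimeSpectrum.asIdeal heq).ge
  intro h0
  exact Set.disjoint_left.1 (Ideal.disjoint_nonZeroDivisors_of_mem_minimalPrimes hP) h0 hr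

/-- A module whose sections are detected at the generic points is torsion-free. -/
theorem torsionFree_of_generic [AlgebraicGeometry.IsNoetherian X] [AlgebraicGeometry.IsReduced X] {G : X.Modules}
    (h : ∀ (U : X.Opens) (s : Γ(G, U)),
      (∀ y (hy : y ∈ U), y ∈ genericPoints X → G.presheaf.germ U y hy s = 0) → s = 0) :
    TorSh.IsTorsionFree G := by
  intro x
  constructor
  intro a ha
  rw [isSMulRegular_iff_right_eq_zero_of_smul]
  intro v hv
  obtain ⟨U, hxU, s, rfl⟩ := TopCat.Presheaf.exists_germ_eq G.presheaf v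
  obtain ⟨V, hV, hxV, r, hr, hrs⟩ := TorLib.exists_smul_res_eq_zero G hxU s a hv
  let S : Set X := ⋃ η ∈ {η | η ∈ genericPoints X ∧ ¬ η ⤳ x}, closure {η}
  have hS : IsClosed S := (finite_genericPoints.subset fun η h => h.1).isClosed_biUnion fun η _ => isClosed_closure
  have hxS : x ∉ S := fun hx => by
    simp only [S, Set.mem_iUnion₂] at hx
    obtain ⟨η, hη, hx⟩ := hx
    exact hη.2 (specializes_iff_mem_closure.2 hx)
  let W : X.Opens := ⟨(V : Set X) ∩ Sᶜ, V.2.inter hS.isOpen_compl⟩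
  have h0 : G.presheaf.map (homOfLE (show W ≤ U from fun z hz => hV hz.1)).op s = 0 := h W _ fun y hy hg => by
    have hspec : y ⤳ x := by
      by_contra hn
      exact hy.2 (Set.mem_iUnion₂.2 ⟨y, ⟨hg, hn⟩, subset_closure rfl⟩)
    haveI : Fact (IsField (X.presheaf.stalk y)) := ⟨isField_stalk_generic hg⟩
    have hne := specializes_ne_zero hg hspec (isRegular_iff_mem_nonZeroDivisors.1 ha)
    rw [← hr, TopCat.Presheaf.germ_stalkSpecializes_apply] at hne
    have h1 := congrArg (G.presheaf.germ V y hy.1) hrs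
    rw [map_zero, QCoh.germ_smul', G.presheaf.germ_res_apply] at h1
    rw [G.presheaf.germ_res_apply]
    letI := (isField_stalk_generic hg).toField
    exact (smul_eq_zero.1 h1).resolve_left hne
  rw [← G.presheaf.germ_res_apply (homOfLE (show W ≤ U from fun z hz => hV hz.1)) x ⟨hxV, hxS⟩ s, h0, map_zero]

/-- A union of irreducible components (possibly empty). -/
def IsUnion (Z : Set X) : Prop := ∀ x ∈ Z, ∃ η ∈ genericPoints X, η ⤳ x ∧ η ∈ Z

theorem isUnion_sUnion {S : Set (Set X)} (hS : S ⊆ irreducibleComponents (X : Type u)) : IsUnion (⋃₀ S) := by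
  rintro x ⟨C, hC, hx⟩
  obtain ⟨η, hη⟩ := QuasiSober.sober (hS hC).1 (isClosed_of_mem_irreducibleComponents C (hS hC))
  exact ⟨η, by show closure ({η} : Set X) ∈ irreducibleComponents X; rw [hη.def]; exact hS hC, hη.specializes hx,
    Set.mem_sUnion.2 ⟨C, hC, hη.mem⟩⟩

theorem isUnion_of_isSubcurve {Z : Set X} (hZ : VecSt.IsSubcurve X Z) : IsUnion Z := by
  obtain ⟨S, hS, -, rfl⟩ := hZ
  exact isUnion_sUnion hS

theorem isUnion_univ : IsUnion (Set.univ : Set X) := fun x _ => by
  obtain ⟨η, hη⟩ := QuasiSober.sober (isIrreducible_irreducibleComponent (x := x)) isClosed_irreducibleComponent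
  exact ⟨η, by
    show closure ({η} : Set X) ∈ irreducibleComponents X
    rw [hη.def]; exact irreducibleComponent_mem_irreducibleComponents x, hη.specializes mem_irreducibleComponent, trivial⟩

theorem IsUnion.union {Y Z : Set X} (hY : IsUnion Y) (hZ : IsUnion Z) : IsUnion (Y ∪ Z) := by
  rintro x (hx | hx)
  · obtain ⟨η, h1, h2, h3⟩ := hY x hx; exact ⟨η, h1, h2, .inl h3⟩
  · obtain ⟨η, h1, h2, h3⟩ := hZ x hx; exact ⟨η, h1, h2, .inr h3⟩

theorem isClosed_of_isUnion [NoetherianSpace X] {Z : Set X} (hZ : IsUnion Z)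
    (hg : ∀ η ∈ genericPoints X, η ∈ Z → closure ({η} : Set X) ⊆ Z) : IsClosed Z := by
  rw [show Z = ⋃ η ∈ {η | η ∈ genericPoints X ∧ η ∈ Z}, closure {η} from subset_antisymm
    (fun x hx => by
      obtain ⟨η, h1, h2, h3⟩ := hZ x hx
      exact Set.mem_iUnion₂.2 ⟨η, ⟨h1, h3⟩, h2.mem_closure⟩)
    (Set.iUnion₂_subset fun η hη => hg η hη.1 hη.2)]
  exact (finite_genericPoints.subset fun η h => h.1).isClosed_biUnion fun η _ => isClosed_closure

theorem IsUnion.subset {Y Z : Set X} (hY : IsUnion Y) (hZ : IsClosed Z)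
    (h : ∀ η ∈ genericPoints X, η ∈ Y → η ∈ Z) : Y ⊆ Z := fun x hx => by
  obtain ⟨η, h1, h2, h3⟩ := hY x hx
  exact h2.mem_closed hZ (h η h1 h3)

theorem IsUnion.ext {Y Z : Set X} (hY : IsUnion Y) (hYc : IsClosed Y) (hZ : IsUnion Z) (hZc : IsClosed Z)
    (h : ∀ η ∈ genericPoints X, η ∈ Y ↔ η ∈ Z) : Y = Z :=
  (hY.subset hZc fun η hη => (h η hη).1).antisymm (hZ.subset hYc fun η hη => (h η hη).2)

theorem isSubcurve_of_isUnion {Z : Set X} (hZ : IsUnion Z) (hZc : IsClosed Z) (hne : Z.Nonempty) :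
    VecSt.IsSubcurve X Z := by
  refine ⟨(fun η => closure {η}) '' {η | η ∈ genericPoints X ∧ η ∈ Z}, ?_, ?_, subset_antisymm (fun x hx => ?_) ?_⟩
  · rintro _ ⟨η, hη, rfl⟩; exact hη.1
  · obtain ⟨x, hx⟩ := hne
    obtain ⟨η, h1, -, h3⟩ := hZ x hx
    exact ⟨_, η, ⟨h1, h3⟩, rfl⟩
  · obtain ⟨η, h1, h2, h3⟩ := hZ x hx
    exact ⟨_, ⟨η, ⟨h1, h3⟩, rfl⟩, h2.mem_closure⟩
  · rintro x ⟨_, ⟨η, hη, rfl⟩, hx⟩
    exact (specializes_iff_mem_closure.2 hx).mem_closed hZc hη.2

theorem generic_closure_subset_iff {Z : Set X} (hZ : IsClosed Z) {η : X} :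
    closure ({η} : Set X) ⊆ Z ↔ η ∈ Z :=
  ⟨fun h => h (subset_closure rfl), fun h => closure_minimal (Set.singleton_subset_iff.2 h) hZ⟩

theorem mem_sUnion_components_iff {P : Set X → Prop} {η : X} (hη : η ∈ genericPoints X) :
    η ∈ ⋃₀ {C | C ∈ irreducibleComponents (X : Type u) ∧ P C} ↔ P (closure {η}) := by
  refine ⟨?_, fun h => ⟨_, ⟨hη, h⟩, subset_closure rfl⟩⟩
  rintro ⟨C, ⟨hC, hP⟩, hη'⟩
  have h1 : closure ({η} : Set X) ⊆ C := (generic_closure_subset_iff (isClosed_of_mem_irreducibleComponents C hC)).2 hη'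
  rwa [h1.antisymm (hη.2 hC.1 h1)]

/-- Quotient supports agree with the stalk at generic points. -/
theorem quot_id [AlgebraicGeometry.IsNoetherian X] [AlgebraicGeometry.IsReduced X] {M : X.Modules}
    (hM : TFOne.IsTF1 X M) : TFOne.IsQuotOn X M Set.univ M (𝟙 M) := by
  refine ⟨inferInstance, hM.1, hM.2.1, Set.eq_univ_of_forall fun x => ?_⟩
  obtain ⟨η, h1, h2, -⟩ := isUnion_univ (X := X) x trivial
  exact h2.mem_closed (QCoh.isClosed_support_of_isFT hM.1.1 hM.1.2) (mem_support_of_rkOne hM.2.2 h1)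

/-- A torsion-free quotient exists on every union of components. -/
theorem exists_quotOn [AlgebraicGeometry.IsNoetherian X] [AlgebraicGeometry.IsReduced X] {M : X.Modules}
    (hM : TFOne.IsTF1 X M) {Z : Set X} (hZ : IsUnion Z) (hZc : IsClosed Z) :
    ∃ (G : X.Modules) (π : M ⟶ G), TFOne.IsQuotOn X M Z G π := by
  let S : Set X := ⋃ η ∈ {η | η ∈ genericPoints X ∧ η ∉ Z}, closure {η}
  have hS : IsClosed S := (finite_genericPoints.subset fun η h => h.1).isClosed_biUnion fun η _ => isClosed_closure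
  let U : X.Opens := ⟨Sᶜ, hS.isOpen_compl⟩
  have hUgen : ∀ η ∈ genericPoints X, η ∈ Z → η ∈ U := fun η hη hηZ hηS => by
    obtain ⟨θ, hθ, hθη⟩ := Set.mem_iUnion₂.1 hηS
    have := hη.2 isIrreducible_singleton.closure
      ((generic_closure_subset_iff (isClosed_closure (s := {θ}))).2 hθη)
    exact hθ.2 ((generic_closure_subset_iff hZc).2 hηZ (this (subset_closure rfl)))
  have hdisj : ∀ x ∈ U, x ∈ Z := fun x hx => by
    obtain ⟨η, h1, h2, -⟩ := isUnion_univ (X := X) x trivial
    by_cases hηZ : η ∈ Z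
    · exact h2.mem_closed hZc hηZ
    · exact absurd (Set.mem_iUnion₂.2 ⟨η, ⟨h1, hηZ⟩, h2.mem_closure⟩) hx
  let u := KFlatLib.unitW U M
  haveI : QuasiCompact U.ι := inferInstance
  have hQ : Coh.IsQCoh ((Scheme.Modules.pushforward U.ι).obj (M.restrict U.ι)) :=
    QCoh.isQCoh_pushforward _ (QCoh.isQCoh_restrict _ hM.1.1)
  have hK := QCoh.isQCoh_kernel hM.1.1 hQ u
  have hG : Coh.IsCoh (Abelian.coimage u) := QCoh.isCoh_cokernel hK hM.1 (kernel.ι u)
  let m := Abelian.factorThruCoimage u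
  have htQ : TorSh.IsTorsionFree ((Scheme.Modules.pushforward U.ι).obj (M.restrict U.ι)) := by
    refine torsionFree_of_generic fun V s hs => ?_
    let V' := U.ι ''ᵁ (U.ι ⁻¹ᵁ V)
    have hV' : V' ≤ V := U.ι.image_preimage_le V
    refine TFCurvLib.eq_zero_of_germ_isField (F := M) hM.1.1 hM.2.1 (U := V') s fun y hy hf => ?_
    have hyU : y ∈ U := by
      obtain ⟨z, -, rfl⟩ := hy
      exact z.2
    haveI := KFlatLib.isIso_stalk_unitW hyU M
    refine ((ConcreteCategory.isIso_iff_bijective _).1 this).1 ?_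
    rw [map_zero]
    refine (DerSch.stalkFunctor_map_germ y u V' hy s).trans ?_
    have h1 := hs y (hV' hy) (mem_genericPoints_of_isField hf)
    rw [← TopCat.Presheaf.germ_res_apply _ (homOfLE hV') y hy s] at h1
    refine Eq.trans ?_ h1
    congr 1
  refine ⟨Abelian.coimage u, Abelian.coimage.π u, inferInstance, hG, torsionFree_of_mono m htQ,
    subset_antisymm (fun x hx => ?_) ?_⟩
  · by_contra hxZ
    refine hx (subsingleton_of_forall_eq 0 fun v => st_injective m x ?_)
    rw [map_zero]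
    obtain ⟨W, hxW, s, hs⟩ := TopCat.Presheaf.exists_germ_eq
      ((Scheme.Modules.pushforward U.ι).obj (M.restrict U.ι)).presheaf (st m x v)
    let W' : X.Opens := ⟨(W : Set X) ∩ Zᶜ, W.2.inter hZc.isOpen_compl⟩
    have hW' : U.ι ''ᵁ (U.ι ⁻¹ᵁ W') = ⊥ := le_bot_iff.1 fun z hz => by
      obtain ⟨z, hz', rfl⟩ := hz
      exact absurd (hdisj _ z.2) hz'.2
    haveI : Subsingleton Γ((Scheme.Modules.pushforward U.ι).obj (M.restrict U.ι), W') := by
      show Subsingleton Γ(M, U.ι ''ᵁ (U.ι ⁻¹ᵁ W'))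
      rw [hW']
      exact AddCommGrpCat.subsingleton_of_isZero
        (TopCat.Sheaf.isTerminalOfEmpty (⟨M.presheaf, M.isSheaf⟩ : TopCat.Sheaf Ab.{u} X)).isZero
    refine hs.symm.trans ?_
    rw [← TopCat.Presheaf.germ_res_apply _ (homOfLE (show W' ≤ W from Set.inter_subset_left)) x ⟨hxW, hxZ⟩ s,
      Subsingleton.elim (α := Γ((Scheme.Modules.pushforward U.ι).obj (M.restrict U.ι), W'))
        (((Scheme.Modules.pushforward U.ι).obj (M.restrict U.ι)).presheaf.map _ s) 0]
    exact map_zero _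
  · refine hZ.subset (QCoh.isClosed_support_of_isFT hG.1 hG.2) fun η hη hηZ hsub => ?_
    haveI : Subsingleton ((DerSch.stalkFunctor X η).obj (Abelian.coimage u)) := hsub
    haveI := KFlatLib.isIso_stalk_unitW (hUgen η hη hηZ) M
    refine mem_support_of_rkOne hM.2.2 hη (subsingleton_of_forall_eq 0 fun v => ?_)
    refine ((ConcreteCategory.isIso_iff_bijective _).1 this).1 ?_
    rw [map_zero]
    show st u η v = 0
    rw [← Abelian.coimage.fac u, st_comp, Subsingleton.elim (st (Abelian.coimage.π u) η v) 0, map_zero]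

/-- Torsion-free quotients on the same set are isomorphic. -/
theorem quot_iso [IsLocallyNoetherian X] [AlgebraicGeometry.IsReduced X] {M : X.Modules} (hM : TFOne.IsRkOne X M)
    {Z : Set X} {G G' : X.Modules} {π : M ⟶ G} {π' : M ⟶ G'} (h : TFOne.IsQuotOn X M Z G π)
    (h' : TFOne.IsQuotOn X M Z G' π') : ∃ e : G ≅ G', π ≫ e.hom = π' := by
  obtain ⟨r, hr⟩ := exists_factor hM h h' le_rfl (𝟙 M)
  obtain ⟨r', hr'⟩ := exists_factor hM h' h le_rfl (𝟙 M)
  rw [Category.id_comp] at hr hr'
  haveI := h.1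
  haveI := h'.1
  exact ⟨⟨r, r', by rw [← cancel_epi π, reassoc_of% hr, hr', Category.comp_id],
    by rw [← cancel_epi π', reassoc_of% hr', hr, Category.comp_id]⟩, hr⟩

end Groth.Agent.TFQuot

end
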