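import Groth.Agent.TFQuot.Crit
import Groth.Agent.CurveFinMap.Components
import Groth.Agent.CurveBC.Coh
import Groth.Agent.KZ.OpenExt
import Groth.Agent.AssLib.Apply

/-!
# Additivity of degrees on unions of components
-/

set_option autoImplicit false
set_option linter.style.haveILetI false
set_option linter.unusedSectionVars false
set_option backward.isDefEq.respectTransparency false
set_option backward.isDefEq.respectTransparency.types false
set_option maxHeartbeats 1000000

universe u

open CategoryTheory CategoryTheory.Limits AlgebraicGeometry TopologicalSpace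

noncomputable section

namespace Groth.Agent.TFQuot

open Groth.Agent

variable {X : Scheme.{u}}

theorem st_biprod_eq {A B : X.Modules} (x : X) (w : (DerSch.stalkFunctor X x).obj (A ⊞ B)) :
    w = st (biprod.inl : A ⟶ A ⊞ B) x (st biprod.fst x w) + st (biprod.inr : B ⟶ A ⊞ B) x (st biprod.snd x w) := by
  rw [← st_comp, ← st_comp, ← st_add, biprod.total]
  show w = (DerSch.stalkFunctor X x).map (𝟙 _) w
  rw [CategoryTheory.Functor.map_id]
  rfl

theorem isTF1_structureModule [AlgebraicGeometry.IsReduced X] [IsLocallyNoetherian X] :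
    TFOne.IsTF1 X (Coh.structureModule X) :=
  ⟨QCoh.isCoh_structureModule', fun x => by
    obtain ⟨e⟩ := AssLib.nonempty_stalkUnitEquiv x
    exact e.symm.injective.moduleIsTorsionFree e.symm fun r v => e.symm.map_smul r v,
    fun x _ => by
      obtain ⟨e⟩ := AssLib.nonempty_stalkUnitEquiv x
      exact ⟨e.symm⟩⟩

/-- `O_X ⟶ i_* O_Z`. -/
def oqi {Z : Scheme.{u}} (i : Z ⟶ X) : Coh.structureModule X ⟶ (Coh.push i).obj (Coh.structureModule Z) :=
  (Scheme.Modules.pullbackPushforwardAdjunction i).unit.app _ ≫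
    (Scheme.Modules.pushforward i).map (CurveBC.unitIso i).hom

/-- `O_X ⟶ ι_* O_Z`. -/
abbrev oq (Z : Set X) (hZ : IsClosed Z) :
    Coh.structureModule X ⟶ (Coh.push (VecSt.subschι X Z hZ)).obj (Coh.structureModule (VecSt.subsch X Z hZ)) :=
  oqi (VecSt.subschι X Z hZ)

/-- A reduced closed subscheme on a union of components gives the quotient of the structure sheaf. -/
theorem quot_oqi [AlgebraicGeometry.IsNoetherian X] [AlgebraicGeometry.IsReduced X] {S : Scheme.{u}} (ι : S ⟶ X)
    [IsClosedImmersion ι] [AlgebraicGeometry.IsReduced S] {Z : Set X} (hr : Set.range ι = Z) (hu : IsUnion Z) :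
    TFOne.IsQuotOn X (Coh.structureModule X) Z ((Coh.push ι).obj (Coh.structureModule S)) (oqi ι) := by
  haveI : IsLocallyNoetherian (S) := LocallyOfFiniteType.isLocallyNoetherian ι
  haveI hu0 : Epi ((Scheme.Modules.pullbackPushforwardAdjunction ι).unit.app (Coh.structureModule X)) := by
    refine Exactness.epi_of_stalk _ fun x => (ModuleCat.epi_iff_surjective _).2 fun v => ?_
    obtain ⟨U, hxU, s, rfl⟩ := TopCat.Presheaf.exists_germ_eq
      ((Scheme.Modules.pushforward ι).obj ((Scheme.Modules.pullback ι).obj (Coh.structureModule X))).presheaf v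
    obtain ⟨_, ⟨W, hW, rfl⟩, hxW, hWU⟩ := X.isBasis_affineOpens.exists_subset_of_mem_open hxU U.2
    obtain ⟨t, ht⟩ := (QCoh.unit_app_closed ι QCoh.isQCoh_structureModule hW).1
      (((Scheme.Modules.pushforward ι).obj ((Scheme.Modules.pullback ι).obj (Coh.structureModule X))).presheaf.map
        (homOfLE (show W ≤ U from hWU)).op s)
    refine ⟨(Coh.structureModule X).presheaf.germ W x hxW t, ?_⟩
    refine (DerSch.stalkFunctor_map_germ x _ W hxW t).trans ?_
    rw [ht]
    exact TopCat.Presheaf.germ_res_apply _ _ _ _ s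
  haveI hepi : Epi (oqi ι) := @epi_comp _ _ _ _ _ _ hu0 _ inferInstance
  haveI : IsFinite ι := inferInstance
  have hco : Coh.IsCoh ((Coh.push ι).obj (Coh.structureModule (S))) :=
    QCoh.isCoh_pushforward_finite ι QCoh.isCoh_structureModule'
  have hmem : ∀ η ∈ genericPoints X, η ∈ Z → ∃ z, ι z = η := fun η _ hη => by
    have : η ∈ Set.range ι := by rw [hr]; exact hη
    exact this
  have htf : TorSh.IsTorsionFree ((Coh.push ι).obj (Coh.structureModule (S))) := by
    refine torsionFree_of_generic fun U s hs => ?_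
    refine TFCurvLib.eq_zero_of_germ_isField (F := Coh.structureModule (S))
      QCoh.isQCoh_structureModule isTF1_structureModule.2.1 (U := ι ⁻¹ᵁ U) s fun z hz hf => ?_
    obtain ⟨η, hη, hηz, hηZ⟩ := hu (ι z) (by
      have := Set.mem_range_self (f := ι) z
      rwa [hr] at this)
    obtain ⟨y, rfl⟩ := hmem η hη hηZ
    have hyz : y = z := eq_of_specializes_generic (mem_genericPoints_of_isField hf)
      (ι.isClosedEmbedding.isInducing.specializes_iff.1 hηz)
    subst hyz
    haveI : IsIso (TopCat.Presheaf.stalkPushforward Ab.{u} ι.base (Coh.structureModule (S)).presheaf y) :=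
      KFlatLib.isIso_stalkPushforward_closed ι _ y
    have h1 := hs (ι y) hz hη
    have h2 := congrArg (fun v => TopCat.Presheaf.stalkPushforward Ab.{u} ι.base
      (Coh.structureModule (S)).presheaf y v) h1
    rw [map_zero] at h2
    refine Eq.trans ?_ h2
    exact (congr($(TopCat.Presheaf.stalkPushforward_germ Ab.{u} ι.base
      (Coh.structureModule (S)).presheaf U y hz) s)).symm
  refine ⟨hepi, hco, htf, subset_antisymm (fun x hx => ?_) ?_⟩
  · by_contra hxZ
    exact hx (AddCommGrpCat.subsingleton_of_isZero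
      (KFlatLib.isZero_stalk_push ι x (by rwa [hr]) _))
  · refine hu.subset (QCoh.isClosed_support_of_isFT hco.1 hco.2) fun η hη hηZ hsub => ?_
    obtain ⟨z, rfl⟩ := hmem η hη hηZ
    have hiso : IsIso (TopCat.Presheaf.stalkPushforward Ab.{u} ι.base (Coh.structureModule (S)).presheaf z) :=
      KFlatLib.isIso_stalkPushforward_closed ι _ z
    have hsurj : Function.Surjective (TopCat.Presheaf.stalkPushforward Ab.{u} ι.base
      (Coh.structureModule (S)).presheaf z) := ((ConcreteCategory.isIso_iff_bijective _).1 hiso).2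
    obtain ⟨e⟩ := AssLib.nonempty_stalkUnitEquiv (X := S) z
    refine not_subsingleton ((S).presheaf.stalk z) ?_
    haveI : Subsingleton ((Coh.structureModule (S)).presheaf.stalk z) :=
      @Function.Surjective.subsingleton _ _ _ hsub hsurj
    exact e.toEquiv.subsingleton

theorem quot_oq [AlgebraicGeometry.IsNoetherian X] [AlgebraicGeometry.IsReduced X] {Z : Set X} (hu : IsUnion Z)
    (hZ : IsClosed Z) :
    TFOne.IsQuotOn X (Coh.structureModule X) Z
      ((Coh.push (VecSt.subschι X Z hZ)).obj (Coh.structureModule (VecSt.subsch X Z hZ))) (oq Z hZ) :=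
  haveI := isReduced_subsch Z hZ
  quot_oqi (VecSt.subschι X Z hZ) (range_subschι Z hZ) hu

variable (k : Type u) [Field k] [X.Over (Spec (CommRingCat.of k))] [IsProper (X ↘ Spec (CommRingCat.of k))]
  [AlgebraicGeometry.IsReduced X]

include k in
/-- Additive functions are additive on torsion-free quotients of rank one sheaves on unions of components. -/
theorem psi_union_meet (hdim : topologicalKrullDim X ≤ 1) (ψ : CurvePsi.Psi X) {M : X.Modules}
    (hM : TFOne.IsTF1 X M) {Y Z U W : Set X} {GY GZ GU GW : X.Modules} {πY : M ⟶ GY} {πZ : M ⟶ GZ} {πU : M ⟶ GU}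
    {πW : M ⟶ GW} (hGY : TFOne.IsQuotOn X M Y GY πY) (hGZ : TFOne.IsQuotOn X M Z GZ πZ)
    (hGU : TFOne.IsQuotOn X M U GU πU) (hGW : TFOne.IsQuotOn X M W GW πW)
    (hYU : Y ⊆ U) (hZU : Z ⊆ U) (hWY : W ⊆ Y) (hWZ : W ⊆ Z)
    (hU : ∀ η ∈ genericPoints X, η ∈ U → η ∈ Y ∨ η ∈ Z)
    (hW : ∀ η ∈ genericPoints X, η ∈ Y → η ∈ Z → η ∈ W) :
    ψ.toFun GU + ψ.toFun GW = ψ.toFun GY + ψ.toFun GZ := by
  haveI := CurveCohLib.isNoetherian_of_proper (k := k) (X := X)
  have hrk := hM.2.2
  obtain ⟨rY, hrY⟩ := exists_factor hrk hGU hGY hYU (𝟙 M)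
  obtain ⟨rZ, hrZ⟩ := exists_factor hrk hGU hGZ hZU (𝟙 M)
  obtain ⟨sY, hsY⟩ := exists_factor hrk hGY hGW hWY (𝟙 M)
  obtain ⟨sZ, hsZ⟩ := exists_factor hrk hGZ hGW hWZ (𝟙 M)
  rw [Category.id_comp] at hrY hrZ hsY hsZ
  have eY : ∀ η v, st rY η (st πU η v) = st πY η v := fun η v => by rw [← st_comp, hrY]
  have eZ : ∀ η v, st rZ η (st πU η v) = st πZ η v := fun η v => by rw [← st_comp, hrZ]
  have fY : ∀ η v, st sY η (st πY η v) = st πW η v := fun η v => by rw [← st_comp, hsY]
  have fZ : ∀ η v, st sZ η (st πZ η v) = st πW η v := fun η v => by rw [← st_comp, hsZ]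
  let a : GU ⟶ GY ⊞ GZ := biprod.lift rY rZ
  let b : GY ⊞ GZ ⟶ GW := biprod.desc sY (-sZ)
  have hab : a ≫ b = 0 := by
    haveI := hGU.1
    rw [← cancel_epi πU, comp_zero, biprod.lift_desc, Preadditive.comp_add, reassoc_of% hrY, Preadditive.comp_neg,
      Preadditive.comp_neg, reassoc_of% hrZ, hsY, hsZ, add_neg_cancel]
  haveI hmono : Mono a := Preadditive.mono_of_kernel_zero <| hom_eq_zero hGU.2.1.1 hGU.2.2.1 _ fun η hη v => by
    have h0 : st a η (st (kernel.ι a) η v) = 0 := by rw [← st_comp, kernel.condition, st_zero]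
    have hY' : st rY η (st (kernel.ι a) η v) = 0 := by rw [← biprod.lift_fst rY rZ, st_comp, h0, map_zero]
    have hZ' : st rZ η (st (kernel.ι a) η v) = 0 := by rw [← biprod.lift_snd rY rZ, st_comp, h0, map_zero]
    generalize st (kernel.ι a) η v = w at hY' hZ' ⊢
    by_cases hηU : η ∈ U
    · haveI := hGU.1
      obtain ⟨m, rfl⟩ := st_surjective πU η w
      rcases hU η hη hηU with h | h
      · rw [(bijective_quot hrk hGY hη h).1 (((eY η m).symm.trans hY').trans (map_zero _).symm), map_zero]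
      · rw [(bijective_quot hrk hGZ hη h).1 (((eZ η m).symm.trans hZ').trans (map_zero _).symm), map_zero]
    · exact stalk_eq_zero hGU hηU w
  let c : cokernel a ⟶ GW := cokernel.desc a b hab
  have hsum : Coh.IsCoh (GY ⊞ GZ) := KZ.isCoh_biprod hGY.2.1 hGZ.2.1
  have hC : Coh.IsCoh (cokernel a) := QCoh.isCoh_cokernel hGU.2.1.1 hsum a
  have h1 := ψ.add a (cokernel.π a) (cokernel.condition a)
    (.mk' (ShortComplex.exact_of_g_is_cokernel _ (cokernelIsCokernel a)) inferInstance inferInstance) hGU.2.1 hsum hC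
  have h3 := ψ.add (biprod.inl : GY ⟶ GY ⊞ GZ) biprod.snd biprod.inl_snd
    ((ShortComplex.Splitting.ofHasBinaryBiproduct GY GZ).shortExact) hGY.2.1 hsum hGZ.2.1
  have h2 : ψ.toFun (cokernel a) = ψ.toFun GW := ψ.eq_of_map hC hGW.2.1 c fun η hncl => by
    have hη : η ∈ genericPoints X := by
      by_contra hn
      exact hncl (isClosed_singleton_of_notMem hdim hn)
    rw [ConcreteCategory.isIso_iff_bijective]
    haveI := hGY.1; haveI := hGZ.1; haveI := hGW.1
    refine ⟨(injective_iff_map_eq_zero _).2 fun v hv => ?_, fun w => ?_⟩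
    · obtain ⟨w, rfl⟩ := st_surjective (cokernel.π a) η v
      have hb : st b η w = 0 := by rw [← cokernel.π_desc a b hab, st_comp]; exact hv
      suffices hu : ∃ x, st a η x = w by
        obtain ⟨x, rfl⟩ := hu
        rw [← st_comp, cokernel.condition, st_zero]
      have hw2 := st_biprod_eq η w
      have hb2 : st sY η (st biprod.fst η w) = st sZ η (st biprod.snd η w) := by
        rw [← st_comp, ← st_comp, ← sub_eq_zero, ← st_sub]
        rwa [show biprod.fst ≫ sY - biprod.snd ≫ sZ = b from by apply biprod.hom_ext' <;> simp [b]]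
      have hgoal : ∀ m, st πY η m = st biprod.fst η w → st πZ η m = st biprod.snd η w →
          st a η (st πU η m) = w := fun m hm hm' => by
        rw [hw2, ← hm, ← hm', ← eY η m, ← eZ η m, ← st_comp rY, ← st_comp rZ, ← st_add, ← biprod.lift_eq]
      obtain ⟨m, hm⟩ := st_surjective πY η (st biprod.fst η w)
      obtain ⟨m', hm'⟩ := st_surjective πZ η (st biprod.snd η w)
      by_cases hY0 : η ∈ Y
      · refine ⟨_, hgoal m hm ?_⟩
        by_cases hZ0 : η ∈ Z
        · rw [← hm, ← hm', fY, fZ] at hb2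
          rw [(bijective_quot hrk hGW hη (hW η hη hY0 hZ0)).1 hb2, hm']
        · exact (stalk_eq_zero hGZ hZ0 _).trans (stalk_eq_zero hGZ hZ0 _).symm
      · exact ⟨_, hgoal m' ((stalk_eq_zero hGY hY0 _).trans (stalk_eq_zero hGY hY0 _).symm) hm'⟩
    · obtain ⟨m, rfl⟩ := st_surjective πW η w
      refine ⟨st (cokernel.π a) η (st biprod.inl η (st πY η m)), ?_⟩
      show st c η _ = _
      rw [← st_comp (cokernel.π a), cokernel.π_desc, ← st_comp biprod.inl, biprod.inl_desc, fY]
  linarith

include k in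
/-- Degrees are additive on unions of components. -/
theorem deg_union_meet (hdim : topologicalKrullDim X ≤ 1) {E : X.Modules} {r : ℕ}
    (hE : FlatMod.IsFinLocFreeOfRank r E) {Y Z U W : Set X} (hY : IsClosed Y) (hZ : IsClosed Z) (hUc : IsClosed U)
    (hWc : IsClosed W) (uY : IsUnion Y) (uZ : IsUnion Z) (uU : IsUnion U) (uW : IsUnion W)
    (hU : ∀ η ∈ genericPoints X, η ∈ U ↔ η ∈ Y ∨ η ∈ Z) (hW : ∀ η ∈ genericPoints X, η ∈ W ↔ η ∈ Y ∧ η ∈ Z) :
    letI : (VecSt.subsch X Y hY).Over (Spec (CommRingCat.of k)) := ⟨VecSt.subschι X Y hY ≫ (X ↘ Spec (CommRingCat.of k))⟩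
    letI : (VecSt.subsch X Z hZ).Over (Spec (CommRingCat.of k)) := ⟨VecSt.subschι X Z hZ ≫ (X ↘ Spec (CommRingCat.of k))⟩
    letI : (VecSt.subsch X U hUc).Over (Spec (CommRingCat.of k)) := ⟨VecSt.subschι X U hUc ≫ (X ↘ Spec (CommRingCat.of k))⟩
    letI : (VecSt.subsch X W hWc).Over (Spec (CommRingCat.of k)) := ⟨VecSt.subschι X W hWc ≫ (X ↘ Spec (CommRingCat.of k))⟩
    Curv2.deg k (VecSt.subsch X U hUc) ((Scheme.Modules.pullback (VecSt.subschι X U hUc)).obj E) r +
      Curv2.deg k (VecSt.subsch X W hWc) ((Scheme.Modules.pullback (VecSt.subschι X W hWc)).obj E) r =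
    Curv2.deg k (VecSt.subsch X Y hY) ((Scheme.Modules.pullback (VecSt.subschι X Y hY)).obj E) r +
      Curv2.deg k (VecSt.subsch X Z hZ) ((Scheme.Modules.pullback (VecSt.subschι X Z hZ)).obj E) r := by
  letI : (VecSt.subsch X Y hY).Over (Spec (CommRingCat.of k)) := ⟨VecSt.subschι X Y hY ≫ (X ↘ Spec (CommRingCat.of k))⟩
  letI : (VecSt.subsch X Z hZ).Over (Spec (CommRingCat.of k)) := ⟨VecSt.subschι X Z hZ ≫ (X ↘ Spec (CommRingCat.of k))⟩
  letI : (VecSt.subsch X U hUc).Over (Spec (CommRingCat.of k)) := ⟨VecSt.subschι X U hUc ≫ (X ↘ Spec (CommRingCat.of k))⟩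
  letI : (VecSt.subsch X W hWc).Over (Spec (CommRingCat.of k)) := ⟨VecSt.subschι X W hWc ≫ (X ↘ Spec (CommRingCat.of k))⟩
  haveI := CurveCohLib.isNoetherian_of_proper (k := k) (X := X)
  rw [← CurveFinMap.eulerPsi_push k (VecSt.subschι X U hUc) rfl hE,
    ← CurveFinMap.eulerPsi_push k (VecSt.subschι X W hWc) rfl hE,
    ← CurveFinMap.eulerPsi_push k (VecSt.subschι X Y hY) rfl hE,
    ← CurveFinMap.eulerPsi_push k (VecSt.subschι X Z hZ) rfl hE]
  exact psi_union_meet k hdim _ isTF1_structureModule (quot_oq uY hY) (quot_oq uZ hZ) (quot_oq uU hUc) (quot_oq uW hWc)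
    (uY.subset hUc fun η hη h => (hU η hη).2 (.inl h)) (uZ.subset hUc fun η hη h => (hU η hη).2 (.inr h))
    (uW.subset hY fun η hη h => ((hW η hη).1 h).1) (uW.subset hZ fun η hη h => ((hW η hη).1 h).2)
    (fun η hη h => (hU η hη).1 h) fun η hη h h' => (hW η hη).2 ⟨h, h'⟩

include k in
/-- The degree on the whole curve. -/
theorem deg_univ (hdim : topologicalKrullDim X ≤ 1) {E : X.Modules} {r : ℕ} (hE : FlatMod.IsFinLocFreeOfRank r E) :
    letI : (VecSt.subsch X Set.univ isClosed_univ).Over (Spec (CommRingCat.of k)) :=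
      ⟨VecSt.subschι X Set.univ isClosed_univ ≫ (X ↘ Spec (CommRingCat.of k))⟩
    Curv2.deg k (VecSt.subsch X Set.univ isClosed_univ)
      ((Scheme.Modules.pullback (VecSt.subschι X Set.univ isClosed_univ)).obj E) r = Curv2.deg k X E r := by
  letI : (VecSt.subsch X Set.univ isClosed_univ).Over (Spec (CommRingCat.of k)) :=
      ⟨VecSt.subschι X Set.univ isClosed_univ ≫ (X ↘ Spec (CommRingCat.of k))⟩
  haveI := CurveCohLib.isNoetherian_of_proper (k := k) (X := X)
  rw [← CurveFinMap.eulerPsi_push k (VecSt.subschι X Set.univ isClosed_univ) rfl hE,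
    ← CurveFinMap.eulerPsi_structure k hE]
  obtain ⟨e, -⟩ := quot_iso (isTF1_structureModule (X := X)).2.2 (quot_oq isUnion_univ isClosed_univ)
    (quot_id isTF1_structureModule)
  exact (CurvePsi.eulerPsi k hE).congr e

end Groth.Agent.TFQuot

end
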