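import Groth.Agent.TFQuot.TFStalk
import Groth.Agent.TFQuot.Scalars
import Groth.Agent.GeomField.Reduced
import Groth.Agent.GeomField.Irreducible

/-!
# Curves with geometrically integral components over a larger field
-/

set_option autoImplicit false
set_option linter.style.haveILetI false
set_option linter.unusedSectionVars false
set_option backward.isDefEq.respectTransparency false
set_option backward.isDefEq.respectTransparency.types false
set_option maxHeartbeats 1000000

universe u

open CategoryTheory CategoryTheory.Limits AlgebraicGeometry TopologicalSpace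
open scoped TensorProduct

noncomputable section

namespace Groth.Agent.TFQuot

open Groth.Agent

attribute [local instance] Curv2.resAlgebra Curv2.stalkAlgebra

variable {k : Type u} [Field k] {X : Scheme.{u}} [X.Over (Spec (CommRingCat.of k))]

/-- A reduced scheme with geometrically integral components is geometrically reduced. -/
theorem geometricallyReduced_of_components [AlgebraicGeometry.IsReduced X]
    (hgi : ∀ (C : Set X) (hC : C ∈ irreducibleComponents (X : Type u)), GeometricallyIntegral
      (VecSt.subschι X C (isClosed_of_mem_irreducibleComponents C hC) ≫ (X ↘ Spec (CommRingCat.of k)))) :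
    GeometricallyReduced (X ↘ Spec (CommRingCat.of k)) := by
  refine (GeomField.geometricallyReduced_iff (k := k) (X := X)).2 fun x => ?_
  refine GeomField.isGeomReducedAt_of_generic x fun η _ hmax => ?_
  have hη : η ∈ genericPoints X := GeomField.genericPoint_of_maximal hmax
  obtain ⟨C, hCη⟩ : ∃ C : Set X, C = closure {η} := ⟨_, rfl⟩
  have hC : C ∈ irreducibleComponents X := hCη.symm ▸ hη
  have hcl := isClosed_of_mem_irreducibleComponents C hC
  haveI hgiC := hgi C hC
  obtain ⟨y, rfl⟩ : η ∈ Set.range (VecSt.subschι X C hcl) := by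
    rw [range_subschι, hCη]
    exact subset_closure rfl
  let ι := VecSt.subschι X C hcl
  letI : (VecSt.subsch X C hcl).Over (Spec (CommRingCat.of k)) := ⟨ι ≫ (X ↘ Spec (CommRingCat.of k))⟩
  haveI : GeometricallyIntegral (VecSt.subsch X C hcl ↘ Spec (CommRingCat.of k)) := hgiC
  haveI : GeometricallyReduced (VecSt.subsch X C hcl ↘ Spec (CommRingCat.of k)) := inferInstance
  let σ : X.presheaf.stalk (ι y) →ₐ[k] (VecSt.subsch X C hcl).presheaf.stalk y :=
    { toRingHom := (ι.stalkMap _).hom
      commutes' := fun c => by
        show ι.stalkMap _ (X.presheaf.germ ⊤ (ι _) trivial (Coh.toGlobal (X ↘ Spec (CommRingCat.of k)) c)) = _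
        rw [Scheme.Hom.germ_stalkMap_apply]
        exact congrArg ((VecSt.subsch X C hcl).presheaf.germ ⊤ _ trivial)
          (KLin.toGlobal_comp ι (X ↘ Spec (CommRingCat.of k)) c).symm }
  rw [GeomField.isGeomReducedAt_iff, GeomField.gr_iff]
  haveI : Algebra.IsGeometricallyReduced k ((VecSt.subsch X C hcl).presheaf.stalk y) :=
    (GeomField.isGeomReducedAt_iff _).1 ((GeomField.geometricallyReduced_iff (k := k)).1 inferInstance _)
  haveI := (GeomField.gr_iff (k := k) ((VecSt.subsch X C hcl).presheaf.stalk y)).1 inferInstance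
  letI := (isField_stalk_generic hη).toField
  exact isReduced_of_injective (Algebra.TensorProduct.map σ (AlgHom.id k (AlgebraicClosure k)))
    (TensorProduct.map_injective_of_flat_flat σ.toLinearMap LinearMap.id σ.toRingHom.injective
      Function.injective_id)

variable {Ω : Type u} [Field Ω] {φ : Spec (CommRingCat.of Ω) ⟶ Spec (CommRingCat.of k)} {Y : Scheme.{u}}
  {qY : Y ⟶ Spec (CommRingCat.of Ω)} {g : Y ⟶ X}

/-- Projections from field extensions are flat. -/
theorem flat_square (hsq : IsPullback g qY (X ↘ Spec (CommRingCat.of k)) φ) : Flat g := by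
  obtain ⟨ψ, rfl⟩ := Spec.map_surjective φ
  refine MorphismProperty.of_isPullback hsq.flip ?_
  rw [HasRingHomProperty.Spec_iff (P := @Flat)]
  algebraize [ψ.hom]
  show Module.Flat k Ω
  infer_instance

theorem surjective_square (hsq : IsPullback g qY (X ↘ Spec (CommRingCat.of k)) φ) : Function.Surjective g := by
  haveI : Surjective φ := ⟨fun a => ⟨IsLocalRing.closedPoint Ω, Subsingleton.elim _ _⟩⟩
  exact (MorphismProperty.of_isPullback (P := @Surjective) hsq.flip inferInstance).surj

/-- Base changes of curves with geometrically integral components are reduced. -/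
theorem isReduced_square [GeometricallyReduced (X ↘ Spec (CommRingCat.of k))]
    (hsq : IsPullback g qY (X ↘ Spec (CommRingCat.of k)) φ) : AlgebraicGeometry.IsReduced Y :=
  GeometricallyReduced.geometrically_isReduced φ g qY hsq

/-- The preimage of a geometrically integral component is irreducible. -/
theorem isIrreducible_preimage (hsq : IsPullback g qY (X ↘ Spec (CommRingCat.of k)) φ) {C : Set X}
    (hC : IsClosed C) [GeometricallyIntegral (VecSt.subschι X C hC ≫ (X ↘ Spec (CommRingCat.of k)))] :
    IsIrreducible (g ⁻¹' C) := by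
  let ι := VecSt.subschι X C hC
  have hp : IsPullback (pullback.fst ι g) (pullback.snd ι g ≫ qY) (ι ≫ (X ↘ Spec (CommRingCat.of k))) φ :=
    (IsPullback.of_hasPullback ι g).paste_vert hsq
  haveI : IsIntegral (pullback ι g) := GeometricallyIntegral.geometrically_isIntegral φ _ _ hp
  haveI : IrreducibleSpace ↥(pullback ι g) := inferInstance
  have h : Set.range (pullback.snd ι g) = g ⁻¹' C := by
    rw [Scheme.Pullback.range_snd, range_subschι]
  rw [← h, ← Set.image_univ]
  exact (IrreducibleSpace.isIrreducible_univ _).image _ (pullback.snd ι g).continuous.continuousOn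

theorem isUnion_preimage (hsq : IsPullback g qY (X ↘ Spec (CommRingCat.of k)) φ) {Z : Set X}
    (hZ : IsUnion Z) : IsUnion (g ⁻¹' Z) := by
  haveI := flat_square hsq
  intro z hz
  obtain ⟨η, h1, h2, h3⟩ := hZ (g z) hz
  obtain ⟨w, hw, rfl⟩ := CycLib.exists_generization g h2
  obtain ⟨θ, t1, t2, -⟩ := isUnion_univ (X := Y) w trivial
  refine ⟨θ, t1, t2.trans hw, ?_⟩
  show g θ ∈ Z
  rwa [eq_of_specializes_generic h1 (t2.map g.continuous)]

/-- Unions of components upstairs come from downstairs. -/
theorem exists_preimage_union [AlgebraicGeometry.IsNoetherian X]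
    (hgi : ∀ (C : Set X) (hC : C ∈ irreducibleComponents (X : Type u)), GeometricallyIntegral
      (VecSt.subschι X C (isClosed_of_mem_irreducibleComponents C hC) ≫ (X ↘ Spec (CommRingCat.of k))))
    (hsq : IsPullback g qY (X ↘ Spec (CommRingCat.of k)) φ) {Z : Set Y} (hZ : IsClosed Z) (uZ : IsUnion Z) :
    ∃ Z₀ : Set X, IsClosed Z₀ ∧ IsUnion Z₀ ∧ g ⁻¹' Z₀ = Z := by
  haveI := flat_square hsq
  refine ⟨⋃₀ {C | C ∈ irreducibleComponents (X : Type u) ∧ g ⁻¹' C ⊆ Z}, ?_,
    isUnion_sUnion fun C hC => hC.1, subset_antisymm ?_ fun z hz => ?_⟩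
  · rw [Set.sUnion_eq_biUnion]
    exact Set.Finite.isClosed_biUnion
      (TopologicalSpace.NoetherianSpace.finite_irreducibleComponents.subset fun C hC => hC.1)
      fun C hC => isClosed_of_mem_irreducibleComponents C hC.1
  · rintro z ⟨C, ⟨-, hC⟩, hzC⟩
    exact hC hzC
  · obtain ⟨θ, t1, t2, t3⟩ := uZ z hz
    have hη := map_generic_of_flat g t1
    refine Set.mem_sUnion.2 ⟨closure {g θ}, ⟨hη, ?_⟩, (t2.map g.continuous).mem_closure⟩
    haveI := hgi _ hη
    have h1 : closure ({θ} : Set Y) ⊆ g ⁻¹' closure {g θ} :=
      closure_minimal (Set.singleton_subset_iff.2 (subset_closure (Set.mem_singleton _)))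
        (isClosed_closure.preimage g.continuous)
    exact (t1.2 (isIrreducible_preimage hsq isClosed_closure) h1).trans
      (closure_minimal (Set.singleton_subset_iff.2 t3) hZ)

end Groth.Agent.TFQuot

end
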