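import Groth.Agent.TFQuot.Idem
import Groth.Agent.TFQuot.Bq
import Groth.Agent.TFQuot.TFStalk
import Groth.Agent.TFQuot.Geom
import Groth.Agent.TFQuot.Scalars
import Groth.Agent.FFun.Basic
import Groth.Agent.KZ.OpenExt

/-!
# Simplicity and decompositions
-/

set_option autoImplicit false
set_option linter.style.haveILetI false
set_option linter.unusedSectionVars false
set_option backward.isDefEq.respectTransparency false
set_option backward.isDefEq.respectTransparency.types false
set_option maxHeartbeats 1000000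

universe u

open CategoryTheory CategoryTheory.Limits AlgebraicGeometry TopologicalSpace

noncomputable section

namespace Groth.Agent.TFQuot

open Groth.Agent

attribute [local instance] Curv2.stalkAlgebra

theorem isSimple_iso {X : Scheme.{u}} {k : Type u} [Field k] (q : X ⟶ Spec (CommRingCat.of k)) {M M' : X.Modules}
    (e : M ≅ M') (h : TFOne.IsSimple X k q M) : TFOne.IsSimple X k q M' := by
  letI : X.Over (Spec (CommRingCat.of k)) := ⟨q⟩
  refine ⟨fun hz => h.1 (hz.of_iso e), fun φ => ?_⟩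
  obtain ⟨c, hc⟩ := h.2 (e.hom ≫ φ ≫ e.inv)
  refine ⟨c, ?_⟩
  rw [← cancel_epi e.hom, ← cancel_mono e.inv, Category.assoc, hc, ← FFun.smulMod_naturality, Category.assoc,
    e.hom_inv_id, Category.comp_id]

/-- Over an algebraically closed field a sheaf with no decomposition is simple. -/
theorem isSimple_of_noDec {k : Type u} [Field k] [IsAlgClosed k] {X : Scheme.{u}}
    [X.Over (Spec (CommRingCat.of k))] [IsProper (X ↘ Spec (CommRingCat.of k))] [AlgebraicGeometry.IsReduced X]
    [Nonempty X] {I : X.Modules} (hI : TFOne.IsTF1 X I)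
    (hdec : ∀ Y : Set X, IsClosed Y → IsUnion Y → Y.Nonempty → Y ≠ Set.univ → ¬ Dec I Y) :
    TFOne.IsSimple X k (X ↘ Spec (CommRingCat.of k)) I := by
  haveI : IsLocallyNoetherian X := LocallyOfFiniteType.isLocallyNoetherian (X ↘ Spec (CommRingCat.of k))
  haveI : CompactSpace X := QuasiCompact.compactSpace_of_compactSpace (X ↘ Spec (CommRingCat.of k))
  haveI : AlgebraicGeometry.IsNoetherian X := {}
  obtain ⟨hco, htf, hrk⟩ := hI
  obtain ⟨η₀, hη₀, -, -⟩ := isUnion_univ (X := X) (Classical.arbitrary X) trivial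
  refine ⟨fun hz => mem_support_of_rkOne hrk hη₀
    (TopCat.Presheaf.stalkFunctor AddCommGrpCat η₀ |>.map_isZero ((Scheme.Modules.toPresheaf _).map_isZero hz)
      |> AddCommGrpCat.subsingleton_of_isZero), fun φ => ?_⟩
  haveI : Module.Finite k (I ⟶ I) := ASB.finite_hom X hco hco
  have hfin : Module.Finite k (CategoryTheory.End I) := this
  have hc : ∀ η, ∀ hη : η ∈ genericPoints X, ∃ c : k,
      algebraMap k (X.presheaf.stalk η) c = ev (k := k) (Classical.choice (hrk η hη)) φ := fun η hη => by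
    haveI := (isField_stalk_generic hη).isDomain
    have ha : IsIntegral k (ev (k := k) (Classical.choice (hrk η hη)) φ) :=
      ((haveI := hfin; (Algebra.IsIntegral.of_finite k (CategoryTheory.End I)).1 φ).map (ev (k := k) _))
    exact minpoly.mem_range_of_degree_eq_one k _ (IsAlgClosed.degree_eq_one_of_irreducible k (minpoly.irreducible ha))
  choose! c hc using hc
  by_cases hall : ∀ η ∈ genericPoints X, c η = c η₀
  · refine ⟨c η₀, sub_eq_zero.1 (hom_eq_zero hco.1 htf _ fun η hη v => ?_)⟩
    rw [st_sub, st_eq_ev_smul (k := k) (Classical.choice (hrk η hη)), ← hc η hη, hall η hη, st_smulMod, sub_eq_zero]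
    rfl
  push Not at hall
  obtain ⟨η₁, hη₁, hne⟩ := hall
  exfalso
  classical
  have hfg := finite_genericPoints (X := X)
  have key : ∀ s : Finset k, c η₀ ∉ s → ∃ ψ : CategoryTheory.End I, ∀ η, ∀ hη : η ∈ genericPoints X,
      (c η = c η₀ → ev (k := k) (Classical.choice (hrk η hη)) ψ = 1) ∧
        (c η ∈ s → ev (k := k) (Classical.choice (hrk η hη)) ψ = 0) := by
    intro s
    induction s using Finset.induction_on with
    | empty => exact fun _ => ⟨1, fun η hη => ⟨fun _ => map_one _, fun h => absurd h (Finset.notMem_empty _)⟩⟩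
    | @insert b s _ ih =>
      intro hb
      rw [Finset.mem_insert, not_or] at hb
      obtain ⟨ψ, hψ⟩ := ih hb.2
      refine ⟨ψ * ((c η₀ - b)⁻¹ • ((show CategoryTheory.End I from φ) - algebraMap k (CategoryTheory.End I) b)), fun η hη => ?_⟩
      have hev : ev (k := k) (Classical.choice (hrk η hη))
          (ψ * ((c η₀ - b)⁻¹ • ((show CategoryTheory.End I from φ) - algebraMap k (CategoryTheory.End I) b))) =
          ev (k := k) (Classical.choice (hrk η hη)) ψ *
            algebraMap k (X.presheaf.stalk η) ((c η₀ - b)⁻¹ * (c η - b)) := by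
        generalize hE : ev (k := k) (Classical.choice (hrk η hη)) = E
        have hφ : E (show CategoryTheory.End I from φ) = algebraMap k (X.presheaf.stalk η) (c η) := by
          rw [← hE]; exact (hc η hη).symm
        generalize (show CategoryTheory.End I from φ) = φ' at hφ ⊢
        erw [map_mul, map_smul, map_sub, AlgHom.commutes]
        rw [hφ, Algebra.smul_def, map_mul (algebraMap k (X.presheaf.stalk η)), map_sub]
      rw [hev]
      refine ⟨fun h => ?_, fun h => ?_⟩
      · rw [(hψ η hη).1 h, one_mul, h, inv_mul_cancel₀ (sub_ne_zero.2 hb.1), map_one]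
      · rcases Finset.mem_insert.1 h with h | h
        · rw [h, sub_self, mul_zero, map_zero, mul_zero]
        · rw [(hψ η hη).2 h, zero_mul]
  obtain ⟨ψ, hψ⟩ := key ((hfg.toFinset.image c).erase (c η₀)) (Finset.notMem_erase _ _)
  have hψ0 : ∀ η, ∀ hη : η ∈ genericPoints X, c η ≠ c η₀ → ev (k := k) (Classical.choice (hrk η hη)) ψ = 0 :=
    fun η hη h => (hψ η hη).2 (Finset.mem_erase.2 ⟨h, Finset.mem_image.2 ⟨η, hfg.mem_toFinset.2 hη, rfl⟩⟩)
  let Z : Set X := ⋃₀ {C | C ∈ irreducibleComponents (X : Type u) ∧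
    ∃ η ∈ genericPoints X, c η = c η₀ ∧ η ∈ C ∧ C ⊆ closure {η}}
  have hmem : ∀ η ∈ genericPoints X, η ∈ Z ↔ c η = c η₀ := fun η hη => by
    rw [mem_sUnion_components_iff (P := fun C => ∃ θ ∈ genericPoints X, c θ = c η₀ ∧ θ ∈ C ∧ C ⊆ closure {θ}) hη]
    refine ⟨fun ⟨θ, hθ, hcθ, h1, _⟩ => ?_, fun h => ⟨η, hη, h, subset_closure rfl, le_rfl⟩⟩
    rwa [← eq_of_specializes_generic hθ (specializes_iff_mem_closure.2 h1)] at hcθ
  refine hdec Z isClosed_comps isUnion_comps ⟨η₀, (hmem η₀ hη₀).2 rfl⟩
    (fun h => hne ((hmem η₁ hη₁).1 (h ▸ trivial))) ⟨(ψ : I ⟶ I), fun η hη v => ?_⟩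
  constructor
  · intro h
    rw [st_eq_ev_smul (k := k) (Classical.choice (hrk η hη)), (hψ η hη).1 ((hmem η hη).1 h), one_smul]
  · intro h
    rw [st_eq_ev_smul (k := k) (Classical.choice (hrk η hη)), hψ0 η hη fun h' => h ((hmem η hη).2 h'), zero_smul]

/-- Invertibility descends along faithfully flat morphisms. -/
theorem isIso_of_pullback {X Y : Scheme.{u}} [IsLocallyNoetherian X] (g : Y ⟶ X) [Flat g] [IsLocallyNoetherian Y]
    (hg : Function.Surjective g) {M N : X.Modules} (hM : Coh.IsCoh M) (hN : Coh.IsCoh N) (u : M ⟶ N)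
    [IsIso ((Scheme.Modules.pullback g).map u)] : IsIso u := by
  let Q := Scheme.Modules.pullback g
  haveI : Q.Additive := Adjunction.left_adjoint_additive (Scheme.Modules.pullbackPushforwardAdjunction g)
  haveI : Q.PreservesHomology := KFlatLib.preservesHomology_pullback g
  haveI := Functor.preservesFiniteLimits_of_preservesHomology Q
  have h0 : ∀ {A : X.Modules}, Coh.IsCoh A → IsZero (Q.obj A) → IsZero A := fun {A} hA hz =>
    CurveCohLib.isZero_of_subsingleton_stalks fun x => by
      obtain ⟨y, rfl⟩ := hg x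
      by_contra hy
      have h1 : y ∈ CohB1.support (Q.obj A) := by
        rw [QCoh.support_pullback g hA.1 hA.2]; exact hy
      exact h1 (AddCommGrpCat.subsingleton_of_isZero
        ((TopCat.Presheaf.stalkFunctor AddCommGrpCat y).map_isZero ((Scheme.Modules.toPresheaf _).map_isZero hz)))
  haveI : Mono u := Preadditive.mono_of_isZero_kernel _ (h0 (QCoh.isCoh_kernel hM hN u)
    ((isZero_kernel_of_mono (Q.map u)).of_iso (PreservesKernel.iso Q u)))
  haveI : Epi u := Preadditive.epi_of_isZero_cokernel _ (h0 (QCoh.isCoh_cokernel hM.1 hN u) (by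
    have h1 : Q.map u ≫ Q.map (cokernel.π u) = 0 := by rw [← Q.map_comp, cokernel.condition, Q.map_zero]
    have h2 : Q.map (cokernel.π u) = 0 := by rw [← cancel_epi (Q.map u), h1, comp_zero]
    rw [IsZero.iff_id_eq_zero, ← cancel_epi (Q.map (cokernel.π u)), h2, zero_comp, zero_comp]))
  exact isIso_of_mono_of_epi _

/-- Decompositions descend along field extensions. -/
theorem dec_of_pullback {k : Type u} [Field k] {X : Scheme.{u}} [X.Over (Spec (CommRingCat.of k))]
    [AlgebraicGeometry.IsNoetherian X] [AlgebraicGeometry.IsReduced X] {Ω : Type u} [Field Ω]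
    {φ : Spec (CommRingCat.of Ω) ⟶ Spec (CommRingCat.of k)} {Y : Scheme.{u}}
    {qY : Y ⟶ Spec (CommRingCat.of Ω)} {g : Y ⟶ X} (hsq : IsPullback g qY (X ↘ Spec (CommRingCat.of k)) φ)
    [AlgebraicGeometry.IsNoetherian Y] [AlgebraicGeometry.IsReduced Y] {M : X.Modules} (hM : TFOne.IsTF1 X M)
    {Z₀ : Set X} (hZ₀ : IsClosed Z₀) (uZ₀ : IsUnion Z₀)
    (hd : Dec ((Scheme.Modules.pullback g).obj M) (g ⁻¹' Z₀)) : Dec M Z₀ := by
  haveI := flat_square hsq
  let W : Set X := ⋃₀ {C | C ∈ irreducibleComponents (X : Type u) ∧ ¬ C ⊆ Z₀}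
  have hW : ∀ η ∈ genericPoints X, η ∈ W ↔ η ∉ Z₀ := fun η hη => by
    rw [mem_sUnion_components_iff (P := fun C => ¬ C ⊆ Z₀) hη, generic_closure_subset_iff hZ₀]
  obtain ⟨G, π, hG⟩ := exists_quotOn hM uZ₀ hZ₀
  obtain ⟨G', π', hG'⟩ := exists_quotOn hM (isUnion_comps (X := X)) (isClosed_comps (X := X)) (Z := W)
  let Q := Scheme.Modules.pullback g
  haveI : Q.Additive := Adjunction.left_adjoint_additive (Scheme.Modules.pullbackPushforwardAdjunction g)
  haveI := preservesBinaryBiproducts_of_preservesBiproducts Q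
  haveI := isIso_lift_of_dec (isTF1_pullback_flat g hM) hd (isQuotOn_pullback g hG) (isQuotOn_pullback g hG')
    fun θ hθ => hW (g θ) (map_generic_of_flat g hθ)
  haveI : IsIso (Q.map (biprod.lift π π')) := by
    have h : Q.map (biprod.lift π π') ≫ (Q.mapBiprod G G').hom = biprod.lift (Q.map π) (Q.map π') := by
      apply biprod.hom_ext <;> simp [← Q.map_comp]
    exact IsIso.of_isIso_fac_right h
  haveI : IsIso (biprod.lift π π') :=
    isIso_of_pullback g (surjective_square hsq) hM.1 (KZ.isCoh_biprod hG.2.1 hG'.2.1) _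
  exact dec_of_isIso_lift hM.2.2 hG hG' hW

end Groth.Agent.TFQuot

end
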