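import Groth.Agent.TFQuot.Langton
import Groth.Agent.TFQuot.SimpleField
import Groth.Agent.CurveBC.Coh
import Groth.Agent.RegLoc6.Basic
import Groth.Agent.SmoothReg.Scheme

/-!
# From the special fibre to all geometric fibres
-/

set_option autoImplicit false
set_option linter.style.haveILetI false
set_option linter.unusedSectionVars false
set_option backward.isDefEq.respectTransparency false
set_option backward.isDefEq.respectTransparency.types false
set_option maxHeartbeats 1000000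

universe u

open CategoryTheory CategoryTheory.Limits AlgebraicGeometry TopologicalSpace

noncomputable section

namespace Groth.Agent.TFQuot

open Groth.Agent

/-- Restriction along a composite. -/
def pullIso {X W Y : Scheme.{u}} {g' : Y ⟶ W} {i : W ⟶ X} {g : Y ⟶ X} (h : g' ≫ i = g) (M : X.Modules) :
    (Scheme.Modules.pullback g).obj M ≅ (Scheme.Modules.pullback g').obj ((Scheme.Modules.pullback i).obj M) :=
  (Scheme.Modules.pullbackCongr h.symm).app M ≪≫ (Scheme.Modules.pullbackComp g' i).symm.app M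

/-- Twisted Euler characteristics of quotients are stable under field extensions. -/
theorem bq_square {k : Type u} [Field k] {X : Scheme.{u}} [X.Over (Spec (CommRingCat.of k))]
    [IsProper (X ↘ Spec (CommRingCat.of k))] [AlgebraicGeometry.IsReduced X] {K : Type u} [Field K] [Algebra k K]
    {X' : Scheme.{u}} [X'.Over (Spec (CommRingCat.of K))] [IsProper (X' ↘ Spec (CommRingCat.of K))]
    [AlgebraicGeometry.IsReduced X'] {g : X' ⟶ X}
    (hpb : IsPullback g (X' ↘ Spec (CommRingCat.of K)) (X ↘ Spec (CommRingCat.of k))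
      (Spec.map (CommRingCat.ofHom (algebraMap k K))))
    {E M : X.Modules} {r : ℕ} (hE : FlatMod.IsFinLocFreeOfRank r E) (hM : TFOne.IsTF1 X M) {Z : Set X}
    (hZ : IsClosed Z) (uZ : IsUnion Z) :
    bq K ((Scheme.Modules.pullback g).obj E) ((Scheme.Modules.pullback g).obj M) (g ⁻¹' Z) = bq k E M Z := by
  haveI := CurveCohLib.isNoetherian_of_proper (k := k) (X := X)
  haveI := CurveCohLib.isNoetherian_of_proper (k := K) (X := X')
  haveI := flat_square hpb
  obtain ⟨G, π, h⟩ := exists_quotOn hM uZ hZ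
  rw [bq_eq k hM h, bq_eq K (isTF1_pullback_flat g hM) (isQuotOn_pullback g h)]
  obtain ⟨e⟩ := nonempty_pullback_tE g E G
  rw [← CurveBC.euler_eq k K g hpb _ (isCoh_tE hE h.2.1).1]
  exact Euler.euler_congr K e.symm

variable {R : Type u} [CommRing R] [IsDomain R] [IsDiscreteValuationRing R] {X : Scheme.{u}}
  {f : X ⟶ Spec (CommRingCat.of R)} [Flat f] [IsProper f] {Xs : Scheme.{u}}
  [Xs.Over (Spec (CommRingCat.of (IsLocalRing.ResidueField R)))] {i : Xs ⟶ X} {Xg : Scheme.{u}}
  [Xg.Over (Spec (CommRingCat.of (FractionRing R)))] {j : Xg ⟶ X} [AlgebraicGeometry.IsReduced Xs]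
  (hsq : IsPullback i (Xs ↘ Spec (CommRingCat.of (IsLocalRing.ResidueField R))) f
    (Spec.map (CommRingCat.ofHom (IsLocalRing.residue R))))
  (hpure : ∀ C ∈ irreducibleComponents (Xs : Type u), topologicalKrullDim C = 1)
  (hgi : ∀ (C : Set Xs) (hC : C ∈ irreducibleComponents (Xs : Type u)), GeometricallyIntegral
    (VecSt.subschι Xs C (isClosed_of_mem_irreducibleComponents C hC) ≫
      (Xs ↘ Spec (CommRingCat.of (IsLocalRing.ResidueField R)))))
  (hgen : IsPullback j (Xg ↘ Spec (CommRingCat.of (FractionRing R))) f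
    (Spec.map (CommRingCat.ofHom (algebraMap R (FractionRing R)))))
  {I₀ E : X.Modules} {r : ℕ} (hr : 0 < r) (hE : FlatMod.IsFinLocFreeOfRank r E) {d : ℤ}
  (hEd : Curv2.deg (IsLocalRing.ResidueField R) Xs ((Scheme.Modules.pullback i).obj E) r = -(r : ℤ) * d)
  (hI : TFOne.IsRelTF1 f I₀)

include hsq hgen in
/-- A field-valued point of the base lies over one of the two points. -/
theorem geom_cases {Ω : Type u} [Field Ω] {t : Spec (CommRingCat.of Ω) ⟶ Spec (CommRingCat.of R)} {Y : Scheme.{u}}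
    {g : Y ⟶ X} {qY : Y ⟶ Spec (CommRingCat.of Ω)} (h : IsPullback g qY f t) :
    (∃ (_ : Algebra (IsLocalRing.ResidueField R) Ω) (g' : Y ⟶ Xs),
      IsPullback g' qY (Xs ↘ Spec (CommRingCat.of (IsLocalRing.ResidueField R)))
        (Spec.map (CommRingCat.ofHom (algebraMap (IsLocalRing.ResidueField R) Ω))) ∧ g' ≫ i = g ∧
        t = Spec.map (CommRingCat.ofHom (algebraMap (IsLocalRing.ResidueField R) Ω)) ≫
          Spec.map (CommRingCat.ofHom (IsLocalRing.residue R))) ∨
    ∃ (φ : Spec (CommRingCat.of Ω) ⟶ Spec (CommRingCat.of (FractionRing R))) (g' : Y ⟶ Xg),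
      IsPullback g' qY (Xg ↘ Spec (CommRingCat.of (FractionRing R))) φ ∧ g' ≫ j = g ∧
        t = φ ≫ Spec.map (CommRingCat.ofHom (algebraMap R (FractionRing R))) := by
  obtain ⟨a, ha⟩ := Spec.map_surjective t
  subst ha
  by_cases hk : RingHom.ker a.hom = ⊥
  · refine Or.inr ?_
    have hinj : Function.Injective a.hom := (RingHom.injective_iff_ker_eq_bot _).2 hk
    obtain ⟨b, hb⟩ : ∃ b : FractionRing R →+* Ω, b.comp (algebraMap R (FractionRing R)) = a.hom :=
      ⟨IsFractionRing.lift hinj, RingHom.ext fun x => IsFractionRing.lift_algebraMap hinj x⟩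
    have ht : Spec.map a = Spec.map (CommRingCat.ofHom b) ≫
        Spec.map (CommRingCat.ofHom (algebraMap R (FractionRing R))) := by
      rw [← Spec.map_comp, ← CommRingCat.ofHom_comp, hb]
      rfl
    rw [ht] at h
    refine ⟨Spec.map (CommRingCat.ofHom b), hgen.lift g (qY ≫ Spec.map (CommRingCat.ofHom b))
      (by rw [h.w, Category.assoc]), IsPullback.of_right ?_ (hgen.lift_snd _ _ _) hgen, hgen.lift_fst _ _ _, ht⟩
    rwa [hgen.lift_fst]
  · refine Or.inl ?_
    haveI hp : (RingHom.ker a.hom).IsPrime := RingHom.ker_isPrime _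
    have hm : RingHom.ker a.hom = IsLocalRing.maximalIdeal R :=
      IsLocalRing.eq_maximalIdeal (hp.isMaximal hk)
    obtain ⟨b, hb⟩ : ∃ b : IsLocalRing.ResidueField R →+* Ω, b.comp (IsLocalRing.residue R) = a.hom :=
      ⟨Ideal.Quotient.lift _ a.hom fun x hx => by rw [← RingHom.mem_ker, hm]; exact hx, RingHom.ext fun x => rfl⟩
    letI := b.toAlgebra
    have ht : Spec.map a = Spec.map (CommRingCat.ofHom (algebraMap (IsLocalRing.ResidueField R) Ω)) ≫
        Spec.map (CommRingCat.ofHom (IsLocalRing.residue R)) := by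
      rw [← Spec.map_comp, ← CommRingCat.ofHom_comp, RingHom.algebraMap_toAlgebra, hb]
      rfl
    rw [ht] at h
    refine ⟨b.toAlgebra, hsq.lift g (qY ≫ Spec.map (CommRingCat.ofHom (algebraMap _ Ω)))
      (by rw [h.w, Category.assoc]), IsPullback.of_right ?_ (hsq.lift_snd _ _ _) hsq, hsq.lift_fst _ _ _, ht⟩
    rwa [hsq.lift_fst]

include hsq hgi hI in
theorem good_self : Good f i j I₀ I₀ := by
  haveI : IsLocallyNoetherian X := LocallyOfFiniteType.isLocallyNoetherian f
  haveI hp : IsProper (Xs ↘ Spec (CommRingCat.of (IsLocalRing.ResidueField R))) :=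
    MorphismProperty.of_isPullback hsq inferInstance
  haveI := CurveCohLib.isNoetherian_of_proper (k := IsLocalRing.ResidueField R) (X := Xs)
  haveI : GeometricallyReduced (Xs ↘ Spec (CommRingCat.of (IsLocalRing.ResidueField R))) :=
    geometricallyReduced_of_components hgi
  let Ω := AlgebraicClosure (IsLocalRing.ResidueField R)
  let φ := Spec.map (CommRingCat.ofHom (algebraMap (IsLocalRing.ResidueField R) Ω))
  let g := pullback.fst (Xs ↘ Spec (CommRingCat.of (IsLocalRing.ResidueField R))) φ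
  have hY : IsPullback g (pullback.snd _ φ) (Xs ↘ Spec (CommRingCat.of (IsLocalRing.ResidueField R))) φ :=
    IsPullback.of_hasPullback _ _
  haveI := flat_square hY
  haveI := isReduced_square hY
  have hc := QCoh.isCoh_iff_isFP.2 hI.2.1
  refine ⟨hc, hI.1, isTF1_of_pullback g (surjective_square hY) (ZClosLib.isCoh_pullback i hc) ?_, ⟨Iso.refl _⟩⟩
  exact isTF1_iso (pullIso rfl I₀) (hI.2.2 Ω _ _ (g ≫ i) _ (hY.paste_horiz hsq))

include hsq hgi hgen hI in
theorem relTF1_of_good {I : X.Modules} (h : Good f i j I₀ I) : TFOne.IsRelTF1 f I := by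
  haveI : IsLocallyNoetherian X := LocallyOfFiniteType.isLocallyNoetherian f
  haveI hp : IsProper (Xs ↘ Spec (CommRingCat.of (IsLocalRing.ResidueField R))) :=
    MorphismProperty.of_isPullback hsq inferInstance
  haveI := CurveCohLib.isNoetherian_of_proper (k := IsLocalRing.ResidueField R) (X := Xs)
  refine ⟨h.flat, QCoh.isCoh_iff_isFP.1 h.coh, fun Ω _ _ t Y g qY hY => ?_⟩
  haveI : IsProper qY := MorphismProperty.of_isPullback hY inferInstance
  haveI : IsLocallyNoetherian Y := LocallyOfFiniteType.isLocallyNoetherian qY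
  rcases geom_cases hsq hgen hY with ⟨_, g', hY', hg, -⟩ | ⟨φ, g', -, hg, -⟩
  · haveI := flat_square hY'
    exact isTF1_iso (pullIso hg I).symm (isTF1_pullback_flat g' h.tf)
  · obtain ⟨e⟩ := h.gen
    exact isTF1_iso (pullIso hg I₀ ≪≫ (Scheme.Modules.pullback g').mapIso e.symm ≪≫ (pullIso hg I).symm)
      (hI.2.2 Ω t Y g qY hY)

include hsq hI in
theorem isTF1_gpt {c : Cpl f i} (P : GPt j c) :
    TFOne.IsTF1 P.Y ((Scheme.Modules.pullback P.jY).obj ((Scheme.Modules.pullback j).obj I₀)) := by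
  have h := hI.2.2 P.Ω _ P.Y (P.g ≫ c.p) P.qY P.sqR
  exact isTF1_iso (pullIso P.hjY I₀) h

include hsq hpure hE hEd hgi hI in
theorem bgen_univ {c : Cpl f i} (P : GPt j c) (h₀ : Adm f i j I₀ d I₀) : bgen P E I₀ Set.univ = 0 := by
  letI : P.Y.Over (Spec (CommRingCat.of P.Ω)) := ⟨P.qY⟩
  haveI : IsProper (P.Y ↘ Spec (CommRingCat.of P.Ω)) := P.isProper
  haveI : AlgebraicGeometry.IsReduced P.Y := isReduced_fibre f i hsq hgi P.sqR
  haveI := CurveCohLib.isNoetherian_of_proper (k := P.Ω) (X := P.Y)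
  haveI := c.flat_p
  haveI := c.isProper
  haveI : IsLocallyNoetherian X := LocallyOfFiniteType.isLocallyNoetherian f
  haveI : IsLocallyNoetherian c.X' := LocallyOfFiniteType.isLocallyNoetherian c.f'
  obtain ⟨hp, hn, hdim, hEs⟩ := modif_setup hsq hpure hE
  have hMY := isTF1_gpt hsq hI P
  have hN := ZClosLib.isCoh_pullback c.p h₀.good.coh
  have hNf : FlatMod.IsFlatOver c.f' ((Scheme.Modules.pullback c.p).obj I₀) := fun x' =>
    MorLib.FlatBC.isFlatOverAt_baseChange f c.f' c.p (Spec.map (CommRingCat.ofHom c.φ)) c.sq I₀ x' (h₀.good.flat _)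
  show bq P.Ω _ _ Set.univ = 0
  rw [bq_eq P.Ω hMY (quot_id hMY), euler_tE_congr P.Ω (Iso.refl _) (P.gIso I₀).symm,
    bq_generic_eq_euler c P hsq hE hN hNf, euler_tE_congr _ (Iso.refl _) (c.cIso I₀),
    ← bq_eq _ h₀.good.tf (quot_id h₀.good.tf)]
  exact h₀.bs_univ hsq hpure hE hEd

include hsq hpure hE hEd hgi hI in
theorem bgen_nonneg {c : Cpl f i} (P : GPt j c) (h₀ : Adm f i j I₀ d I₀)
    (hss : TFOne.IsSemistable P.Y P.Ω P.qY ((Scheme.Modules.pullback P.jY).obj ((Scheme.Modules.pullback j).obj I₀))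
      ((Scheme.Modules.pullback P.jY).obj ((Scheme.Modules.pullback j).obj E)) r)
    (Z : Set P.Y) (hZ : IsClosed Z) (uZ : IsUnion Z) : 0 ≤ bgen P E I₀ Z := by
  letI : P.Y.Over (Spec (CommRingCat.of P.Ω)) := ⟨P.qY⟩
  haveI : IsProper (P.Y ↘ Spec (CommRingCat.of P.Ω)) := P.isProper
  haveI : AlgebraicGeometry.IsReduced P.Y := isReduced_fibre f i hsq hgi P.sqR
  have hMY := isTF1_gpt hsq hI P
  have hdim : topologicalKrullDim P.Y ≤ 1 := dim_fibre_le f i hsq hpure P.sqR
  have hEY := KRRReg.isFinLocFreeOfRank_pullback P.jY (KRRReg.isFinLocFreeOfRank_pullback j hE)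
  rcases Z.eq_empty_or_nonempty with rfl | nZ
  · exact (bq_empty P.Ω hdim hEY hMY).ge
  rcases eq_or_ne Z Set.univ with rfl | hne
  · exact (bgen_univ hsq hpure hgi hE hEd hI P h₀).ge
  exact (isSemistable_iff_bq P.Ω hdim hEY hMY).1 hss Z hZ uZ nZ hne

include hsq hpure hgi hgen hI in
/-- Simplicity of all geometric fibres. -/
theorem fibSimple_of_good [Nonempty Xs] {I : X.Modules} (h : Good f i j I₀ I)
    (hdec : ∀ Y : Set Xs, IsClosed Y → IsUnion Y → Y.Nonempty → Y ≠ Set.univ →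
      ¬ Dec ((Scheme.Modules.pullback i).obj I) Y)
    (hIg : TFOne.FibSimple (Xg ↘ Spec (CommRingCat.of (FractionRing R))) ((Scheme.Modules.pullback j).obj I₀)) :
    TFOne.FibSimple f I := by
  intro Ω _ _ t Y g qY hY
  letI : Y.Over (Spec (CommRingCat.of Ω)) := ⟨qY⟩
  haveI : IsProper (Y ↘ Spec (CommRingCat.of Ω)) :=
    MorphismProperty.of_isPullback hY inferInstance
  haveI hp : IsProper (Xs ↘ Spec (CommRingCat.of (IsLocalRing.ResidueField R))) :=
    MorphismProperty.of_isPullback hsq inferInstance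
  haveI := CurveCohLib.isNoetherian_of_proper (k := IsLocalRing.ResidueField R) (X := Xs)
  rcases geom_cases hsq hgen hY with ⟨_, g', hY', hg, -⟩ | ⟨φ, g', hY', hg, -⟩
  · haveI : GeometricallyReduced (Xs ↘ Spec (CommRingCat.of (IsLocalRing.ResidueField R))) :=
      geometricallyReduced_of_components hgi
    haveI := isReduced_square hY'
    haveI := flat_square hY'
    haveI := CurveCohLib.isNoetherian_of_proper (k := Ω) (X := Y)
    haveI : Nonempty Y := (surjective_square hY').nonempty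
    refine isSimple_iso qY (pullIso hg I).symm (isSimple_of_noDec (isTF1_pullback_flat g' h.tf) ?_)
    intro Z hZ uZ nZ hne hd
    obtain ⟨Z₀, hZ₀, uZ₀, rfl⟩ := exists_preimage_union hgi hY' hZ uZ
    obtain ⟨z, hz⟩ := nZ
    exact hdec Z₀ hZ₀ uZ₀ ⟨_, hz⟩ (fun he => hne (by rw [he, Set.preimage_univ]))
      (dec_of_pullback hY' h.tf hZ₀ uZ₀ hd)
  · obtain ⟨e⟩ := h.gen
    exact isSimple_iso qY ((Scheme.Modules.pullback g').mapIso e.symm ≪≫ (pullIso hg I).symm)
      (hIg Ω φ Y g' qY hY')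

include hsq hpure hgi hgen hE hI in
/-- Semistability of all geometric fibres. -/
theorem fibSemistable_of_sem {I : X.Modules} (h : Good f i j I₀ I) (hs : Sem R i E I)
    (hIg : TFOne.FibSemistable (Xg ↘ Spec (CommRingCat.of (FractionRing R))) ((Scheme.Modules.pullback j).obj I₀)
      ((Scheme.Modules.pullback j).obj E) r) : TFOne.FibSemistable f I E r := by
  intro Ω _ _ t Y g qY hY
  letI : Y.Over (Spec (CommRingCat.of Ω)) := ⟨qY⟩
  haveI : IsProper (Y ↘ Spec (CommRingCat.of Ω)) :=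
    MorphismProperty.of_isPullback hY inferInstance
  haveI : AlgebraicGeometry.IsReduced Y := isReduced_fibre f i hsq hgi hY
  have hdimY : topologicalKrullDim Y ≤ 1 := dim_fibre_le f i hsq hpure hY
  obtain ⟨hp, hn, hdim, hEs⟩ := modif_setup hsq hpure hE
  have hM := (relTF1_of_good hsq hgi hgen hI h).2.2 Ω t Y g qY hY
  have hEY := KRRReg.isFinLocFreeOfRank_pullback g hE
  refine (isSemistable_iff_bq Ω hdimY hEY hM).2 fun Z hZ uZ nZ hne => ?_
  rcases geom_cases hsq hgen hY with ⟨_, g', hY', hg, -⟩ | ⟨φ, g', hY', hg, -⟩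
  · obtain ⟨Z₀, hZ₀, uZ₀, rfl⟩ := exists_preimage_union hgi hY' hZ uZ
    rw [bq_iso Ω (pullIso hg E) (pullIso hg I) hM hZ uZ, bq_square hY' hEs h.tf hZ₀ uZ₀]
    exact hs Z₀ hZ₀ uZ₀
  · obtain ⟨e⟩ := h.gen
    let eM := pullIso hg I ≪≫ (Scheme.Modules.pullback g').mapIso e
    rw [bq_iso Ω (pullIso hg E) eM hM hZ uZ]
    exact (isSemistable_iff_bq Ω hdimY (KRRReg.isFinLocFreeOfRank_pullback g' (KRRReg.isFinLocFreeOfRank_pullback j hE))
      (isTF1_iso eM hM)).1 (hIg Ω φ Y g' qY hY') Z hZ uZ nZ hne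

include hsq hpure hgi hgen hE hI in
/-- Quasistability along a section of all geometric fibres. -/
theorem fibQuasi_of_sem {I : X.Modules} (h : Good f i j I₀ I) (hs : Sem R i E I)
    {σ : Spec (CommRingCat.of R) ⟶ X} (hσ : σ ≫ f = 𝟙 _) {x₀ : Xs}
    (hx₀ : i x₀ = σ (IsLocalRing.closedPoint R))
    (hpos : ∀ T : Set Xs, IsClosed T → IsUnion T → x₀ ∈ T → T ≠ Set.univ → 0 < bs R i E I T)
    {σg : Spec (CommRingCat.of (FractionRing R)) ⟶ Xg}
    {hσg : σg ≫ (Xg ↘ Spec (CommRingCat.of (FractionRing R))) = 𝟙 _}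
    (hσgj : σg ≫ j = Spec.map (CommRingCat.ofHom (algebraMap R (FractionRing R))) ≫ σ)
    (hIg : TFOne.FibQuasistableAlong (Xg ↘ Spec (CommRingCat.of (FractionRing R)))
      ((Scheme.Modules.pullback j).obj I₀) ((Scheme.Modules.pullback j).obj E) σg hσg r) :
    TFOne.FibQuasistableAlong f I E σ hσ r := by
  intro Ω _ _ t Y g qY hY y hyg hyq
  letI : Y.Over (Spec (CommRingCat.of Ω)) := ⟨qY⟩
  haveI : IsProper (Y ↘ Spec (CommRingCat.of Ω)) :=
    MorphismProperty.of_isPullback hY inferInstance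
  haveI : AlgebraicGeometry.IsReduced Y := isReduced_fibre f i hsq hgi hY
  have hdimY : topologicalKrullDim Y ≤ 1 := dim_fibre_le f i hsq hpure hY
  haveI := CurveCohLib.isNoetherian_of_proper (k := Ω) (X := Y)
  obtain ⟨hp, hn, hdim, hEs⟩ := modif_setup hsq hpure hE
  have hM := (relTF1_of_good hsq hgi hgen hI h).2.2 Ω t Y g qY hY
  have hEY := KRRReg.isFinLocFreeOfRank_pullback g hE
  rcases geom_cases hsq hgen hY with ⟨_, g', hY', hg, ht⟩ | ⟨φ, g', hY', hg, ht⟩
  · refine ⟨(isSemistable_iff_bq Ω hdimY hEY hM).2 fun Z hZ uZ _ _ => ?_, fun Z hZ hZs hne hyZ G π hG => ?_⟩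
    · obtain ⟨Z₀, hZ₀, uZ₀, rfl⟩ := exists_preimage_union hgi hY' hZ uZ
      rw [bq_iso Ω (pullIso hg E) (pullIso hg I) hM hZ uZ, bq_square hY' hEs h.tf hZ₀ uZ₀]
      exact hs Z₀ hZ₀ uZ₀
    · have uZ := isUnion_of_isSubcurve hZs
      show 0 < TFOne.rBeta Y Ω (Y ↘ Spec (CommRingCat.of Ω)) Z hZ ((Scheme.Modules.pullback g).obj E) r G
      rw [rBeta_eq_bq Ω hdimY hEY hM hZ uZ hG]
      obtain ⟨Z₀, hZ₀, uZ₀, rfl⟩ := exists_preimage_union hgi hY' hZ uZ
      rw [bq_iso Ω (pullIso hg E) (pullIso hg I) hM hZ uZ, bq_square hY' hEs h.tf hZ₀ uZ₀]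
      haveI : IsClosedImmersion i := by
        haveI : IsClosedImmersion (Spec.map (CommRingCat.ofHom (IsLocalRing.residue R))) :=
          IsClosedImmersion.spec_of_surjective _ Ideal.Quotient.mk_surjective
        exact MorphismProperty.of_isPullback hsq.flip inferInstance
      have he : g' (y (IsLocalRing.closedPoint Ω)) = x₀ := i.isClosedEmbedding.injective (by
        rw [hx₀, ← Scheme.Hom.comp_apply, hg, ← Scheme.Hom.comp_apply, hyg, ht, Scheme.Hom.comp_apply,
          Scheme.Hom.comp_apply]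
        haveI : IsLocalHom (IsLocalRing.residue R) :=
          IsLocalHom.of_surjective _ Ideal.Quotient.mk_surjective
        have hz : ∀ z : Spec (CommRingCat.of (IsLocalRing.ResidueField R)),
            Spec.map (CommRingCat.ofHom (IsLocalRing.residue R)) z = IsLocalRing.closedPoint R := fun z => by
          rw [show z = IsLocalRing.closedPoint _ from Subsingleton.elim _ _]
          exact IsLocalRing.comap_closedPoint (IsLocalRing.residue R)
        exact congrArg σ (hz _).symm.symm)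
      exact hpos Z₀ hZ₀ uZ₀ (he ▸ hyZ) fun he' => hne (by rw [he', Set.preimage_univ])
  · obtain ⟨e⟩ := h.gen
    let eM := pullIso hg I ≪≫ (Scheme.Modules.pullback g').mapIso e
    have hEY' := KRRReg.isFinLocFreeOfRank_pullback g' (KRRReg.isFinLocFreeOfRank_pullback j hE)
    have hq := hIg Ω φ Y g' qY hY' y (hgen.hom_ext (by rw [Category.assoc, hg, hyg, ht, Category.assoc, Category.assoc, hσgj])
      (by rw [Category.assoc, hY'.w, ← Category.assoc, hyq, Category.id_comp, Category.assoc, hσg, Category.comp_id])) hyq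
    refine ⟨(isSemistable_iff_bq Ω hdimY hEY hM).2 fun Z hZ uZ nZ hne => ?_, fun Z hZ hZs hne hyZ G π hG => ?_⟩
    · rw [bq_iso Ω (pullIso hg E) eM hM hZ uZ]
      exact (isSemistable_iff_bq Ω hdimY hEY' (isTF1_iso eM hM)).1 hq.1 Z hZ uZ nZ hne
    · have uZ := isUnion_of_isSubcurve hZs
      show 0 < TFOne.rBeta Y Ω (Y ↘ Spec (CommRingCat.of Ω)) Z hZ ((Scheme.Modules.pullback g).obj E) r G
      rw [rBeta_eq_bq Ω hdimY hEY hM hZ uZ hG, bq_iso Ω (pullIso hg E) eM hM hZ uZ]
      obtain ⟨G', π', hG'⟩ := exists_quotOn (isTF1_iso eM hM) uZ hZ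
      have := hq.2 Z hZ hZs hne hyZ G' π' hG'
      change 0 < TFOne.rBeta Y Ω (Y ↘ Spec (CommRingCat.of Ω)) Z hZ _ r G' at this
      rwa [rBeta_eq_bq Ω hdimY hEY' (isTF1_iso eM hM) hZ uZ hG'] at this

include hsq in
/-- Only one component passes through a point where the family is smooth. -/
theorem unique_component {U : X.Opens} [Smooth (U.ι ≫ f)] {x₀ : Xs} (hx : i x₀ ∈ U) {η η' : Xs}
    (hη : η ∈ genericPoints Xs) (hη' : η' ∈ genericPoints Xs) (h : η ⤳ x₀) (h' : η' ⤳ x₀) : η = η' := by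
  let q := Xs ↘ Spec (CommRingCat.of (IsLocalRing.ResidueField R))
  haveI hp : IsProper q := MorphismProperty.of_isPullback hsq inferInstance
  haveI : IsLocallyNoetherian Xs := LocallyOfFiniteType.isLocallyNoetherian q
  let V : Xs.Opens := i ⁻¹ᵁ U
  haveI : Smooth (V.ι ≫ q) :=
    MorphismProperty.of_isPullback ((isPullback_morphismRestrict i U).paste_vert hsq) ‹_›
  haveI := SmoothReg.isRegularLocalRing_stalk_of_mem_smoothLocus (V.ι ≫ q) (x := (⟨x₀, hx⟩ : V))
    (by rw [Scheme.Hom.smoothLocus_eq_top]; trivial)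
  haveI := RegLoc6.isDomain_of_isRegularLocalRing ((V.toScheme).presheaf.stalk (⟨x₀, hx⟩ : V))
  haveI : IsDomain (Xs.presheaf.stalk x₀) :=
    (V.stalkIso ⟨x₀, hx⟩).commRingCatIsoToRingEquiv.symm.injective.isDomain
      (V.stalkIso ⟨x₀, hx⟩).commRingCatIsoToRingEquiv.symm
  exact eq_generic_of_isDomain_stalk hη hη' h h'

end Groth.Agent.TFQuot

end
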