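import Groth.Agent.TFQuot.Step
import Groth.Agent.TFQuot.Fibres

/-!
# A geometric generic point of a completed family
-/

set_option autoImplicit false
set_option linter.style.haveILetI false
set_option linter.unusedSectionVars false
set_option backward.isDefEq.respectTransparency false
set_option backward.isDefEq.respectTransparency.types false
set_option maxHeartbeats 1000000

universe u

open CategoryTheory CategoryTheory.Limits AlgebraicGeometry TopologicalSpace

noncomputable section

namespace Groth.Agent.TFQuot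

open Groth.Agent

/-- Quotients transport along isomorphisms. -/
theorem isQuotOn_iso {X : Scheme.{u}} {M M' G : X.Modules} (e : M' ≅ M) {Z : Set X} {π : M ⟶ G}
    (h : TFOne.IsQuotOn X M Z G π) : TFOne.IsQuotOn X M' Z G (e.hom ≫ π) := by
  haveI := h.1
  exact ⟨inferInstance, h.2⟩

theorem bq_iso (k : Type u) [Field k] {X : Scheme.{u}} [X.Over (Spec (CommRingCat.of k))]
    [IsProper (X ↘ Spec (CommRingCat.of k))] [AlgebraicGeometry.IsReduced X] {E E' M M' : X.Modules}
    (eE : E ≅ E') (e : M ≅ M') (hM : TFOne.IsTF1 X M) {T : Set X} (hT : IsClosed T) (uT : IsUnion T) :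
    bq k E M T = bq k E' M' T := by
  haveI := CurveCohLib.isNoetherian_of_proper (k := k) (X := X)
  obtain ⟨G, π, h⟩ := exists_quotOn hM uT hT
  rw [bq_eq k hM h, bq_eq k (isTF1_iso e hM) (isQuotOn_iso e.symm h)]
  exact euler_tE_congr k eE (Iso.refl G)

variable {R : Type u} [CommRing R] [IsDomain R] [IsDiscreteValuationRing R] {X : Scheme.{u}}
  {f : X ⟶ Spec (CommRingCat.of R)} [Flat f] [IsProper f] {Xs : Scheme.{u}}
  [Xs.Over (Spec (CommRingCat.of (IsLocalRing.ResidueField R)))] {i : Xs ⟶ X}

theorem Cpl.ev_closed (c : Cpl f i) (x : Spec (CommRingCat.of (IsLocalRing.ResidueField R))) :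
    Spec.map (CommRingCat.ofHom c.ev) x = IsLocalRing.closedPoint c.A := by
  haveI : IsLocalHom c.ev := IsLocalHom.of_surjective c.ev c.ev_surj
  rw [show x = IsLocalRing.closedPoint _ from Subsingleton.elim _ _]
  exact IsLocalRing.comap_closedPoint c.ev

theorem Cpl.isClosedImmersion (c : Cpl f i) : IsClosedImmersion c.i' := by
  haveI : IsClosedImmersion (Spec.map (CommRingCat.ofHom c.ev)) :=
    IsClosedImmersion.spec_of_surjective _ c.ev_surj
  exact MorphismProperty.of_isPullback c.sq'.flip inferInstance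

variable {Xg : Scheme.{u}} [Xg.Over (Spec (CommRingCat.of (FractionRing R)))] (j : Xg ⟶ X)

/-- A geometric point over the generic point of the completion, seen over both bases. -/
structure GPt (c : Cpl f i) where
  /-- the field -/
  Ω : Type u
  [fld : Field Ω]
  [alg : IsAlgClosed Ω]
  /-- the point -/
  t : Spec (CommRingCat.of Ω) ⟶ Spec (CommRingCat.of c.A)
  /-- the fibre -/
  Y : Scheme.{u}
  /-- the map to the family -/
  g : Y ⟶ c.X'
  /-- the structure map -/
  qY : Y ⟶ Spec (CommRingCat.of Ω)
  sq : IsPullback g qY c.f' t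
  ht : t (IsLocalRing.closedPoint Ω) = (⟨⊥, Ideal.isPrime_bot⟩ : PrimeSpectrum c.A)
  /-- the point of the generic point of the base -/
  tK : Spec (CommRingCat.of Ω) ⟶ Spec (CommRingCat.of (FractionRing R))
  /-- the map to the generic fibre -/
  jY : Y ⟶ Xg
  sqK : IsPullback jY qY (Xg ↘ Spec (CommRingCat.of (FractionRing R))) tK
  hjY : jY ≫ j = g ≫ c.p

attribute [instance] GPt.fld GPt.alg

theorem gpt_aux {R A : Type u} [CommRing R] [IsDomain R] [CommRing A] (φ : R →+* A) (inj : Function.Injective φ) (L : Type u) [Field L] [Algebra A L] [IsFractionRing A L]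
    (F : Type u) [Field F] [IsAlgClosed F] [Algebra L F] : ∃ (Ω : Type u) (_ : Field Ω) (_ : IsAlgClosed Ω) (a : A →+* Ω)
      (b : FractionRing R →+* Ω), Function.Injective a ∧ b.comp (algebraMap R (FractionRing R)) = a.comp φ := by
  have ha : Function.Injective ((algebraMap L F).comp (algebraMap A L)) :=
    (algebraMap L F).injective.comp (IsFractionRing.injective A L)
  have hab : Function.Injective (((algebraMap L F).comp (algebraMap A L)).comp φ) := ha.comp inj
  exact ⟨F, inferInstance, inferInstance, _, IsFractionRing.lift (K := FractionRing R) hab, ha,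
    RingHom.ext fun r => IsFractionRing.lift_algebraMap hab r⟩
theorem exists_gpt_data {R A : Type u} [CommRing R] [IsDomain R] [CommRing A] [IsDomain A] (φ : R →+* A)
    (inj : Function.Injective φ) : ∃ (Ω : Type u) (_ : Field Ω) (_ : IsAlgClosed Ω) (a : A →+* Ω)
      (b : FractionRing R →+* Ω), Function.Injective a ∧ b.comp (algebraMap R (FractionRing R)) = a.comp φ :=
  gpt_aux φ inj (FractionRing A) (AlgebraicClosure (FractionRing A))

theorem nonempty_gpt (hgen : IsPullback j (Xg ↘ Spec (CommRingCat.of (FractionRing R))) f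
    (Spec.map (CommRingCat.ofHom (algebraMap R (FractionRing R))))) (c : Cpl f i) : Nonempty (GPt j c) := by
  obtain ⟨Ω, _, _, a, b, ha, hb⟩ := exists_gpt_data c.φ c.inj
  let t := Spec.map (CommRingCat.ofHom a)
  let g := pullback.fst c.f' t
  let qY := pullback.snd c.f' t
  have sq : IsPullback g qY c.f' t := IsPullback.of_hasPullback _ _
  have hsq : IsPullback (g ≫ c.p) qY f (t ≫ Spec.map (CommRingCat.ofHom c.φ)) := sq.paste_horiz c.sq
  have hT : t ≫ Spec.map (CommRingCat.ofHom c.φ) =
      Spec.map (CommRingCat.ofHom b) ≫ Spec.map (CommRingCat.ofHom (algebraMap R (FractionRing R))) := by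
    rw [← Spec.map_comp, ← Spec.map_comp, ← CommRingCat.ofHom_comp, ← CommRingCat.ofHom_comp, hb]
  rw [hT] at hsq
  let jY := hgen.lift (g ≫ c.p) (qY ≫ Spec.map (CommRingCat.ofHom b)) (by rw [hsq.w, Category.assoc])
  refine ⟨{ Ω := Ω, t := t, Y := _, g := g, qY := qY, sq := sq, ht := ?_, tK := Spec.map (CommRingCat.ofHom b),
            jY := jY, sqK := IsPullback.of_right ?_ (hgen.lift_snd _ _ _) hgen, hjY := hgen.lift_fst _ _ _ }⟩
  · refine PrimeSpectrum.ext ?_
    show Ideal.comap a (IsLocalRing.maximalIdeal Ω) = ⊥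
    rw [IsLocalRing.maximalIdeal_eq_bot]
    exact (RingHom.injective_iff_ker_eq_bot a).1 ha
  · rw [hgen.lift_fst]
    exact hsq

variable {j}
variable {c : Cpl f i} (P : GPt j c)

theorem GPt.sqR : IsPullback (P.g ≫ c.p) P.qY f (P.t ≫ Spec.map (CommRingCat.ofHom c.φ)) :=
  P.sq.paste_horiz c.sq

theorem GPt.isProper : IsProper P.qY :=
  haveI := c.isProper
  MorphismProperty.of_isPullback P.sq inferInstance

/-- The identification of restrictions to the geometric generic fibre. -/
def GPt.gIso (M : X.Modules) :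
    (Scheme.Modules.pullback P.g).obj ((Scheme.Modules.pullback c.p).obj M) ≅
      (Scheme.Modules.pullback P.jY).obj ((Scheme.Modules.pullback j).obj M) :=
  (Scheme.Modules.pullbackComp P.g c.p).app M ≪≫ (Scheme.Modules.pullbackCongr P.hjY.symm).app M ≪≫
    (Scheme.Modules.pullbackComp P.jY j).symm.app M

/-- Euler characteristics on the geometric generic fibre are those of the special fibre. -/
theorem GPt.euler_eq {N : c.X'.Modules} (hN : Coh.IsCoh N) (hfl : FlatMod.IsFlatOver c.f' N) :
    (letI : P.Y.Over (Spec (CommRingCat.of P.Ω)) := ⟨P.qY⟩;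
      Curv2.euler P.Ω P.Y ((Scheme.Modules.pullback P.g).obj N)) =
      Curv2.euler (IsLocalRing.ResidueField R) Xs ((Scheme.Modules.pullback c.i').obj N) := by
  haveI := c.isProper
  rw [euler_square c.f' hN.1 P.sq, eulerChar_eq_closed c.f' hN hfl]
  exact ((euler_square c.f' hN.1 c.sq').trans (by rw [c.ev_closed])).symm

/-- Every point of the special fibre is a specialization of a point of the generic fibre. -/
theorem GPt.exists_over (x₀ : Xs) : ∃ y : P.Y, P.g y ⤳ c.i' x₀ := by
  haveI := c.flat
  have hs : (⟨⊥, Ideal.isPrime_bot⟩ : PrimeSpectrum c.A) ⤳ c.f' (c.i' x₀) :=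
    (PrimeSpectrum.le_iff_specializes (⟨⊥, Ideal.isPrime_bot⟩ : PrimeSpectrum c.A) (c.f' (c.i' x₀))).1 bot_le
  obtain ⟨w, hw, hfw⟩ := CycLib.exists_generization c.f' hs
  obtain ⟨z, hz, -⟩ := Scheme.Pullback.exists_preimage_pullback (f := c.f') (g := P.t) w
    (IsLocalRing.closedPoint P.Ω) (hfw.trans P.ht.symm)
  exact ⟨P.sq.isoPullback.inv z, by rw [← Scheme.Hom.comp_apply, IsPullback.isoPullback_inv_fst, hz]; exact hw⟩

/-- A sheaf vanishing at a component of the special fibre vanishes at a component of the generic fibre. -/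
theorem GPt.exists_generic_notMem {N : c.X'.Modules} (hN : Coh.IsCoh N) {η : Xs}
    (hη : η ∉ CohB1.support ((Scheme.Modules.pullback c.i').obj N)) :
    ∃ θ ∈ genericPoints P.Y, θ ∉ CohB1.support ((Scheme.Modules.pullback P.g).obj N) := by
  rw [QCoh.support_pullback c.i' hN.1 hN.2, Set.mem_preimage] at hη
  obtain ⟨y, hy⟩ := P.exists_over η
  obtain ⟨θ, hθ, hθy, -⟩ := isUnion_univ (X := P.Y) y trivial
  refine ⟨θ, hθ, ?_⟩
  rw [QCoh.support_pullback P.g hN.1 hN.2, Set.mem_preimage]
  intro hmem
  exact hη (((hθy.map P.g.continuous).trans hy).mem_closed (QCoh.isClosed_support_of_isFT hN.1 hN.2) hmem)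

end Groth.Agent.TFQuot

end
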