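import Groth.Agent.TFQuot.GenPt
import Groth.Agent.KZ.OpenExt

/-!
# A decomposing tower bounds the polarised degree on the generic fibre
-/

set_option autoImplicit false
set_option linter.style.haveILetI false
set_option linter.unusedSectionVars false
set_option backward.isDefEq.respectTransparency false
set_option backward.isDefEq.respectTransparency.types false
set_option maxHeartbeats 1000000

universe u

open CategoryTheory CategoryTheory.Limits AlgebraicGeometry TopologicalSpace

noncomputable section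

namespace Groth.Agent.TFQuot

open Groth.Agent

variable {R : Type u} [CommRing R] [IsDomain R] [IsDiscreteValuationRing R] {X : Scheme.{u}}
  {f : X ⟶ Spec (CommRingCat.of R)} [Flat f] [IsProper f] {Xs : Scheme.{u}}
  [Xs.Over (Spec (CommRingCat.of (IsLocalRing.ResidueField R)))] {i : Xs ⟶ X} (c : Cpl f i)

theorem Cpl.sqRes : ∃ q' : Xs ⟶ Spec (CommRingCat.of (IsLocalRing.ResidueField c.A)),
    IsPullback c.i' q' c.f' (Spec.map (CommRingCat.ofHom (IsLocalRing.residue c.A))) := by
  haveI : IsLocalHom c.ev := IsLocalHom.of_surjective c.ev c.ev_surj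
  let ε : IsLocalRing.ResidueField c.A →+* IsLocalRing.ResidueField R := IsLocalRing.ResidueField.lift c.ev
  haveI : IsIso (CommRingCat.ofHom ε) := (ConcreteCategory.isIso_iff_bijective _).2 ⟨ε.injective, fun b => by
    obtain ⟨a, rfl⟩ := c.ev_surj b
    exact ⟨IsLocalRing.residue c.A a, rfl⟩⟩
  have hεev : Spec.map (CommRingCat.ofHom ε) ≫ Spec.map (CommRingCat.ofHom (IsLocalRing.residue c.A)) =
      Spec.map (CommRingCat.ofHom c.ev) := by
    rw [← Spec.map_comp]
    rfl
  exact ⟨(Xs ↘ Spec (CommRingCat.of (IsLocalRing.ResidueField R))) ≫ Spec.map (CommRingCat.ofHom ε),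
    c.sq'.of_iso (Iso.refl _) (Iso.refl _) (asIso (Spec.map (CommRingCat.ofHom ε))) (Iso.refl _)
      (by simp) (by simp) (by simp) (by simpa using hεev.symm)⟩

/-- Where the reduction of a map to a flat module is injective, so is the map. -/
theorem Cpl.notMem_support_kernel {M F : c.X'.Modules} (hM : Coh.IsCoh M) (hF : Coh.IsCoh F)
    (hFf : FlatMod.IsFlatOver c.f' F) (u : M ⟶ F) {x₀ : Xs}
    (hinj : Function.Injective (st ((Scheme.Modules.pullback c.i').map u) x₀)) :
    c.i' x₀ ∉ CohB1.support (kernel u) := by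
  letI : c.X'.Over (Spec (CommRingCat.of c.A)) := ⟨c.f'⟩
  haveI := c.isProper
  haveI : IsLocallyNoetherian c.X' := LocallyOfFiniteType.isLocallyNoetherian c.f'
  have hK := QCoh.isCoh_kernel hM hF u
  by_cases hne : x₀ ∈ CohB1.support ((Scheme.Modules.pullback c.i').obj M)
  swap
  · rw [QCoh.support_pullback c.i' hM.1 hM.2, Set.mem_preimage, CohB1.support, Set.mem_setOf_eq, not_not] at hne
    intro hs
    haveI : Subsingleton ((DerSch.stalkFunctor c.X' (c.i' x₀)).obj M) := hne
    exact hs ⟨fun k k' => st_injective (kernel.ι u) _ (Subsingleton.elim _ _)⟩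
  haveI := c.isClosedImmersion
  obtain ⟨q', hsq'⟩ := c.sqRes
  obtain ⟨t, ht⟩ := IsDiscreteValuationRing.exists_irreducible c.A
  obtain ⟨e, he⟩ := exists_stalkPushEquiv c.i' x₀
  obtain ⟨a0, a1, a2⟩ := unit_props c.f' c.i' hsq' t ht hM.1
  let adj := Scheme.Modules.pullbackPushforwardAdjunction c.i'
  let uM : M ⟶ (Scheme.Modules.pushforward c.i').obj ((Scheme.Modules.pullback c.i').obj M) := adj.unit.app M
  let uF : F ⟶ (Scheme.Modules.pushforward c.i').obj ((Scheme.Modules.pullback c.i').obj F) := adj.unit.app F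
  have hnat : u ≫ uF = uM ≫ (Scheme.Modules.pushforward c.i').map ((Scheme.Modules.pullback c.i').map u) :=
    adj.unit.naturality u
  replace a0 : Formal.smulMod c.A M t ≫ uM = 0 := a0
  replace a1 : ∀ x v, st uM x v = 0 → ∃ w, st (Formal.smulMod c.A M t) x w = v := a1
  replace a2 : ∀ x, Function.Surjective (st uM x) := a2
  have hmax : scalSt (c.i' x₀) t ∈ IsLocalRing.maximalIdeal (c.X'.presheaf.stalk (c.i' x₀)) := by
    rw [IsLocalRing.mem_maximalIdeal, mem_nonunits_iff]
    intro hu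
    refine hne ⟨fun v v' => ?_⟩
    have h0 : ∀ v, st uM (c.i' x₀) v = 0 := fun v => by
      obtain ⟨u1, hu1⟩ := hu
      rw [show v = st (Formal.smulMod c.A M t) (c.i' x₀) ((↑u1⁻¹ : c.X'.presheaf.stalk (c.i' x₀)) • v) by
        rw [st_smul, smul_smul, ← hu1, Units.mul_inv, one_smul], ← st_comp, a0, st_zero]
    obtain ⟨b, hb⟩ := a2 (c.i' x₀) ((e _).symm v)
    obtain ⟨b', hb'⟩ := a2 (c.i' x₀) ((e _).symm v')
    rw [h0] at hb hb'
    exact (e _).symm.injective (hb.symm.trans hb')
  have hbot : ∀ v, st u (c.i' x₀) v = 0 → v = 0 := by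
    have hK := QCoh.isCoh_kernel hM hF u
    haveI : Module.Finite (c.X'.presheaf.stalk (c.i' x₀)) ((DerSch.stalkFunctor c.X' (c.i' x₀)).obj (kernel u)) :=
      QCoh.finite_stalk_of_isFT hK.1 hK.2 _
    have htop : (⊤ : Submodule (c.X'.presheaf.stalk (c.i' x₀)) ((DerSch.stalkFunctor c.X' (c.i' x₀)).obj (kernel u))) ≤
        Ideal.span {scalSt (c.i' x₀) t} • ⊤ := fun k _ => by
      have h1 : st uM (c.i' x₀) (st (kernel.ι u) (c.i' x₀) k) = 0 := by
        refine (e _).injective (hinj ?_)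
        rw [map_zero, map_zero, ← he, ← st_comp _ ((Scheme.Modules.pushforward c.i').map _), ← hnat, ← st_comp,
          reassoc_of% (kernel.condition u), zero_comp, st_zero, map_zero]
      obtain ⟨m, hm⟩ := a1 _ _ h1
      have h2 : st u (c.i' x₀) m = 0 := by
        refine injective_of_flat c.f' t ht F hFf (c.i' x₀) ?_
        rw [map_zero, ← st_comp, ← FFun.smulMod_naturality, st_comp, hm, ← st_comp, kernel.condition, st_zero]
      obtain ⟨m', rfl⟩ := (st_kernel_iff u _ m).1 h2
      rw [show k = scalSt (c.i' x₀) t • m' from st_injective (kernel.ι u) _ (by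
        rw [map_smul, ← hm, st_smul])]
      exact Submodule.smul_mem_smul (Ideal.mem_span_singleton_self _) Submodule.mem_top
    have h0 := Submodule.eq_bot_of_le_smul_of_le_jacobson_bot (Ideal.span {scalSt (c.i' x₀) t}) ⊤
      Module.Finite.fg_top htop
      (((Ideal.span_singleton_le_iff_mem _).2 hmax).trans (IsLocalRing.maximalIdeal_le_jacobson _))
    intro v hv
    obtain ⟨k, rfl⟩ := (st_kernel_iff u _ v).1 hv
    rw [show k = 0 from (Submodule.mem_bot _).1 (h0 ▸ Submodule.mem_top (x := k)), map_zero]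
  exact fun hs => hs ⟨fun k k' => by
    refine st_injective (kernel.ι u) _ ((hbot _ ?_).trans (hbot _ ?_).symm) <;>
      rw [← st_comp, kernel.condition, st_zero]⟩

/-- Where the reduction of a map to a flat module is injective, the supports agree on generizations. -/
theorem Cpl.mem_support_of_injective {M F : c.X'.Modules} (hM : Coh.IsCoh M) (hF : Coh.IsCoh F)
    (hFf : FlatMod.IsFlatOver c.f' F) (u : M ⟶ F) {x₀ : Xs}
    (hinj : Function.Injective (st ((Scheme.Modules.pullback c.i').map u) x₀)) {w : c.X'} (hw : w ⤳ c.i' x₀)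
    (hwM : w ∈ CohB1.support M) : w ∈ CohB1.support F := by
  haveI := c.isProper
  haveI : IsLocallyNoetherian c.X' := LocallyOfFiniteType.isLocallyNoetherian c.f'
  have hK := QCoh.isCoh_kernel hM hF u
  have hwK : w ∉ CohB1.support (kernel u) := fun hs =>
    c.notMem_support_kernel hM hF hFf u hinj (hw.mem_closed (QCoh.isClosed_support_of_isFT hK.1 hK.2) hs)
  intro hwF
  haveI : Subsingleton ((DerSch.stalkFunctor c.X' w).obj F) := hwF
  refine hwM ⟨fun v v' => sub_eq_zero.1 ?_⟩
  obtain ⟨k, hk⟩ := (st_kernel_iff u w _).1 (Subsingleton.elim (st u w (v - v')) 0)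
  haveI : Subsingleton ((DerSch.stalkFunctor c.X' w).obj (kernel u)) := not_not.1 hwK
  rw [← hk, Subsingleton.elim (α := (DerSch.stalkFunctor c.X' w).obj (kernel u)) k 0, map_zero]

/-- A map to a flat module is invertible if its reduction is. -/
theorem Cpl.isIso_of_reduction {M F : c.X'.Modules} (hM : Coh.IsCoh M) (hF : Coh.IsCoh F)
    (hFf : FlatMod.IsFlatOver c.f' F) (u : M ⟶ F) [IsIso ((Scheme.Modules.pullback c.i').map u)] : IsIso u := by
  haveI := c.isProper
  haveI : IsLocallyNoetherian c.X' := LocallyOfFiniteType.isLocallyNoetherian c.f'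
  haveI : CompactSpace c.X' := QuasiCompact.compactSpace_of_compactSpace c.f'
  have hcl : ∀ {N : c.X'.Modules}, Coh.IsCoh N → (∀ x₀, c.i' x₀ ∉ CohB1.support N) → IsZero N := fun {N} hN h =>
    CurveCohLib.isZero_of_subsingleton_stalks fun x => by
      by_contra hx
      obtain ⟨y, hyS, hy⟩ := IsClosed.exists_closed_singleton (QCoh.isClosed_support_of_isFT hN.1 hN.2) ⟨x, hx⟩
      have hfy : c.f' y = IsLocalRing.closedPoint c.A := by
        have hcl : IsClosed ({c.f' y} : Set (Spec (CommRingCat.of c.A))) := by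
          rw [← Set.image_singleton]
          exact c.f'.isClosedMap _ hy
        exact ((IsLocalRing.specializes_closedPoint (c.f' y)).mem_closed hcl rfl).symm
      obtain ⟨z, hz, -⟩ := Scheme.Pullback.exists_preimage_pullback (f := c.f') (g := Spec.map (CommRingCat.ofHom c.ev))
        y (IsLocalRing.closedPoint _) (hfy.trans (c.ev_closed _).symm)
      refine h (c.sq'.isoPullback.inv z) ?_
      rwa [← Scheme.Hom.comp_apply, IsPullback.isoPullback_inv_fst, hz]
  haveI : Mono u := Preadditive.mono_of_isZero_kernel _ (hcl (QCoh.isCoh_kernel hM hF u) fun x₀ =>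
    c.notMem_support_kernel hM hF hFf u (x₀ := x₀) (st_injective _ x₀))
  haveI : Epi u := Preadditive.epi_of_isZero_cokernel _ (hcl (QCoh.isCoh_cokernel hM.1 hF u) fun x₀ => by
    have hC := QCoh.isCoh_cokernel hM.1 hF u
    rw [← Set.mem_preimage, ← QCoh.support_pullback c.i' hC.1 hC.2]
    let Q := Scheme.Modules.pullback c.i'
    haveI : Q.Additive := Adjunction.left_adjoint_additive (Scheme.Modules.pullbackPushforwardAdjunction c.i')
    have h0 : Q.map u ≫ Q.map (cokernel.π u) = 0 := by rw [← Q.map_comp, cokernel.condition, Q.map_zero]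
    have h1 : Q.map (cokernel.π u) = 0 := by rw [← cancel_epi (Q.map u), h0, comp_zero]
    intro hs
    exact hs ⟨fun v v' => by
      obtain ⟨a, rfl⟩ := st_surjective (Q.map (cokernel.π u)) x₀ v
      obtain ⟨a', rfl⟩ := st_surjective (Q.map (cokernel.π u)) x₀ v'
      rw [h1, st_zero, st_zero]⟩)
  exact isIso_of_mono_of_epi _

/-- A sum of flat sheaves is flat. -/
theorem flat_biprod {X : Scheme.{u}} (f : X ⟶ Spec (CommRingCat.of R)) {A B : X.Modules}
    (hA : FlatMod.IsFlatOver f A) (hB : FlatMod.IsFlatOver f B) : FlatMod.IsFlatOver f (A ⊞ B) := by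
  letI : X.Over (Spec (CommRingCat.of R)) := ⟨f⟩
  obtain ⟨t, ht⟩ := IsDiscreteValuationRing.exists_irreducible R
  refine flat_of_injective f t ht _ fun x => (injective_iff_map_eq_zero _).2 fun v hv => ?_
  rw [st_biprod_eq x v, show st (biprod.fst : A ⊞ B ⟶ A) x v = 0 from injective_of_flat f t ht A hA x (by
      rw [map_zero, ← st_comp, ← FFun.smulMod_naturality, st_comp, hv, map_zero]),
    show st (biprod.snd : A ⊞ B ⟶ B) x v = 0 from injective_of_flat f t ht B hB x (by
      rw [map_zero, ← st_comp, ← FFun.smulMod_naturality, st_comp, hv, map_zero]), map_zero, map_zero, add_zero]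

/-- The components outside `Y`. -/
def otherComps (Y : Set Xs) : Set Xs := ⋃₀ {C | C ∈ irreducibleComponents (Xs : Type u) ∧ ¬ C ⊆ Y}

theorem otherComps_otherComps [AlgebraicGeometry.IsReduced Xs] {Y : Set Xs} (hY : IsClosed Y) (uY : IsUnion Y) [AlgebraicGeometry.IsNoetherian Xs] :
    otherComps (otherComps Y) = Y := by
  have hc : ∀ T : Set Xs, IsClosed (otherComps T) := fun T => isClosed_comps
  refine IsUnion.ext (isUnion_comps (X := Xs)) (hc _) uY hY fun η hη => ?_
  have e : ∀ T : Set Xs, IsClosed T → (η ∈ otherComps T ↔ η ∉ T) := fun T hT => by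
    rw [otherComps, mem_sUnion_components_iff (P := fun C => ¬ C ⊆ T) hη, generic_closure_subset_iff hT]
  rw [e _ (hc _), e _ hY, not_not]

variable (i) in
/-- An infinite decomposing sequence of elementary modifications at `Y`. -/
structure DTower (I : X.Modules) (Y : Set Xs) where
  /-- the sheaves -/
  In : ℕ → X.Modules
  h0 : In 0 = I
  /-- the quotients on `Y` -/
  G : ℕ → Xs.Modules
  /-- the quotients on the other components -/
  G' : ℕ → Xs.Modules
  /-- the projections -/
  π : ∀ n : ℕ, (Scheme.Modules.pullback i).obj (In n) ⟶ G n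
  /-- the other projections -/
  π' : ∀ n : ℕ, (Scheme.Modules.pullback i).obj (In n) ⟶ G' n
  hG : ∀ n : ℕ, TFOne.IsQuotOn Xs ((Scheme.Modules.pullback i).obj (In n)) Y (G n) (π n)
  hG' : ∀ n : ℕ, TFOne.IsQuotOn Xs ((Scheme.Modules.pullback i).obj (In n)) (otherComps Y) (G' n) (π' n)
  hstep : ∀ n : ℕ, In (n + 1) = kernel (redQuot i (π n))
  hdec : ∀ n : ℕ, IsIso (biprod.lift (π n) (π' n))

variable [AlgebraicGeometry.IsReduced Xs] {Xg : Scheme.{u}} [Xg.Over (Spec (CommRingCat.of (FractionRing R)))]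
  {j : Xg ⟶ X} (P : GPt j c) {I₀ E : X.Modules} {r : ℕ}

theorem bq_generic_eq_euler (hsq : IsPullback i (Xs ↘ Spec (CommRingCat.of (IsLocalRing.ResidueField R))) f
      (Spec.map (CommRingCat.ofHom (IsLocalRing.residue R))))
    (hE : FlatMod.IsFinLocFreeOfRank r E) {N : c.X'.Modules} (hN : Coh.IsCoh N) (hNf : FlatMod.IsFlatOver c.f' N) :
    (letI : P.Y.Over (Spec (CommRingCat.of P.Ω)) := ⟨P.qY⟩;
      Curv2.euler P.Ω P.Y (tE ((Scheme.Modules.pullback P.jY).obj ((Scheme.Modules.pullback j).obj E))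
        ((Scheme.Modules.pullback P.g).obj N))) =
      Curv2.euler (IsLocalRing.ResidueField R) Xs (tE ((Scheme.Modules.pullback i).obj E)
        ((Scheme.Modules.pullback c.i').obj N)) := by
  letI : P.Y.Over (Spec (CommRingCat.of P.Ω)) := ⟨P.qY⟩
  haveI : IsProper (P.Y ↘ Spec (CommRingCat.of P.Ω)) := P.isProper
  haveI := c.isProper
  haveI : IsProper (Xs ↘ Spec (CommRingCat.of (IsLocalRing.ResidueField R))) :=
    MorphismProperty.of_isPullback hsq inferInstance
  have hE' := KRRReg.isFinLocFreeOfRank_pullback c.p hE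
  obtain ⟨e1⟩ := nonempty_pullback_tE P.g ((Scheme.Modules.pullback c.p).obj E) N
  obtain ⟨e2⟩ := nonempty_pullback_tE c.i' ((Scheme.Modules.pullback c.p).obj E) N
  calc _ = Curv2.euler P.Ω P.Y ((Scheme.Modules.pullback P.g).obj (tE ((Scheme.Modules.pullback c.p).obj E) N)) :=
        Euler.euler_congr _ ((DCoh.tensorBi.mapIso (P.gIso E).symm).app _ ≪≫ e1.symm)
    _ = _ := P.euler_eq (isCoh_tE hE' hN) (isFlatOver_tE c.f' hE' hNf)
    _ = _ := Euler.euler_congr _ (e2 ≪≫ (DCoh.tensorBi.mapIso (c.cIso E)).app _)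

/-- The quotient of the generic fibre cut out by a decomposing tower. -/
theorem exists_generic_union (hsq : IsPullback i (Xs ↘ Spec (CommRingCat.of (IsLocalRing.ResidueField R))) f
      (Spec.map (CommRingCat.ofHom (IsLocalRing.residue R))))
    (hpure : ∀ C ∈ irreducibleComponents (Xs : Type u), topologicalKrullDim C = 1)
    (hgi : ∀ (C : Set Xs) (hC : C ∈ irreducibleComponents (Xs : Type u)), GeometricallyIntegral
      (VecSt.subschι Xs C (isClosed_of_mem_irreducibleComponents C hC) ≫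
        (Xs ↘ Spec (CommRingCat.of (IsLocalRing.ResidueField R)))))
    (hE : FlatMod.IsFinLocFreeOfRank r E)
    (hMY : TFOne.IsTF1 P.Y ((Scheme.Modules.pullback P.jY).obj ((Scheme.Modules.pullback j).obj I₀)))
    {I : X.Modules} (hgood : Good f i j I₀ I) {Y : Set Xs} (hY : IsClosed Y) (T : DTower i I Y) :
    (letI : P.Y.Over (Spec (CommRingCat.of P.Ω)) := ⟨P.qY⟩;
      ∃ Z : Set P.Y, IsClosed Z ∧ IsUnion Z ∧
        bq P.Ω ((Scheme.Modules.pullback P.jY).obj ((Scheme.Modules.pullback j).obj E))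
            ((Scheme.Modules.pullback P.jY).obj ((Scheme.Modules.pullback j).obj I₀)) Z ≤
          bq (IsLocalRing.ResidueField R) ((Scheme.Modules.pullback i).obj E)
            ((Scheme.Modules.pullback i).obj I) Y ∧
        ((∃ η ∈ genericPoints Xs, η ∉ Y) → Z ≠ Set.univ) ∧
        ∀ x₀ ∈ Y, (∀ η ∈ genericPoints Xs, η ⤳ x₀ → η ∈ Y) → ∀ y, P.g y ⤳ c.i' x₀ → y ∈ Z) := by
  letI : P.Y.Over (Spec (CommRingCat.of P.Ω)) := ⟨P.qY⟩
  haveI : IsProper (P.Y ↘ Spec (CommRingCat.of P.Ω)) := P.isProper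
  haveI := c.isProper
  haveI := c.flat
  obtain ⟨hp, hn, hdimS, hEs⟩ := modif_setup hsq hpure hE
  haveI : AlgebraicGeometry.IsReduced P.Y := isReduced_fibre f i hsq hgi P.sqR
  haveI := CurveCohLib.isNoetherian_of_proper (k := P.Ω) (X := P.Y)
  haveI : IsLocallyNoetherian X := LocallyOfFiniteType.isLocallyNoetherian f
  haveI : IsLocallyNoetherian c.X' := LocallyOfFiniteType.isLocallyNoetherian c.f'
  have hdim : topologicalKrullDim P.Y ≤ 1 := dim_fibre_le f i hsq hpure P.sqR
  obtain ⟨In, rfl, G, G', π, π', hG, hG', hstep, hdec⟩ := T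
  obtain ⟨F, u, hFc, hu, hFf, e, he⟩ := exists_flat_quotient_cpl c hsq In hgood.coh hgood.flat hgood.tf Y hY
    (otherComps Y) rfl G G' π π' hG hG' hstep hdec
  obtain ⟨eg⟩ := hgood.gen
  let φ : (Scheme.Modules.pullback P.g).obj ((Scheme.Modules.pullback c.p).obj (In 0)) ≅
      (Scheme.Modules.pullback P.jY).obj ((Scheme.Modules.pullback j).obj I₀) :=
    P.gIso (In 0) ≪≫ (Scheme.Modules.pullback P.jY).mapIso eg
  haveI : Epi ((Scheme.Modules.pullback P.g).map u) := inferInstance
  have hEY := KRRReg.isFinLocFreeOfRank_pullback P.jY (KRRReg.isFinLocFreeOfRank_pullback j hE)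
  obtain ⟨Z, GZ, πZ, ρ, hZc, uZ, hqZ, -, hmem, hle⟩ := exists_quot_le P.Ω hdim hEY hMY
    (ZClosLib.isCoh_pullback P.g hFc) (φ.inv ≫ (Scheme.Modules.pullback P.g).map u)
  refine ⟨Z, hZc, uZ, ?_, ?_, ?_⟩
  · rw [bq_eq P.Ω hMY hqZ, bq_eq (IsLocalRing.ResidueField R) hgood.tf (hG 0)]
    exact hle.trans ((bq_generic_eq_euler c P hsq hE hFc hFf).trans (euler_tE_congr _ (Iso.refl _) e)).le
  · rintro ⟨η, hη, hηY⟩ huniv
    obtain ⟨θ, hθ, hθF⟩ := P.exists_generic_notMem hFc (η := η) (by
      rw [support_iso e, (hG 0).2.2.2]; exact hηY)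
    exact hθF ((hmem θ hθ).1 (huniv ▸ trivial))
  · intro x₀ hx₀ hxY y hy
    obtain ⟨θ, hθ, hθy, -⟩ := isUnion_univ (X := P.Y) y trivial
    refine hθy.mem_closed hZc ((hmem θ hθ).2 ?_)
    rw [QCoh.support_pullback P.g hFc.1 hFc.2, Set.mem_preimage]
    have hMc := ZClosLib.isCoh_pullback c.p hgood.coh
    refine c.mem_support_of_injective hMc hFc hFf u (x₀ := x₀) ?_ ((hθy.map P.g.continuous).trans hy) ?_
    · have h := injective_quot_at hgood.tf (hG 0) hxY
      have h' : (Scheme.Modules.pullback c.i').map u = (c.cIso (In 0)).hom ≫ π 0 ≫ e.inv := by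
        rw [← Category.assoc, Iso.eq_comp_inv]; exact he
      rw [h']
      intro v v' hv
      rw [st_comp, st_comp, st_comp, st_comp] at hv
      exact st_injective _ _ (h (st_injective _ _ hv))
    · have h1 : θ ∈ CohB1.support ((Scheme.Modules.pullback P.g).obj ((Scheme.Modules.pullback c.p).obj (In 0))) := by
        rw [support_iso φ]
        exact mem_support_of_rkOne hMY.2.2 hθ
      rwa [QCoh.support_pullback P.g hMc.1 hMc.2, Set.mem_preimage] at h1

/-- A sheaf decomposing all along both directions has a non-simple generic fibre. -/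
theorem not_isSimple_generic (hsq : IsPullback i (Xs ↘ Spec (CommRingCat.of (IsLocalRing.ResidueField R))) f
      (Spec.map (CommRingCat.ofHom (IsLocalRing.residue R))))
    (hgi : ∀ (C : Set Xs) (hC : C ∈ irreducibleComponents (Xs : Type u)), GeometricallyIntegral
      (VecSt.subschι Xs C (isClosed_of_mem_irreducibleComponents C hC) ≫
        (Xs ↘ Spec (CommRingCat.of (IsLocalRing.ResidueField R)))))
    (hMY : TFOne.IsTF1 P.Y ((Scheme.Modules.pullback P.jY).obj ((Scheme.Modules.pullback j).obj I₀)))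
    {I : X.Modules} (hgood : Good f i j I₀ I) {Y : Set Xs} (hY : IsClosed Y) (uY : IsUnion Y) (hne : Y.Nonempty)
    (hne' : ∃ η ∈ genericPoints Xs, η ∉ Y) (T : DTower i I Y) (T' : DTower i I (otherComps Y))
    (hs : TFOne.IsSimple P.Y P.Ω P.qY ((Scheme.Modules.pullback P.jY).obj ((Scheme.Modules.pullback j).obj I₀))) :
    False := by
  letI : P.Y.Over (Spec (CommRingCat.of P.Ω)) := ⟨P.qY⟩
  haveI hp : IsProper (Xs ↘ Spec (CommRingCat.of (IsLocalRing.ResidueField R))) :=
    MorphismProperty.of_isPullback hsq inferInstance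
  haveI := CurveCohLib.isNoetherian_of_proper (k := IsLocalRing.ResidueField R) (X := Xs)
  haveI := c.isProper
  haveI : IsLocallyNoetherian X := LocallyOfFiniteType.isLocallyNoetherian f
  haveI : IsLocallyNoetherian c.X' := LocallyOfFiniteType.isLocallyNoetherian c.f'
  haveI : IsProper (P.Y ↘ Spec (CommRingCat.of P.Ω)) := P.isProper
  haveI : AlgebraicGeometry.IsReduced P.Y := isReduced_fibre f i hsq hgi P.sqR
  haveI : IsLocallyNoetherian P.Y := LocallyOfFiniteType.isLocallyNoetherian (P.Y ↘ Spec (CommRingCat.of P.Ω))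
  obtain ⟨In, rfl, G, G', π, π', hG, hG', hstep, hdec⟩ := T
  obtain ⟨Jn, hJ, H, H', ρ, ρ', hH, hH', hstep', hdec'⟩ := T'
  have hY'c : IsClosed (otherComps Y) := isClosed_comps
  obtain ⟨F, u, hFc, hu, hFf, e, he⟩ := exists_flat_quotient_cpl c hsq In hgood.coh hgood.flat hgood.tf Y hY
    (otherComps Y) rfl G G' π π' hG hG' hstep hdec
  obtain ⟨F', u', hFc', hu', hFf', e', he'⟩ := exists_flat_quotient_cpl c hsq Jn (hJ ▸ hgood.coh) (hJ ▸ hgood.flat)
    (hJ ▸ hgood.tf) (otherComps Y) hY'c _ rfl H H' ρ ρ' hH hH' hstep' hdec'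
  let Pp := Scheme.Modules.pullback c.p
  let Q := Scheme.Modules.pullback c.i'
  let Gg := Scheme.Modules.pullback P.g
  haveI : Q.Additive := Adjunction.left_adjoint_additive (Scheme.Modules.pullbackPushforwardAdjunction c.i')
  haveI : Gg.Additive := Adjunction.left_adjoint_additive (Scheme.Modules.pullbackPushforwardAdjunction P.g)
  let u₁ : Pp.obj (In 0) ⟶ F' := eqToHom (by rw [hJ]) ≫ u'
  haveI : Epi u₁ := epi_comp _ _
  let σ : (Scheme.Modules.pullback i).obj (In 0) ⟶ H 0 := eqToHom (by rw [hJ]) ≫ ρ 0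
  have hσ : TFOne.IsQuotOn Xs _ (otherComps Y) (H 0) σ := by
    haveI := (hH 0).1
    exact ⟨epi_comp _ _, (hH 0).2⟩
  have he₁ : Q.map u₁ ≫ e'.hom = (c.cIso (In 0)).hom ≫ σ := by
    have h : ∀ (M M' : X.Modules) (hM : M = M'), Q.map (eqToHom (congrArg Pp.obj hM)) ≫ (c.cIso M').hom =
        (c.cIso M).hom ≫ eqToHom (congrArg (Scheme.Modules.pullback i).obj hM) := fun M M' hM => by
      subst hM
      simp
    simp only [u₁, σ, Functor.map_comp, Category.assoc]
    rw [show Q.map u' ≫ e'.hom = _ from he', reassoc_of% (h _ _ hJ.symm)]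
  obtain ⟨a, ha⟩ := quot_iso hgood.tf.2.2 (hG' 0) hσ
  haveI hiso : IsIso (biprod.lift (π 0) σ) := by
    rw [show biprod.lift (π 0) σ = biprod.lift (π 0) (π' 0) ≫ biprod.map (𝟙 _) a.hom from by
      apply biprod.hom_ext <;> simp [ha]]
    haveI := hdec 0
    haveI : IsIso (biprod.map (𝟙 (G 0)) a.hom) := (biprod.mapIso (Iso.refl (G 0)) a).isIso_hom
    infer_instance
  let w : Pp.obj (In 0) ⟶ F ⊞ F' := biprod.lift u u₁
  haveI : IsIso (Q.map w) := by
    have h : Q.map w ≫ biprod.lift (Q.map biprod.fst ≫ e.hom) (Q.map biprod.snd ≫ e'.hom) =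
        (c.cIso (In 0)).hom ≫ biprod.lift (π 0) σ := by
      apply biprod.hom_ext <;> simp only [Category.assoc, biprod.lift_fst, biprod.lift_snd]
      · rw [← Category.assoc, ← Q.map_comp, biprod.lift_fst, he]
      · rw [← Category.assoc, ← Q.map_comp, biprod.lift_snd, he₁]
    haveI := preservesBinaryBiproducts_of_preservesBiproducts Q
    haveI : IsIso (biprod.lift (Q.map biprod.fst ≫ e.hom) (Q.map biprod.snd ≫ e'.hom) :
        Q.obj (F ⊞ F') ⟶ G 0 ⊞ H 0) := by
      rw [show biprod.lift (Q.map biprod.fst ≫ e.hom) (Q.map biprod.snd ≫ e'.hom) =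
        (Q.mapBiprod F F').hom ≫ biprod.map e.hom e'.hom from by
        apply biprod.hom_ext <;> simp]
      haveI : IsIso (biprod.map e.hom e'.hom) := (biprod.mapIso e e').isIso_hom
      infer_instance
    exact IsIso.of_isIso_fac_right h
  have hMc : Coh.IsCoh (Pp.obj (In 0)) := ZClosLib.isCoh_pullback c.p hgood.coh
  haveI : IsIso w := c.isIso_of_reduction hMc (KZ.isCoh_biprod hFc hFc') (flat_biprod c.f' hFf hFf') w
  obtain ⟨eg⟩ := hgood.gen
  let φ : Gg.obj (Pp.obj (In 0)) ≅ (Scheme.Modules.pullback P.jY).obj ((Scheme.Modules.pullback j).obj I₀) :=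
    P.gIso (In 0) ≪≫ (Scheme.Modules.pullback P.jY).mapIso eg
  haveI := preservesBinaryBiproducts_of_preservesBiproducts Gg
  let Ψ : (Scheme.Modules.pullback P.jY).obj ((Scheme.Modules.pullback j).obj I₀) ≅ Gg.obj F ⊞ Gg.obj F' :=
    φ.symm ≪≫ Gg.mapIso (asIso w) ≪≫ Gg.mapBiprod F F'
  have hsupp : ∀ (N : c.X'.Modules) (hN : Coh.IsCoh N) (hNf : FlatMod.IsFlatOver c.f' N) (v : Pp.obj (In 0) ⟶ N)
      {Z : Set Xs} {K : Xs.Modules} {κ : (Scheme.Modules.pullback i).obj (In 0) ⟶ K}
      (hK : TFOne.IsQuotOn Xs _ Z K κ) (d : Q.obj N ≅ K), Q.map v ≫ d.hom = (c.cIso (In 0)).hom ≫ κ →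
      (∃ η ∈ genericPoints Xs, η ∈ Z) → ¬ IsZero (Gg.obj N) := by
    intro N hN hNf v Z K κ hK d hd ⟨η, hη, hηZ⟩ hz
    obtain ⟨y, hy⟩ := P.exists_over η
    obtain ⟨θ, hθ, hθy, -⟩ := isUnion_univ (X := P.Y) y trivial
    have h1 : P.g θ ∈ CohB1.support N := by
      refine c.mem_support_of_injective hMc hN hNf v (x₀ := η) ?_ ((hθy.map P.g.continuous).trans hy) ?_
      · have h' : Q.map v = (c.cIso (In 0)).hom ≫ κ ≫ d.inv := by
          rw [← Category.assoc, Iso.eq_comp_inv]; exact hd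
        rw [show (Scheme.Modules.pullback c.i').map v = Q.map v from rfl, h']
        intro a b hab
        rw [st_comp, st_comp, st_comp, st_comp] at hab
        exact st_injective _ _ ((injective_quot_at hgood.tf hK fun η' hη' hs =>
          eq_of_specializes_generic hη hs ▸ hηZ) (st_injective _ _ hab))
      · have h1 : θ ∈ CohB1.support (Gg.obj (Pp.obj (In 0))) := by
          rw [support_iso φ]; exact mem_support_of_rkOne hMY.2.2 hθ
        rwa [QCoh.support_pullback P.g hMc.1 hMc.2, Set.mem_preimage] at h1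
    rw [← Set.mem_preimage, ← QCoh.support_pullback P.g hN.1 hN.2] at h1
    exact h1 (AddCommGrpCat.subsingleton_of_isZero
      ((TopCat.Presheaf.stalkFunctor AddCommGrpCat θ).map_isZero ((Scheme.Modules.toPresheaf _).map_isZero hz)))
  obtain ⟨x, hx⟩ := hne
  obtain ⟨η, hη, -, hηY⟩ := uY x hx
  have hA := hsupp F hFc hFf u (hG 0) e he ⟨η, hη, hηY⟩
  obtain ⟨η', hη', hη'Y⟩ := hne'
  have hB := hsupp F' hFc' hFf' u₁ hσ e' he₁ ⟨η', hη',
    (mem_sUnion_components_iff (P := fun C => ¬ C ⊆ Y) hη').2 fun h => hη'Y (h (subset_closure rfl))⟩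
  obtain ⟨s, hs⟩ := hs.2 (Ψ.hom ≫ biprod.fst ≫ biprod.inl ≫ Ψ.inv)
  have h1 : Formal.smulMod P.Ω (Gg.obj F ⊞ Gg.obj F') s = biprod.fst ≫ biprod.inl := by
    rw [← cancel_epi Ψ.hom, ← FFun.smulMod_naturality, ← hs]
    simp
  have hAs : Formal.smulMod P.Ω (Gg.obj F) s = 𝟙 _ := by
    have := congrArg (fun m => biprod.inl ≫ m ≫ biprod.fst) h1
    simp only [← Category.assoc, ← FFun.smulMod_naturality] at this
    simpa using this
  have hBs : Formal.smulMod P.Ω (Gg.obj F') s = 0 := by
    have := congrArg (fun m => biprod.inr ≫ m ≫ biprod.snd) h1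
    simp only [← Category.assoc, ← FFun.smulMod_naturality] at this
    simpa using this
  by_cases h0 : s = 0
  · refine hA ((IsZero.iff_id_eq_zero _).2 ?_)
    rw [← hAs, h0, FFun.smulMod_zero]
  · refine hB ((IsZero.iff_id_eq_zero _).2 ?_)
    rw [← FFun.smulMod_one (A := P.Ω), ← inv_mul_cancel₀ h0, FFun.smulMod_mul, hBs]
    simp

end Groth.Agent.TFQuot

end
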