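import Groth.Agent.TFQuot.Modif

/-!
# Decompositions of torsion-free sheaves as idempotents
-/

set_option autoImplicit false
set_option linter.style.haveILetI false
set_option linter.unusedSectionVars false
set_option backward.isDefEq.respectTransparency false
set_option backward.isDefEq.respectTransparency.types false
set_option maxHeartbeats 1000000

universe u

open CategoryTheory CategoryTheory.Limits AlgebraicGeometry TopologicalSpace

noncomputable section

namespace Groth.Agent.TFQuot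

open Groth.Agent

variable {X : Scheme.{u}}

/-- `M` has an endomorphism which is the identity over `Z` and zero off `Z` at the generic points. -/
def Dec (M : X.Modules) (Z : Set X) : Prop :=
  ∃ e : M ⟶ M, ∀ η ∈ genericPoints X, ∀ v, (η ∈ Z → st e η v = v) ∧ (η ∉ Z → st e η v = 0)

theorem st_id {M : X.Modules} (x : X) (v : (DerSch.stalkFunctor X x).obj M) : st (𝟙 M) x v = v := by
  show (DerSch.stalkFunctor X x).map (𝟙 M) v = v
  rw [CategoryTheory.Functor.map_id]
  rfl

variable [AlgebraicGeometry.IsNoetherian X] [AlgebraicGeometry.IsReduced X] {M G G' : X.Modules} {Z Z' : Set X}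
  {π : M ⟶ G} {π' : M ⟶ G'}

theorem isIso_lift_of_dec (hM : TFOne.IsTF1 X M) (hd : Dec M Z) (h : TFOne.IsQuotOn X M Z G π)
    (h' : TFOne.IsQuotOn X M Z' G' π') (hZ : ∀ η ∈ genericPoints X, η ∈ Z' ↔ η ∉ Z) :
    IsIso (biprod.lift π π') := by
  obtain ⟨e, he⟩ := hd
  have h1 : e ≫ π = π := sub_eq_zero.1 <| hom_eq_zero h.2.1.1 h.2.2.1 _ fun η hη v => by
    rw [st_sub, st_comp, sub_eq_zero]
    by_cases hηZ : η ∈ Z
    · rw [(he η hη v).1 hηZ]
    · exact (stalk_eq_zero h hηZ _).trans (stalk_eq_zero h hηZ _).symm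
  have h2 : e ≫ π' = 0 := hom_eq_zero h'.2.1.1 h'.2.2.1 _ fun η hη v => by
    rw [st_comp]
    by_cases hηZ : η ∈ Z
    · exact stalk_eq_zero h' (fun hh => (hZ η hη).1 hh hηZ) _
    · rw [(he η hη v).2 hηZ, map_zero]
  haveI := h.1
  haveI := h'.1
  haveI : Mono (biprod.lift π π') := Preadditive.mono_of_kernel_zero <| hom_eq_zero hM.1.1 hM.2.1 _ fun η hη v => by
    have h0 : st (biprod.lift π π') η (st (kernel.ι (biprod.lift π π')) η v) = 0 := by
      rw [← st_comp, kernel.condition, st_zero]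
    generalize st (kernel.ι (biprod.lift π π')) η v = w at h0 ⊢
    by_cases hηZ : η ∈ Z
    · refine (bijective_quot hM.2.2 h hη hηZ).1 ?_
      rw [map_zero, ← biprod.lift_fst π π', st_comp, h0, map_zero]
    · refine (bijective_quot hM.2.2 h' hη ((hZ η hη).2 hηZ)).1 ?_
      rw [map_zero, ← biprod.lift_snd π π', st_comp, h0, map_zero]
  haveI : Epi (biprod.lift π π') := Exactness.epi_of_stalk _ fun x => (ModuleCat.epi_iff_surjective _).2 fun w => by
    obtain ⟨v, hv⟩ := st_surjective π x (st biprod.fst x w)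
    obtain ⟨v', hv'⟩ := st_surjective π' x (st biprod.snd x w)
    refine ⟨st e x v + st (𝟙 M - e) x v', ?_⟩
    show st (biprod.lift π π') x _ = w
    rw [st_biprod_eq x w, st_biprod_eq x (st (biprod.lift π π') x _), ← st_comp _ biprod.fst, ← st_comp _ biprod.snd,
      biprod.lift_fst, biprod.lift_snd, ← hv, ← hv', map_add (st π x).hom, map_add (st π' x).hom, ← st_comp e π, ← st_comp e π', ← st_comp (𝟙 M - e) π,
      ← st_comp (𝟙 M - e) π', h1, h2, Preadditive.sub_comp, Preadditive.sub_comp, Category.id_comp, Category.id_comp,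
      h1, h2, sub_self, sub_zero, st_zero, st_zero, add_zero, zero_add]
  exact isIso_of_mono_of_epi _

theorem dec_of_isIso_lift (hM : TFOne.IsRkOne X M) (h : TFOne.IsQuotOn X M Z G π)
    (h' : TFOne.IsQuotOn X M Z' G' π') (hZ : ∀ η ∈ genericPoints X, η ∈ Z' ↔ η ∉ Z) [IsIso (biprod.lift π π')] :
    Dec M Z := by
  refine ⟨biprod.lift π π' ≫ biprod.fst ≫ biprod.inl ≫ inv (biprod.lift π π'), fun η hη v => ?_⟩
  set e := biprod.lift π π' ≫ biprod.fst ≫ biprod.inl ≫ inv (biprod.lift π π') with he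
  have i1 : inv (biprod.lift π π') ≫ π = biprod.fst := by rw [IsIso.inv_comp_eq, biprod.lift_fst]
  have i2 : inv (biprod.lift π π') ≫ π' = biprod.snd := by rw [IsIso.inv_comp_eq, biprod.lift_snd]
  have h1 : e ≫ π = π := by simp [he, i1]
  have h2 : e ≫ π' = 0 := by simp [he, i2]
  refine ⟨fun hηZ => (bijective_quot hM h hη hηZ).1 ?_, fun hηZ => (bijective_quot hM h' hη ((hZ η hη).2 hηZ)).1 ?_⟩
  · rw [← st_comp, h1]
  · rw [← st_comp, h2, st_zero, map_zero]

theorem Dec.compl (hd : Dec M Z) (hZ : ∀ η ∈ genericPoints X, η ∈ Z' ↔ η ∉ Z) : Dec M Z' := by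
  obtain ⟨e, he⟩ := hd
  refine ⟨𝟙 M - e, fun η hη v => ⟨fun h => ?_, fun h => ?_⟩⟩
  · rw [st_sub, st_id, (he η hη v).2 ((hZ η hη).1 h), sub_zero]
  · rw [st_sub, st_id, (he η hη v).1 (not_not.1 fun hn => h ((hZ η hη).2 hn)), sub_self]

variable {F F' : X.Modules} {Y : Set X} {ρ : F ⟶ G}

/-- Decompositions of an elementary modification at a decomposing subcurve come from the original sheaf. -/
theorem dec_of_modif (m : Modif Y ρ F') (hF : TFOne.IsTF1 X F) (hY : Dec F Y) (hZ : Dec F' Z) : Dec F Z := by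
  classical
  obtain ⟨e₀, he₀⟩ := hY
  obtain ⟨e', he'⟩ := hZ
  have hrk := hF.2.2
  haveI := m.quot.1
  have htK := torsionFree_of_mono (kernel.ι ρ) hF.2.1
  have hKq : Coh.IsQCoh (kernel ρ) := QCoh.isQCoh_kernel hF.1.1 m.quot.2.1.1 ρ
  have hKY : ∀ η ∈ genericPoints X, η ∈ Y → ∀ w : (DerSch.stalkFunctor X η).obj (kernel ρ), w = 0 :=
    fun η hη hηY w => st_injective (kernel.ι ρ) η ((bijective_quot hrk m.quot hη hηY).1 (by
      rw [← st_comp, kernel.condition, st_zero, map_zero, map_zero]))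
  -- the endomorphism of the quotient
  have hab : (m.a ≫ e') ≫ m.b = 0 := hom_eq_zero hF.1.1 hF.2.1 _ fun η hη v => by
    by_cases hηY : η ∈ Y
    · rw [st_comp, m.b_eq_zero hrk hη hηY]
    · rw [stalk_eq_zero m.quot hηY v, map_zero]
  haveI := m.mono_a
  let a' : G ⟶ kernel m.b := kernel.lift m.b m.a m.ab
  haveI : IsIso a' := by
    haveI : Mono a' := mono_of_mono_fac (kernel.lift_ι m.b m.a m.ab)
    haveI : Epi a' := Exactness.epi_of_stalk _ fun x => (ModuleCat.epi_iff_surjective _).2 fun v => by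
      obtain ⟨w, hw⟩ := m.ex₁ x (st (kernel.ι m.b) x v) (by rw [← st_comp, kernel.condition, st_zero])
      exact ⟨w, st_injective (kernel.ι m.b) x (by rw [← st_comp, kernel.lift_ι]; exact hw)⟩
    exact isIso_of_mono_of_epi a'
  obtain ⟨eG, heG⟩ : ∃ eG : G ⟶ G, eG ≫ m.a = m.a ≫ e' := by
    refine ⟨kernel.lift m.b (m.a ≫ e') hab ≫ inv a', ?_⟩
    have h1 : inv a' ≫ m.a = kernel.ι m.b := by rw [IsIso.inv_comp_eq, kernel.lift_ι]
    rw [Category.assoc, h1, kernel.lift_ι]
  let σ : G ⟶ F := Abelian.epiDesc ρ e₀ (hom_eq_zero hF.1.1 hF.2.1 _ fun η hη v => by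
    rw [st_comp]
    by_cases hηY : η ∈ Y
    · rw [(bijective_quot hrk m.quot hη hηY).1 (show st ρ η (st (kernel.ι ρ) η v) = st ρ η 0 by
        rw [← st_comp, kernel.condition, st_zero, map_zero]), map_zero]
    · exact (he₀ η hη _).2 hηY)
  have hσ : ρ ≫ σ = e₀ := Abelian.comp_epiDesc _ _ _
  -- the endomorphism of the kernel
  let b' : F' ⟶ kernel ρ := kernel.lift ρ m.b m.bπ
  haveI : Epi b' := Exactness.epi_of_stalk _ fun x => (ModuleCat.epi_iff_surjective _).2 fun v => by
    obtain ⟨w, hw⟩ := m.ex₂ x (st (kernel.ι ρ) x v) (by rw [← st_comp, kernel.condition, st_zero])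
    exact ⟨w, st_injective (kernel.ι ρ) x (by rw [← st_comp, kernel.lift_ι]; exact hw)⟩
  let eK : kernel ρ ⟶ kernel ρ := Abelian.epiDesc b' (e' ≫ b') (hom_eq_zero hKq htK _ fun η hη v => by
    by_cases hηY : η ∈ Y
    · exact hKY η hη hηY _
    · have h0 : st (kernel.ι b') η v = 0 := (m.b_bijective hηY).1 (by
        rw [map_zero, show m.b = b' ≫ kernel.ι ρ from (kernel.lift_ι _ _ _).symm, st_comp, ← st_comp (kernel.ι b'),
          kernel.condition, st_zero, map_zero])
      rw [st_comp, h0, map_zero])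
  have heK : b' ≫ eK = e' ≫ b' := Abelian.comp_epiDesc _ _ _
  let l : F ⟶ kernel ρ := kernel.lift ρ (𝟙 F - e₀) (hom_eq_zero m.quot.2.1.1 m.quot.2.2.1 _ fun η hη v => by
    by_cases hηY : η ∈ Y
    · rw [st_comp, st_sub, st_id, (he₀ η hη v).1 hηY, sub_self, map_zero]
    · exact stalk_eq_zero m.quot hηY _)
  refine ⟨ρ ≫ eG ≫ σ + l ≫ eK ≫ kernel.ι ρ, fun η hη v => ?_⟩
  rw [st_add, st_comp, st_comp, st_comp, st_comp eK]
  by_cases hηY : η ∈ Y
  · rw [hKY η hη hηY (st l η v), map_zero, map_zero, add_zero]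
    have h1 : ∀ c : (DerSch.stalkFunctor X η).obj F, st σ η (st ρ η c) = c := fun c => by
      rw [← st_comp, hσ]; exact (he₀ η hη c).1 hηY
    have h2 : st m.a η (st eG η (st ρ η v)) = st e' η (st m.a η (st ρ η v)) := by
      rw [← st_comp eG, heG, st_comp]
    refine ⟨fun hZ => ?_, fun hZ => ?_⟩
    · rw [(he' η hη _).1 hZ] at h2
      rw [m.inj η h2, h1]
    · rw [(he' η hη _).2 hZ] at h2
      rw [m.inj η (h2.trans (map_zero _).symm), map_zero]
  · rw [stalk_eq_zero m.quot hηY (st ρ η v), map_zero, map_zero, zero_add]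
    obtain ⟨x, hx⟩ := st_surjective b' η (st l η v)
    have hl : st (kernel.ι ρ) η (st l η v) = v := by
      rw [← st_comp, kernel.lift_ι, st_sub, st_id, (he₀ η hη v).2 hηY, sub_zero]
    have h2 : st eK η (st l η v) = st b' η (st e' η x) := by rw [← hx, ← st_comp, heK, st_comp]
    refine ⟨fun hZ => ?_, fun hZ => ?_⟩
    · rw [h2, (he' η hη x).1 hZ, hx, hl]
    · rw [h2, (he' η hη x).2 hZ, map_zero, map_zero]

end Groth.Agent.TFQuot

end
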