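import Groth.Agent.TFQuot.GenTower
import Groth.Agent.Lib.CurveBundle
import Groth.Agent.S18846
import Groth.Agent.S18847
import Groth.Agent.S18853
import Groth.Agent.S18854
import Groth.Agent.S18855

/-!
# Langton's iteration for torsion-free rank one sheaves on a degenerating curve
-/

set_option autoImplicit false
set_option linter.style.haveILetI false
set_option linter.unusedSectionVars false
set_option backward.isDefEq.respectTransparency false
set_option backward.isDefEq.respectTransparency.types false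
set_option maxHeartbeats 1000000

universe u

open CategoryTheory CategoryTheory.Limits AlgebraicGeometry TopologicalSpace

noncomputable section

namespace Groth.Agent.TFQuot

open Groth.Agent

theorem eventually_const {α : Type*} [PartialOrder α] {S : Set α} (hS : S.Finite) (s : ℕ → α) (hs : ∀ n, s n ∈ S)
    (hanti : ∀ n, s (n + 1) ≤ s n) : ∃ n₀, ∀ n, n₀ ≤ n → s n = s n₀ := by
  have hfin : (Set.range s).Finite := hS.subset (Set.range_subset_iff.2 hs)
  obtain ⟨a, ⟨n₀, rfl⟩, ha⟩ := hfin.exists_minimalFor id _ (Set.range_nonempty s)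
  exact ⟨n₀, fun n hn => le_antisymm (antitone_nat_of_succ_le hanti hn) (ha ⟨n, rfl⟩ (antitone_nat_of_succ_le hanti hn))⟩

theorem eventually_const_nat (s : ℕ → ℕ) (hanti : ∀ n, s (n + 1) ≤ s n) : ∃ n₀, ∀ n, n₀ ≤ n → s n = s n₀ :=
  eventually_const (Set.finite_Iic (s 0)) s (fun n => antitone_nat_of_succ_le hanti (Nat.zero_le n)) hanti

/-- Twisted Euler characteristics of a decomposition add up. -/
theorem bq_add_of_iso (k : Type u) [Field k] {X : Scheme.{u}} [X.Over (Spec (CommRingCat.of k))]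
    [IsProper (X ↘ Spec (CommRingCat.of k))] [AlgebraicGeometry.IsReduced X] {E : X.Modules} {r : ℕ}
    (hE : FlatMod.IsFinLocFreeOfRank r E) {M G G' : X.Modules} {Y Y' : Set X} {π : M ⟶ G} {π' : M ⟶ G'}
    (hM : TFOne.IsTF1 X M) (h : TFOne.IsQuotOn X M Y G π) (h' : TFOne.IsQuotOn X M Y' G' π')
    [IsIso (biprod.lift π π')] : bq k E M Set.univ = bq k E M Y + bq k E M Y' := by
  haveI := CurveCohLib.isNoetherian_of_proper (k := k) (X := X)
  have hEf : FlatMod.IsFinLocFree E := isFinLocFree_of_rank hE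
  have hS := (ShortComplex.Splitting.ofHasBinaryBiproduct G G').shortExact
  have hB : Coh.IsCoh (G ⊞ G') := SheafHomX.isCoh_of_iso (asIso (biprod.lift π π')) hM.1
  rw [bq_eq k hM (quot_id hM), bq_eq k hM h, bq_eq k hM h',
    euler_tE_congr k (Iso.refl E) (asIso (biprod.lift π π'))]
  exact CurveBundle.euler_add' k _ _ _ (CurveTensor.shortExact_tensor hEf biprod.inl biprod.snd biprod.inl_snd hS)
    (CurveTensor.isCoh_tensor hEf h.2.1) (CurveTensor.isCoh_tensor hEf hB) (CurveTensor.isCoh_tensor hEf h'.2.1)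

variable {R : Type u} [CommRing R] [IsDomain R] [IsDiscreteValuationRing R] {X : Scheme.{u}}
  {f : X ⟶ Spec (CommRingCat.of R)} [Flat f] [IsProper f] {Xs : Scheme.{u}}
  [Xs.Over (Spec (CommRingCat.of (IsLocalRing.ResidueField R)))] {i : Xs ⟶ X} {Xg : Scheme.{u}}
  [Xg.Over (Spec (CommRingCat.of (FractionRing R)))] {j : Xg ⟶ X}

variable (i) in
/-- A decomposing tower from its quotients. -/
theorem nonempty_dtower [AlgebraicGeometry.IsReduced Xs] [AlgebraicGeometry.IsNoetherian Xs] (In : ℕ → X.Modules)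
    (hTF : ∀ n, TFOne.IsTF1 Xs ((Scheme.Modules.pullback i).obj (In n))) {Y : Set Xs} (G : ℕ → Xs.Modules)
    (π : ∀ n : ℕ, (Scheme.Modules.pullback i).obj (In n) ⟶ G n)
    (hG : ∀ n : ℕ, TFOne.IsQuotOn Xs ((Scheme.Modules.pullback i).obj (In n)) Y (G n) (π n))
    (hstep : ∀ n : ℕ, In (n + 1) = kernel (redQuot i (π n)))
    (hdec : ∀ (n : ℕ) (G' : Xs.Modules) (π' : (Scheme.Modules.pullback i).obj (In n) ⟶ G'),
      TFOne.IsQuotOn Xs ((Scheme.Modules.pullback i).obj (In n)) (otherComps Y) G' π' →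
        IsIso (biprod.lift (π n) π')) : Nonempty (DTower i (In 0) Y) := by
  choose G' π' hG' using fun n => exists_quotOn (hTF n) (isUnion_comps (X := Xs)) (isClosed_comps (X := Xs))
    (Z := otherComps Y)
  exact ⟨⟨In, rfl, G, G', π, π', hG, hG', hstep, fun n => hdec n _ _ (hG' n)⟩⟩

variable [AlgebraicGeometry.IsReduced Xs]
  (hsq : IsPullback i (Xs ↘ Spec (CommRingCat.of (IsLocalRing.ResidueField R))) f
    (Spec.map (CommRingCat.ofHom (IsLocalRing.residue R))))
  (hpure : ∀ C ∈ irreducibleComponents (Xs : Type u), topologicalKrullDim C = 1)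
  (hgi : ∀ (C : Set Xs) (hC : C ∈ irreducibleComponents (Xs : Type u)), GeometricallyIntegral
    (VecSt.subschι Xs C (isClosed_of_mem_irreducibleComponents C hC) ≫
      (Xs ↘ Spec (CommRingCat.of (IsLocalRing.ResidueField R)))))
  (hgen : IsPullback j (Xg ↘ Spec (CommRingCat.of (FractionRing R))) f
    (Spec.map (CommRingCat.ofHom (algebraMap R (FractionRing R)))))
  {I₀ E : X.Modules} {r : ℕ} (hr : 0 < r) (hE : FlatMod.IsFinLocFreeOfRank r E) {d : ℤ}
  (hEd : Curv2.deg (IsLocalRing.ResidueField R) Xs ((Scheme.Modules.pullback i).obj E) r = -(r : ℤ) * d)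

variable (f i j I₀) (d) in
/-- An extension with Euler characteristic `d`. -/
structure Adm (I : X.Modules) : Prop where
  good : Good f i j I₀ I
  euler : Curv2.euler (IsLocalRing.ResidueField R) Xs ((Scheme.Modules.pullback i).obj I) = d

variable (R i E) in
/-- The function `β` of the special fibre. -/
abbrev bs (I : X.Modules) (T : Set Xs) : ℤ :=
  bq (IsLocalRing.ResidueField R) ((Scheme.Modules.pullback i).obj E) ((Scheme.Modules.pullback i).obj I) T

variable (R i E) in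
/-- Semistability of the special fibre. -/
def Sem (I : X.Modules) : Prop := ∀ T : Set Xs, IsClosed T → IsUnion T → 0 ≤ bs R i E I T

include hsq hgen in
theorem Adm.modif {I : X.Modules} (h : Adm f i j I₀ d I) {Y : Set Xs} {G : Xs.Modules}
    {π : (Scheme.Modules.pullback i).obj I ⟶ G} (hG : TFOne.IsQuotOn Xs ((Scheme.Modules.pullback i).obj I) Y G π) :
    Adm f i j I₀ d (kernel (redQuot i π)) :=
  ⟨h.good.modif hsq hgen hG, (h.good.euler_modif hsq hG).trans h.euler⟩

include hsq hpure hE hEd in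
theorem Adm.bs_univ {I : X.Modules} (h : Adm f i j I₀ d I) : bs R i E I Set.univ = 0 := by
  obtain ⟨hp, hn, hdim, hEs⟩ := modif_setup hsq hpure hE
  exact bq_univ _ hdim hEs h.good.tf h.euler hEd

include hsq hpure hE in
theorem Adm.bs_empty {I : X.Modules} (h : Adm f i j I₀ d I) : bs R i E I ∅ = 0 := by
  obtain ⟨hp, hn, hdim, hEs⟩ := modif_setup hsq hpure hE
  exact bq_empty _ hdim hEs h.good.tf

include hsq in
theorem Adm.exists_quot {I : X.Modules} (h : Adm f i j I₀ d I) {Y : Set Xs} (hY : IsClosed Y) (uY : IsUnion Y) :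
    ∃ (G : Xs.Modules) (π : (Scheme.Modules.pullback i).obj I ⟶ G),
      TFOne.IsQuotOn Xs ((Scheme.Modules.pullback i).obj I) Y G π := by
  haveI : IsProper (Xs ↘ Spec (CommRingCat.of (IsLocalRing.ResidueField R))) :=
    MorphismProperty.of_isPullback hsq inferInstance
  haveI := CurveCohLib.isNoetherian_of_proper (k := IsLocalRing.ResidueField R) (X := Xs)
  exact exists_quotOn h.good.tf uY hY

include hsq hpure hgi hr hE hEd in
theorem Adm.modif_ge {I : X.Modules} (h : Adm f i j I₀ d I) {Y : Set Xs} (hY : IsClosed Y) (uY : IsUnion Y)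
    (nY : Y.Nonempty) {G : Xs.Modules} {π : (Scheme.Modules.pullback i).obj I ⟶ G}
    (hG : TFOne.IsQuotOn Xs ((Scheme.Modules.pullback i).obj I) Y G π)
    (h' : Adm f i j I₀ d (kernel (redQuot i π))) {Z : Set Xs} (hZ : IsClosed Z) (uZ : IsUnion Z) (nZ : Z.Nonempty) :
    bs R i E I (⋃₀ {C | C ∈ irreducibleComponents (Xs : Type u) ∧ C ⊆ Y ∩ Z}) + bs R i E I (Y ∪ Z) ≤
      bs R i E (kernel (redQuot i π)) Z + bs R i E I Y := by
  obtain ⟨hp, hn, hdim, hEs⟩ := modif_setup hsq hpure hE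
  obtain ⟨GZ, πZ, hGZ⟩ := h'.exists_quot hsq hZ uZ
  obtain ⟨GW, πW, hGW⟩ := h.exists_quot hsq (isClosed_comps (X := Xs)) (isUnion_comps (X := Xs))
    (Y := ⋃₀ {C | C ∈ irreducibleComponents (Xs : Type u) ∧ C ⊆ Y ∩ Z})
  obtain ⟨GU, πU, hGU⟩ := h.exists_quot hsq (hY.union hZ) (uY.union uZ)
  have := Groth.Agent.S18846.result R X f Xs i hsq hpure hgi I h.good.coh h.good.flat h.good.tf E r hr hE d h.euler hEd
    Y hY (isSubcurve_of_isUnion uY hY nY) G π hG _ rfl Z _ hZ (isSubcurve_of_isUnion uZ hZ nZ) rfl isClosed_comps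
    GZ πZ hGZ GW GU πW πU hGW hGU
  rw [rBeta_eq_bq _ hdim hEs h.good.tf isClosed_comps isUnion_comps hGW,
    rBeta_eq_bq _ hdim hEs h.good.tf (hY.union hZ) (uY.union uZ) hGU,
    rBeta_eq_bq _ hdim hEs h'.good.tf hZ uZ hGZ, rBeta_eq_bq _ hdim hEs h.good.tf hY uY hG] at this
  exact this

include hsq hpure hgi hr hE hEd hgen in
/-- Semistability survives modification at a subcurve of degree zero. -/
theorem Sem.modif {I : X.Modules} (hs : Sem R i E I) (h : Adm f i j I₀ d I) {Y : Set Xs} (hY : IsClosed Y)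
    (uY : IsUnion Y) (nY : Y.Nonempty) (h0 : bs R i E I Y = 0) {G : Xs.Modules}
    {π : (Scheme.Modules.pullback i).obj I ⟶ G} (hG : TFOne.IsQuotOn Xs ((Scheme.Modules.pullback i).obj I) Y G π) :
    Sem R i E (kernel (redQuot i π)) := fun Z hZ uZ => by
  obtain ⟨hp, hn, hdim, hEs⟩ := modif_setup hsq hpure hE
  have h' := h.modif hsq hgen hG
  rcases Z.eq_empty_or_nonempty with rfl | nZ
  · exact (h'.bs_empty hsq hpure hE).ge
  have := h.modif_ge hsq hpure hgi hr hE hEd hY uY nY hG h' hZ uZ nZ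
  have := hs _ (hY.union hZ) (uY.union uZ)
  have := hs (⋃₀ {C | C ∈ irreducibleComponents (Xs : Type u) ∧ C ⊆ Y ∩ Z}) isClosed_comps isUnion_comps
  omega

variable (R i E) in
/-- The largest subcurve of least degree. -/
structure IsTop (I : X.Modules) (Y : Set Xs) : Prop where
  closed : IsClosed Y
  union : IsUnion Y
  neg : bs R i E I Y < 0
  le : ∀ T : Set Xs, IsClosed T → IsUnion T → bs R i E I Y ≤ bs R i E I T
  max : ∀ T : Set Xs, IsClosed T → IsUnion T → bs R i E I T = bs R i E I Y → T ⊆ Y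

include hsq hpure hE in
theorem exists_isTop {I : X.Modules} (h : Adm f i j I₀ d I) (hns : ¬ Sem R i E I) : ∃ Y, IsTop R i E I Y := by
  obtain ⟨hp, hn, hdim, hEs⟩ := modif_setup hsq hpure hE
  have hS : {T : Set Xs | IsClosed T ∧ IsUnion T}.Finite := finite_unions (IsLocalRing.ResidueField R)
  simp only [Sem, not_forall, not_le] at hns
  obtain ⟨T₀, hT₀, uT₀, hneg⟩ := hns
  obtain ⟨A, hA, hAmin⟩ := hS.exists_minimalFor (fun T => bs R i E I T) _ ⟨T₀, hT₀, uT₀⟩
  have hle : ∀ T : Set Xs, IsClosed T → IsUnion T → bs R i E I A ≤ bs R i E I T := fun T hT uT => by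
    by_contra hlt
    exact hlt (hAmin ⟨hT, uT⟩ (le_of_not_ge hlt))
  obtain ⟨Y, ⟨⟨hY, uY⟩, hYA⟩, hmax⟩ :=
    (hS.subset (t := {T | (IsClosed T ∧ IsUnion T) ∧ bs R i E I T = bs R i E I A}) fun T hT => hT.1).exists_maximalFor
      id _ ⟨A, hA, rfl⟩
  have hneg' : bs R i E I Y < 0 := by have := hle T₀ hT₀ uT₀; omega
  refine ⟨Y, hY, uY, hneg', fun T hT uT => hYA ▸ hle T hT uT, fun T hT uT hTe => ?_⟩
  rcases T.eq_empty_or_nonempty with rfl | nT
  · exact Set.empty_subset _
  have nY : Y.Nonempty := Set.nonempty_iff_ne_empty.2 fun he => by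
    rw [he, h.bs_empty hsq hpure hE] at hneg'; omega
  have hsub := bq_submod (IsLocalRing.ResidueField R) hpure hEs h.good.tf hY hT uY uT nY nT
  have h1 := hle _ (hY.union hT) (uY.union uT)
  have h2 := hle (⋃₀ {C | C ∈ irreducibleComponents (Xs : Type u) ∧ C ⊆ Y ∩ T}) isClosed_comps isUnion_comps
  exact Set.union_subset_iff.1 (hmax (j := Y ∪ T) ⟨⟨hY.union hT, uY.union uT⟩, by simp only [bs] at *; omega⟩
    Set.subset_union_left) |>.2

theorem IsTop.nonempty {I : X.Modules} (h : Adm f i j I₀ d I) {Y : Set Xs} (hY : IsTop R i E I Y)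
    (h0 : bs R i E I ∅ = 0) : Y.Nonempty := Set.nonempty_iff_ne_empty.2 fun he => by
  have := hY.neg
  rw [he, h0] at this
  omega

section Generic

variable {c : Cpl f i} (P : GPt j c)
  (hMY : TFOne.IsTF1 P.Y ((Scheme.Modules.pullback P.jY).obj ((Scheme.Modules.pullback j).obj I₀)))

/-- The function `β` of the geometric generic fibre. -/
def bgen (E I₀ : X.Modules) (Z : Set P.Y) : ℤ :=
  letI : P.Y.Over (Spec (CommRingCat.of P.Ω)) := ⟨P.qY⟩
  bq P.Ω ((Scheme.Modules.pullback P.jY).obj ((Scheme.Modules.pullback j).obj E))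
    ((Scheme.Modules.pullback P.jY).obj ((Scheme.Modules.pullback j).obj I₀)) Z

include hsq hgen hpure hgi hr hE hEd hMY in
/-- Semistable reduction. -/
theorem exists_sem (h₀ : Adm f i j I₀ d I₀) (hnn : ∀ Z, IsClosed Z → IsUnion Z → 0 ≤ bgen P E I₀ Z) :
    ∃ I, Adm f i j I₀ d I ∧ Sem R i E I := by
  obtain ⟨hp, hn, hdim, hEs⟩ := modif_setup hsq hpure hE
  by_contra hcon
  push Not at hcon
  choose top htop using fun (J : {I // Adm f i j I₀ d I}) => exists_isTop hsq hpure hE J.2 (hcon J.1 J.2)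
  choose Gq πq hq using fun (J : {I // Adm f i j I₀ d I}) => J.2.exists_quot hsq (htop J).closed (htop J).union
  let s : ℕ → {I // Adm f i j I₀ d I} := fun n =>
    Nat.rec ⟨I₀, h₀⟩ (fun _ J => ⟨_, J.2.modif hsq hgen (hq J)⟩) n
  have hs : ∀ n, (s (n + 1)).1 = kernel (redQuot i (πq (s n))) := fun n => rfl
  have nY : ∀ J, (top J).Nonempty := fun J => (htop J).nonempty J.2 (J.2.bs_empty hsq hpure hE)
  have step : ∀ n, bs R i E (s n).1 (top (s n)) ≤ bs R i E (s (n + 1)).1 (top (s (n + 1))) ∧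
      (bs R i E (s (n + 1)).1 (top (s (n + 1))) = bs R i E (s n).1 (top (s n)) → top (s (n + 1)) ⊆ top (s n)) := by
    intro n
    obtain ⟨GZ, πZ, hGZ⟩ := (s (n + 1)).2.exists_quot hsq (htop (s (n + 1))).closed (htop (s (n + 1))).union
    have hJ := (s n).2
    have hres := Groth.Agent.S18847.result R X f Xs i hsq hpure hgi (s n).1 hJ.good.coh hJ.good.flat hJ.good.tf E r hr
      hE d hJ.euler hEd (top (s n)) (htop _).closed (isSubcurve_of_isUnion (htop _).union (htop _).closed (nY _)) _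
      (πq (s n)) (hq (s n)) _ (hs n)
      (fun T hT hTs G π hG => by
        rw [rBeta_eq_bq _ hdim hEs hJ.good.tf (htop _).closed (htop _).union (hq (s n)),
          rBeta_eq_bq _ hdim hEs hJ.good.tf hT (isUnion_of_isSubcurve hTs) hG]
        exact (htop _).le T hT (isUnion_of_isSubcurve hTs))
      (fun T hT hTs G π hG hEq => by
        rw [rBeta_eq_bq _ hdim hEs hJ.good.tf (htop _).closed (htop _).union (hq (s n)),
          rBeta_eq_bq _ hdim hEs hJ.good.tf hT (isUnion_of_isSubcurve hTs) hG] at hEq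
        exact (htop _).max T hT (isUnion_of_isSubcurve hTs) hEq)
      (top (s (n + 1))) (htop _).closed (isSubcurve_of_isUnion (htop _).union (htop _).closed (nY _)) GZ πZ hGZ
    rw [rBeta_eq_bq _ hdim hEs hJ.good.tf (htop _).closed (htop _).union (hq (s n)),
      rBeta_eq_bq _ hdim hEs (s (n + 1)).2.good.tf (htop _).closed (htop _).union hGZ] at hres
    exact hres
  obtain ⟨n₀, hn₀⟩ := eventually_const_nat (fun n => (-bs R i E (s n).1 (top (s n))).toNat) fun n => by
    have := (step n).1; omega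
  have hm : ∀ n, n₀ ≤ n → bs R i E (s n).1 (top (s n)) = bs R i E (s n₀).1 (top (s n₀)) := fun n hn => by
    have := hn₀ n hn
    have := (htop (s n)).neg
    have := (htop (s n₀)).neg
    omega
  obtain ⟨n₁, hn₁⟩ := eventually_const (finite_unions (IsLocalRing.ResidueField R)) (fun n => top (s (n₀ + n)))
    (fun n => ⟨(htop _).closed, (htop _).union⟩) fun n => (step (n₀ + n)).2
      ((hm (n₀ + n + 1) (by omega)).trans (hm (n₀ + n) (by omega)).symm)
  let m := n₀ + n₁ + 1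
  have hY : ∀ n, top (s (m + n)) = top (s (n₀ + n₁)) := fun n => by
    have h := hn₁ (n₁ + 1 + n) (by omega)
    rw [show m + n = n₀ + (n₁ + 1 + n) by omega]
    exact h
  let Y := top (s (n₀ + n₁))
  have hYc : IsClosed Y := (htop _).closed
  have uY : IsUnion Y := (htop _).union
  have hYne : Y ≠ Set.univ := fun he => by
    have := (htop (s (n₀ + n₁))).neg
    rw [show top (s (n₀ + n₁)) = Set.univ from he, (s (n₀ + n₁)).2.bs_univ hsq hpure hE hEd] at this
    omega
  have hdec : ∀ n, ∀ (G' : Xs.Modules) (π' : (Scheme.Modules.pullback i).obj (s (m + n)).1 ⟶ G'),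
      TFOne.IsQuotOn Xs ((Scheme.Modules.pullback i).obj (s (m + n)).1) (otherComps Y) G' π' →
        IsIso (biprod.lift (πq (s (m + n))) π') := fun n G' π' hG' => by
    obtain ⟨k, hk⟩ : ∃ k, m + n = k + 1 := ⟨n₀ + n₁ + n, by omega⟩
    revert π'
    rw [hk]
    intro π' hG'
    have hkY : top (s k) = Y := by
      have h := hn₁ (n₁ + n) (by omega)
      rw [show k = n₀ + (n₁ + n) by omega]
      exact h
    have hk1 : top (s (k + 1)) = Y := hk ▸ hY n
    have hJ := (s k).2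
    have hq1 : TFOne.IsQuotOn Xs ((Scheme.Modules.pullback i).obj (s (k + 1)).1) (top (s k)) _ (πq (s (k + 1))) :=
      by rw [hkY, ← hk1]; exact hq _
    refine (Groth.Agent.S18854.result R X f Xs i hsq hpure hgi (s k).1 hJ.good.coh hJ.good.flat hJ.good.tf E r hr
      hE d hJ.euler hEd (top (s k)) (htop _).closed (isSubcurve_of_isUnion (htop _).union (htop _).closed (nY _)) _
      (πq (s k)) (hq (s k)) _ (hs k) (hkY ▸ hYne)
      (fun T hT hTs G π hG => by
        rw [rBeta_eq_bq _ hdim hEs hJ.good.tf (htop _).closed (htop _).union (hq (s k)),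
          rBeta_eq_bq _ hdim hEs hJ.good.tf hT (isUnion_of_isSubcurve hTs) hG]
        exact (htop _).le T hT (isUnion_of_isSubcurve hTs))
      (fun T hT hTs G π hG hEq => by
        rw [rBeta_eq_bq _ hdim hEs hJ.good.tf (htop _).closed (htop _).union (hq (s k)),
          rBeta_eq_bq _ hdim hEs hJ.good.tf hT (isUnion_of_isSubcurve hTs) hG] at hEq
        exact (htop _).max T hT (isUnion_of_isSubcurve hTs) hEq)
      (otherComps Y) (by rw [hkY]; rfl) isClosed_comps _ _ (πq (s (k + 1))) π' hq1 hG').1 ?_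
    rw [rBeta_eq_bq _ hdim hEs (s (k + 1)).2.good.tf (htop _).closed (htop _).union hq1,
      rBeta_eq_bq _ hdim hEs hJ.good.tf (htop _).closed (htop _).union (hq (s k))]
    have h1 := hm (k + 1) (by omega)
    have h2 := hm k (by omega)
    rw [hk1] at h1
    rw [hkY] at h2 ⊢
    exact h1.trans h2.symm
  obtain ⟨T⟩ := nonempty_dtower i (fun n => (s (m + n)).1) (fun n => (s (m + n)).2.good.tf) (fun n => Gq (s (m + n)))
    (fun n => πq (s (m + n))) (fun n => by have h := hq (s (m + n)); rw [hY n] at h; exact h) (fun n => rfl) hdec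
  obtain ⟨Z, hZ, uZ, hle, -, -⟩ := exists_generic_union c P hsq hpure hgi hE hMY (s (m + 0)).2.good hYc T
  have h1 := hnn Z hZ uZ
  have h2 := (htop (s (m + 0))).neg
  rw [hY 0] at h2
  simp only [bgen, bs, Y] at *
  omega

variable (R i E) in
/-- The least subcurve of degree zero through a component. -/
structure IsBot (η₀ : Xs) (I : X.Modules) (Y : Set Xs) : Prop where
  closed : IsClosed Y
  union : IsUnion Y
  mem : η₀ ∈ Y
  zero : bs R i E I Y = 0
  min : ∀ T : Set Xs, IsClosed T → IsUnion T → η₀ ∈ T → bs R i E I T = 0 → Y ⊆ T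

include hsq hpure hE hEd in
theorem exists_isBot {η₀ : Xs} (hη₀ : η₀ ∈ genericPoints Xs) {I : X.Modules} (h : Adm f i j I₀ d I)
    (hs : Sem R i E I) : ∃ Y, IsBot R i E η₀ I Y := by
  obtain ⟨hp, hn, hdim, hEs⟩ := modif_setup hsq hpure hE
  obtain ⟨Y, ⟨⟨hY, uY⟩, hm, h0⟩, hmin⟩ := ((finite_unions (IsLocalRing.ResidueField R) (X := Xs)).subset
    (t := {T | (IsClosed T ∧ IsUnion T) ∧ η₀ ∈ T ∧ bs R i E I T = 0}) fun T hT => hT.1).exists_minimalFor id _
      ⟨Set.univ, ⟨isClosed_univ, isUnion_univ⟩, trivial, h.bs_univ hsq hpure hE hEd⟩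
  refine ⟨Y, hY, uY, hm, h0, fun T hT uT hmT h0T => ?_⟩
  have hsub := bq_submod (IsLocalRing.ResidueField R) hpure hEs h.good.tf hY hT uY uT ⟨_, hm⟩ ⟨_, hmT⟩
  have h1 := hs _ (hY.union hT) (uY.union uT)
  let W := ⋃₀ {C | C ∈ irreducibleComponents (Xs : Type u) ∧ C ⊆ Y ∩ T}
  have h2 := hs W isClosed_comps isUnion_comps
  have hmW : η₀ ∈ W := Set.mem_sUnion.2 ⟨closure {η₀}, ⟨hη₀, closure_minimal
    (Set.singleton_subset_iff.2 ⟨hm, hmT⟩) (hY.inter hT)⟩, subset_closure rfl⟩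
  have hWY : W ⊆ Y ∩ T := Set.sUnion_subset fun C hC => hC.2
  have hW0 : bs R i E I W = 0 := by simp only [bs, W] at *; omega
  exact (hmin (j := W) ⟨⟨isClosed_comps, isUnion_comps⟩, hmW, hW0⟩ fun z hz => (hWY hz).1).trans
    fun z hz => (hWY hz).2

include hsq hgen hpure hgi hr hE hEd hMY in
/-- Quasistable reduction at a point. -/
theorem exists_quasi {x₀ : Xs} {η₀ : Xs} (hη₀ : η₀ ∈ genericPoints Xs) (hη₀x : η₀ ⤳ x₀)
    (huniq : ∀ η ∈ genericPoints Xs, η ⤳ x₀ → η = η₀) {y : P.Y} (hy : P.g y ⤳ c.i' x₀)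
    (hpos : ∀ Z, IsClosed Z → IsUnion Z → y ∈ Z → Z ≠ Set.univ → 0 < bgen P E I₀ Z)
    {I₁ : X.Modules} (h₁ : Adm f i j I₀ d I₁) (hs₁ : Sem R i E I₁) :
    ∃ I, Adm f i j I₀ d I ∧ Sem R i E I ∧
      ∀ T : Set Xs, IsClosed T → IsUnion T → x₀ ∈ T → T ≠ Set.univ → 0 < bs R i E I T := by
  obtain ⟨hp, hn, hdim, hEs⟩ := modif_setup hsq hpure hE
  have hmemx : ∀ T : Set Xs, IsUnion T → x₀ ∈ T → η₀ ∈ T := fun T uT hx => by
    obtain ⟨η, hη, hηx, hηT⟩ := uT x₀ hx
    exact huniq η hη hηx ▸ hηT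
  by_contra hcon
  push Not at hcon
  choose bot hbot using fun (J : {I // Adm f i j I₀ d I ∧ Sem R i E I}) => exists_isBot hsq hpure hE hEd hη₀ J.2.1 J.2.2
  have hne : ∀ J, bot J ≠ Set.univ := fun J he => by
    obtain ⟨T, hT, uT, hxT, hTne, hle⟩ := hcon J.1 J.2.1 J.2.2
    exact hTne (Set.univ_subset_iff.1 (he ▸ (hbot J).min T hT uT (hmemx T uT hxT) (le_antisymm hle (J.2.2 T hT uT))))
  choose Gq πq hq using fun (J : {I // Adm f i j I₀ d I ∧ Sem R i E I}) =>
    J.2.1.exists_quot hsq (hbot J).closed (hbot J).union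
  let s : ℕ → {I // Adm f i j I₀ d I ∧ Sem R i E I} := fun n =>
    Nat.rec ⟨I₁, h₁, hs₁⟩ (fun _ J => ⟨_, J.2.1.modif hsq hgen (hq J),
      J.2.2.modif hsq hpure hgi hgen hr hE hEd J.2.1 (hbot J).closed (hbot J).union ⟨_, (hbot J).mem⟩ (hbot J).zero
        (hq J)⟩) n
  have hs : ∀ n, (s (n + 1)).1 = kernel (redQuot i (πq (s n))) := fun n => rfl
  have hsub : ∀ J, VecSt.IsSubcurve Xs (bot J) := fun J =>
    isSubcurve_of_isUnion (hbot J).union (hbot J).closed ⟨_, (hbot J).mem⟩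
  have hW : ∀ J, closure ({η₀} : Set Xs) ⊆ bot J := fun J =>
    closure_minimal (Set.singleton_subset_iff.2 (hbot J).mem) (hbot J).closed
  have hss : ∀ n, TFOne.IsSemistable Xs (IsLocalRing.ResidueField R) (Xs ↘ Spec (CommRingCat.of
      (IsLocalRing.ResidueField R))) ((Scheme.Modules.pullback i).obj (s n).1) ((Scheme.Modules.pullback i).obj E) r :=
    fun n => (isSemistable_iff_bq _ hdim hEs (s n).2.1.good.tf).2 fun T hT uT _ _ => (s n).2.2 T hT uT
  have hz : ∀ (J : {I // Adm f i j I₀ d I ∧ Sem R i E I}) (G : Xs.Modules)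
      (π : (Scheme.Modules.pullback i).obj J.1 ⟶ G), TFOne.IsQuotOn Xs ((Scheme.Modules.pullback i).obj J.1) (bot J) G π →
      TFOne.rBeta Xs (IsLocalRing.ResidueField R) (Xs ↘ Spec (CommRingCat.of (IsLocalRing.ResidueField R))) (bot J)
        (hbot J).closed ((Scheme.Modules.pullback i).obj E) r G = 0 := fun J G π hG => by
    rw [rBeta_eq_bq _ hdim hEs J.2.1.good.tf (hbot J).closed (hbot J).union hG]
    exact (hbot J).zero
  have hmin : ∀ (J : {I // Adm f i j I₀ d I ∧ Sem R i E I}) (T : Set Xs) (hT : IsClosed T), VecSt.IsSubcurve Xs T →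
      closure ({η₀} : Set Xs) ⊆ T → ∀ (G : Xs.Modules) (π : (Scheme.Modules.pullback i).obj J.1 ⟶ G),
      TFOne.IsQuotOn Xs ((Scheme.Modules.pullback i).obj J.1) T G π →
      TFOne.rBeta Xs (IsLocalRing.ResidueField R) (Xs ↘ Spec (CommRingCat.of (IsLocalRing.ResidueField R))) T hT
        ((Scheme.Modules.pullback i).obj E) r G = 0 → bot J ⊆ T := fun J T hT hTs hWT G π hG h0 => by
    rw [rBeta_eq_bq _ hdim hEs J.2.1.good.tf hT (isUnion_of_isSubcurve hTs) hG] at h0
    exact (hbot J).min T hT (isUnion_of_isSubcurve hTs) (hWT (subset_closure rfl)) h0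
  have step : ∀ n, bot (s n) ⊆ bot (s (n + 1)) := fun n =>
    Groth.Agent.S18853.result R X f Xs i hsq hpure hgi (s n).1 (s n).2.1.good.coh (s n).2.1.good.flat
      (s n).2.1.good.tf E r hr hE d (s n).2.1.euler hEd (hss n) (bot (s n)) (hbot _).closed (hsub _) _ (πq (s n))
      (hq (s n)) _ (hs n) (closure {η₀}) hη₀ (hW _) (hz _ _ _ (hq (s n))) (hmin (s n))
      (bot (s (n + 1))) (hbot _).closed (hsub _) (hW _) _ (πq (s (n + 1))) (hq (s (n + 1))) (hz _ _ _ (hq _))
      (hmin (s (n + 1)))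
  obtain ⟨n₁, hn₁⟩ := eventually_const (α := (Set Xs)ᵒᵈ) (finite_unions (IsLocalRing.ResidueField R))
    (fun n => bot (s n)) (fun n => ⟨(hbot _).closed, (hbot _).union⟩) step
  let m := n₁ + 1
  let Y := bot (s n₁)
  have hYc : IsClosed Y := (hbot _).closed
  have hY : ∀ n, n₁ ≤ n → bot (s n) = Y := hn₁
  have hdec : ∀ n, ∀ (G' : Xs.Modules) (π' : (Scheme.Modules.pullback i).obj (s (m + n)).1 ⟶ G'),
      TFOne.IsQuotOn Xs ((Scheme.Modules.pullback i).obj (s (m + n)).1) (otherComps Y) G' π' →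
        IsIso (biprod.lift (πq (s (m + n))) π') := fun n G' π' hG' => by
    obtain ⟨k, hk⟩ : ∃ k, m + n = k + 1 := ⟨n₁ + n, by omega⟩
    revert π'
    rw [hk]
    intro π' hG'
    have hkY : bot (s k) = Y := hY k (by omega)
    have hk1 : bot (s (k + 1)) = Y := hY (k + 1) (by omega)
    have hq1 : TFOne.IsQuotOn Xs ((Scheme.Modules.pullback i).obj (s (k + 1)).1) (bot (s k)) _ (πq (s (k + 1))) :=
      by rw [hkY, ← hk1]; exact hq _
    exact (Groth.Agent.S18855.result R X f Xs i hsq hpure hgi (s k).1 (s k).2.1.good.coh (s k).2.1.good.flat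
      (s k).2.1.good.tf E r hr hE d (s k).2.1.euler hEd (hss k) (bot (s k)) (hbot _).closed (hsub _) _ (πq (s k))
      (hq (s k)) _ (hs k) (hne _) (closure {η₀}) hη₀ (hW _) (hz _ _ _ (hq (s k))) (hmin (s k))
      (bot (s (k + 1))) (hbot _).closed (hsub _) (hW _) _ (πq (s (k + 1))) (hq (s (k + 1))) (hz _ _ _ (hq _))
      (hmin (s (k + 1))) (otherComps Y) (by rw [hkY]; rfl) isClosed_comps _ _ (πq (s (k + 1))) π' hq1 hG').1
      (hkY.trans hk1.symm)
  obtain ⟨T⟩ := nonempty_dtower i (fun n => (s (m + n)).1) (fun n => (s (m + n)).2.1.good.tf)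
    (fun n => Gq (s (m + n))) (fun n => πq (s (m + n)))
    (fun n => by have h := hq (s (m + n)); rw [hY (m + n) (by omega)] at h; exact h) (fun n => rfl) hdec
  obtain ⟨Z, hZ, uZ, hle, huniv, hin⟩ := exists_generic_union c P hsq hpure hgi hE hMY (s (m + 0)).2.1.good hYc T
  have hx₀ : x₀ ∈ Y := hη₀x.mem_closed hYc (hbot (s n₁)).mem
  have hyZ := hin x₀ hx₀ (fun η hη hηx => huniq η hη hηx ▸ (hbot (s n₁)).mem) y hy
  have hZne := huniv (by
    by_contra hall
    push Not at hall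
    exact hne (s n₁) (IsUnion.ext (hbot _).union (hbot _).closed isUnion_univ isClosed_univ fun η hη =>
      ⟨fun _ => trivial, fun _ => hall η hη⟩))
  have h1 := hpos Z hZ uZ hyZ hZne
  have h2 := (hbot (s (m + 0))).zero
  rw [hY (m + 0) (by omega)] at h2
  simp only [bgen, bs, Y] at *
  omega

include hsq hgen hgi hMY in
/-- Simple reduction, keeping a property stable under modifications at decompositions. -/
theorem exists_noDec (Q : X.Modules → Prop)
    (hQ : ∀ I, Adm f i j I₀ d I → Q I → ∀ Y, IsClosed Y → IsUnion Y → Y.Nonempty →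
      Dec ((Scheme.Modules.pullback i).obj I) Y → ∀ (G : Xs.Modules) (π : (Scheme.Modules.pullback i).obj I ⟶ G),
      TFOne.IsQuotOn Xs ((Scheme.Modules.pullback i).obj I) Y G π → Q (kernel (redQuot i π)))
    (hsimp : TFOne.IsSimple P.Y P.Ω P.qY ((Scheme.Modules.pullback P.jY).obj ((Scheme.Modules.pullback j).obj I₀)))
    {I₁ : X.Modules} (h₁ : Adm f i j I₀ d I₁) (hQ₁ : Q I₁) :
    ∃ I, Adm f i j I₀ d I ∧ Q I ∧
      ∀ Y : Set Xs, IsClosed Y → IsUnion Y → Y.Nonempty → Y ≠ Set.univ →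
        ¬ Dec ((Scheme.Modules.pullback i).obj I) Y := by
  haveI hp : IsProper (Xs ↘ Spec (CommRingCat.of (IsLocalRing.ResidueField R))) :=
    MorphismProperty.of_isPullback hsq inferInstance
  haveI := CurveCohLib.isNoetherian_of_proper (k := IsLocalRing.ResidueField R) (X := Xs)
  let D : X.Modules → Set (Set Xs) := fun I =>
    {Y | (IsClosed Y ∧ IsUnion Y) ∧ Dec ((Scheme.Modules.pullback i).obj I) Y}
  have hfin : ∀ I, (D I).Finite := fun I => (finite_unions (IsLocalRing.ResidueField R)).subset fun Y hY => hY.1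
  classical
  have hex : ∃ n I, (Adm f i j I₀ d I ∧ Q I) ∧ (D I).ncard = n := ⟨_, I₁, ⟨h₁, hQ₁⟩, rfl⟩
  obtain ⟨I, hI, hn⟩ := Nat.find_spec hex
  refine ⟨I, hI.1, hI.2, fun Y hY uY nY hne hdec => ?_⟩
  have key : ∀ {J : X.Modules}, Adm f i j I₀ d J ∧ Q J ∧ D J = D I → ∀ {W : Set Xs}, W ∈ D I → W.Nonempty →
      ∀ {G : Xs.Modules} {π : (Scheme.Modules.pullback i).obj J ⟶ G},
        TFOne.IsQuotOn Xs ((Scheme.Modules.pullback i).obj J) W G π →
        Adm f i j I₀ d (kernel (redQuot i π)) ∧ Q (kernel (redQuot i π)) ∧ D (kernel (redQuot i π)) = D I := by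
    rintro J ⟨hJ, hQJ, hDJ⟩ W hW nW G π hG
    have hWd : Dec ((Scheme.Modules.pullback i).obj J) W := (hDJ.symm ▸ hW : W ∈ D J).2
    have h' := hJ.modif hsq hgen hG
    have hQ' := hQ J hJ hQJ W hW.1.1 hW.1.2 nW hWd G π hG
    refine ⟨h', hQ', ?_⟩
    obtain ⟨mf⟩ := nonempty_modif f i hsq J hJ.good.coh hJ.good.flat hG
    refine Set.eq_of_subset_of_ncard_le (fun Z hZ => hDJ ▸ ⟨hZ.1, dec_of_modif mf hJ.good.tf hWd hZ.2⟩) ?_ (hfin I)
    rw [hn]
    exact Nat.find_min' hex ⟨_, ⟨h', hQ'⟩, rfl⟩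
  have tower : ∀ W ∈ D I, W.Nonempty → Nonempty (DTower i I W) := fun W hW nW => by
    choose G π hG using fun (J : {J // Adm f i j I₀ d J ∧ Q J ∧ D J = D I}) => J.2.1.exists_quot hsq hW.1.1 hW.1.2
    let s : ℕ → {J // Adm f i j I₀ d J ∧ Q J ∧ D J = D I} := fun n =>
      Nat.rec ⟨I, hI.1, hI.2, rfl⟩ (fun _ J => ⟨_, key J.2 hW nW (hG J)⟩) n
    exact nonempty_dtower i (fun n => (s n).1) (fun n => (s n).2.1.good.tf) (fun n => G (s n))
      (fun n => π (s n)) (fun n => hG (s n)) (fun n => rfl) fun n G' π' hG' =>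
        isIso_lift_of_dec (s n).2.1.good.tf ((s n).2.2.2.symm ▸ hW : W ∈ D (s n).1).2 (hG (s n)) hG' fun η hη => by
          rw [otherComps, mem_sUnion_components_iff (P := fun C => ¬ C ⊆ W) hη,
            generic_closure_subset_iff hW.1.1]
  have hiff : ∀ η ∈ genericPoints Xs, η ∈ otherComps Y ↔ η ∉ Y := fun η hη => by
    rw [otherComps, mem_sUnion_components_iff (P := fun C => ¬ C ⊆ Y) hη, generic_closure_subset_iff hY]
  have hne' : ∃ η ∈ genericPoints Xs, η ∉ Y := by
    by_contra hall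
    push Not at hall
    exact hne (IsUnion.ext uY hY isUnion_univ isClosed_univ fun η hη => ⟨fun _ => trivial, fun _ => hall η hη⟩)
  have hY' : otherComps Y ∈ D I := ⟨⟨isClosed_comps, isUnion_comps⟩, hdec.compl hiff⟩
  obtain ⟨η, hη, hηY⟩ := hne'
  obtain ⟨T⟩ := tower Y ⟨⟨hY, uY⟩, hdec⟩ nY
  obtain ⟨T'⟩ := tower _ hY' ⟨η, (hiff η hη).2 hηY⟩
  exact not_isSimple_generic c P hsq hgi hMY hI.1.good hY uY nY ⟨η, hη, hηY⟩ T T' hsimp

include hsq hpure hgi hr hE hEd hgen in
theorem Sem.modif_dec {I : X.Modules} (h : Adm f i j I₀ d I) (hs : Sem R i E I) (Y : Set Xs) (hY : IsClosed Y)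
    (uY : IsUnion Y) (nY : Y.Nonempty) (hd : Dec ((Scheme.Modules.pullback i).obj I) Y) (G : Xs.Modules)
    (π : (Scheme.Modules.pullback i).obj I ⟶ G) (hG : TFOne.IsQuotOn Xs ((Scheme.Modules.pullback i).obj I) Y G π) :
    Sem R i E (kernel (redQuot i π)) := by
  obtain ⟨hp, hn, hdim, hEs⟩ := modif_setup hsq hpure hE
  refine hs.modif hsq hpure hgi hgen hr hE hEd h hY uY nY ?_ hG
  obtain ⟨G', π', hG'⟩ := h.exists_quot hsq (isClosed_comps (X := Xs)) (isUnion_comps (X := Xs)) (Y := otherComps Y)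
  haveI := isIso_lift_of_dec h.good.tf hd hG hG' fun η hη => by
    rw [otherComps, mem_sUnion_components_iff (P := fun C => ¬ C ⊆ Y) hη, generic_closure_subset_iff hY]
  have h1 := bq_add_of_iso (IsLocalRing.ResidueField R) hEs h.good.tf hG hG'
  have h2 := h.bs_univ hsq hpure hE hEd
  have h3 := hs Y hY uY
  have h4 := hs (otherComps Y) isClosed_comps isUnion_comps
  simp only [bs] at *
  omega

end Generic

end Groth.Agent.TFQuot

end
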