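import Groth.Agent.TFQuot.Deg

/-!
# Elementary modifications of rank one sheaves on a curve
-/

set_option autoImplicit false
set_option linter.style.haveILetI false
set_option linter.unusedSectionVars false
set_option backward.isDefEq.respectTransparency false
set_option backward.isDefEq.respectTransparency.types false
set_option maxHeartbeats 1000000

universe u

open CategoryTheory CategoryTheory.Limits AlgebraicGeometry TopologicalSpace

noncomputable section

namespace Groth.Agent.TFQuot

open Groth.Agent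

variable {X : Scheme.{u}}

/-- An exact sequence `0 → G → F' → F → G → 0` attached to a torsion-free quotient `F → G` on `Y`. -/
structure Modif {F : X.Modules} (Y : Set X) {G : X.Modules} (π : F ⟶ G) (F' : X.Modules) where
  /-- the inclusion of the quotient -/
  a : G ⟶ F'
  /-- the map to the original sheaf -/
  b : F' ⟶ F
  quot : TFOne.IsQuotOn X F Y G π
  inj : ∀ x, Function.Injective (st a x)
  ab : a ≫ b = 0
  bπ : b ≫ π = 0
  ex₁ : ∀ x v, st b x v = 0 → ∃ w, st a x w = v
  ex₂ : ∀ x v, st π x v = 0 → ∃ w, st b x w = v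
  coh : Coh.IsCoh F'

variable {F F' G : X.Modules} {Y : Set X} {π : F ⟶ G} (m : Modif Y π F')

namespace Modif

theorem b_a (x : X) (w : (DerSch.stalkFunctor X x).obj G) : st m.b x (st m.a x w) = 0 := by
  rw [← st_comp, m.ab, st_zero]

theorem π_b (x : X) (w : (DerSch.stalkFunctor X x).obj F') : st π x (st m.b x w) = 0 := by
  rw [← st_comp, m.bπ, st_zero]

theorem mono_a : Mono m.a :=
  Exactness.mono_of_stalk _ fun x => (ModuleCat.mono_iff_injective _).2 (m.inj x)

variable [IsLocallyNoetherian X] [AlgebraicGeometry.IsReduced X] (hF : TFOne.IsRkOne X F)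

include hF in
theorem b_eq_zero {η : X} (hη : η ∈ genericPoints X) (hY : η ∈ Y) (v : (DerSch.stalkFunctor X η).obj F') :
    st m.b η v = 0 :=
  (bijective_quot hF m.quot hη hY).1 ((m.π_b η v).trans (map_zero _).symm)

include hF in
theorem a_bijective {η : X} (hη : η ∈ genericPoints X) (hY : η ∈ Y) : Function.Bijective (st m.a η) :=
  ⟨m.inj η, fun v => m.ex₁ η v (m.b_eq_zero hF hη hY v)⟩

theorem b_bijective {η : X} (hY : η ∉ Y) : Function.Bijective (st m.b η) := by
  refine ⟨(injective_iff_map_eq_zero _).2 fun v hv => ?_, fun v => m.ex₂ η v (stalk_eq_zero m.quot hY _)⟩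
  obtain ⟨w, rfl⟩ := m.ex₁ η v hv
  rw [stalk_eq_zero m.quot hY w, map_zero]

include m hF in
theorem isRkOne : TFOne.IsRkOne X F' := fun η hη => by
  obtain ⟨e⟩ := hF η hη
  by_cases hY : η ∈ Y
  · exact ⟨((LinearEquiv.ofBijective (st π η).hom (bijective_quot hF m.quot hη hY)).trans
      (LinearEquiv.ofBijective (st m.a η).hom (m.a_bijective hF hη hY))).symm.trans e⟩
  · exact ⟨(LinearEquiv.ofBijective (st m.b η).hom (m.b_bijective hY)).trans e⟩

include m in
theorem torsionFree (htF : TorSh.IsTorsionFree F) : TorSh.IsTorsionFree F' := fun x => by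
  constructor
  intro r hr
  rw [isSMulRegular_iff_right_eq_zero_of_smul]
  intro v hv
  haveI : Module.IsTorsionFree (X.presheaf.stalk x) ((DerSch.stalkFunctor X x).obj F) := htF x
  haveI : Module.IsTorsionFree (X.presheaf.stalk x) ((DerSch.stalkFunctor X x).obj G) := m.quot.2.2.1 x
  have h1 : r • st m.b x v = 0 := by
    rw [← map_smul]
    exact (congrArg (st m.b x) hv).trans (map_zero _)
  obtain ⟨w, rfl⟩ := m.ex₁ x v ((Module.IsTorsionFree.isSMulRegular hr).right_eq_zero_of_smul h1)
  have h2 : r • w = 0 := m.inj x (by rw [map_smul, map_zero]; exact hv)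
  rw [(Module.IsTorsionFree.isSMulRegular hr).right_eq_zero_of_smul h2, map_zero]

include m in
theorem isTF1 (hF1 : TFOne.IsTF1 X F) : TFOne.IsTF1 X F' :=
  ⟨m.coh, m.torsionFree hF1.2.1, m.isRkOne hF1.2.2⟩

end Modif

section Euler

variable (k : Type u) [Field k] [X.Over (Spec (CommRingCat.of k))] [IsProper (X ↘ Spec (CommRingCat.of k))]
  [AlgebraicGeometry.IsReduced X]

/-- Euler characteristic of an epimorphism. -/
theorem euler_epi {A B : X.Modules} (hA : Coh.IsCoh A) (hB : Coh.IsCoh B) (f : A ⟶ B) [Epi f] :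
    Curv2.euler k X A = Curv2.euler k X (kernel f) + Curv2.euler k X B := by
  haveI := CurveCohLib.isNoetherian_of_proper (k := k) (X := X)
  exact Euler.euler_add k (S := ShortComplex.mk (kernel.ι f) f (kernel.condition f))
    (.mk' (ShortComplex.exact_kernel f) inferInstance inferInstance) (QCoh.isCoh_kernel hA hB f) hA hB

theorem euler_of_isIso {A B : X.Modules} (f : A ⟶ B) [IsIso f] : Curv2.euler k X A = Curv2.euler k X B :=
  Euler.euler_congr k (asIso f)

variable {k}

include k m in
theorem euler_modif (hF : Coh.IsCoh F) : Curv2.euler k X F' = Curv2.euler k X F := by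
  haveI := CurveCohLib.isNoetherian_of_proper (k := k) (X := X)
  haveI := m.quot.1
  have hG := m.quot.2.1
  have hK := QCoh.isCoh_kernel hF hG π
  let b' : F' ⟶ kernel π := kernel.lift π m.b m.bπ
  have hb' : ∀ x v, st (kernel.ι π) x (st b' x v) = st m.b x v := fun x v => by rw [← st_comp, kernel.lift_ι]
  haveI : Epi b' := Exactness.epi_of_stalk _ fun x => (ModuleCat.epi_iff_surjective _).2 fun v => by
    obtain ⟨w, hw⟩ := m.ex₂ x (st (kernel.ι π) x v) (by rw [← st_comp, kernel.condition, st_zero])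
    exact ⟨w, st_injective (kernel.ι π) x ((hb' x w).trans hw)⟩
  have hab' : m.a ≫ b' = 0 := by
    rw [← cancel_mono (kernel.ι π), Category.assoc, kernel.lift_ι, m.ab, zero_comp]
  let a' : G ⟶ kernel b' := kernel.lift b' m.a hab'
  haveI : IsIso a' := by
    haveI := m.mono_a
    haveI : Mono a' := mono_of_mono_fac (kernel.lift_ι b' m.a hab')
    haveI : Epi a' := Exactness.epi_of_stalk _ fun x => (ModuleCat.epi_iff_surjective _).2 fun v => by
      obtain ⟨w, hw⟩ := m.ex₁ x (st (kernel.ι b') x v) (by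
        rw [← hb', ← st_comp (kernel.ι b'), kernel.condition, st_zero, map_zero])
      exact ⟨w, st_injective (kernel.ι b') x (by rw [← st_comp, kernel.lift_ι]; exact hw)⟩
    exact isIso_of_mono_of_epi a'
  rw [euler_epi k m.coh hK b', euler_epi k hF hG π, ← euler_of_isIso k a']
  ring

include m in
/-- The basic comparison: quotients of the modification against those of the original sheaf. -/
theorem euler_quot_modif (hF : TFOne.IsTF1 X F) (hdim : topologicalKrullDim X ≤ 1) {Z U W : Set X}
    {G1 GW GU : X.Modules} {π1 : F' ⟶ G1} {πW : F ⟶ GW} {πU : F ⟶ GU} (h1 : TFOne.IsQuotOn X F' Z G1 π1)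
    (hGW : TFOne.IsQuotOn X F W GW πW) (hGU : TFOne.IsQuotOn X F U GU πU) (hWY : W ⊆ Y) (hWZ : W ⊆ Z)
    (hYU : Y ⊆ U) (hZU : Z ⊆ U) (hW : ∀ η ∈ genericPoints X, η ∈ Y → η ∈ Z → η ∈ W)
    (hU : ∀ η ∈ genericPoints X, η ∈ U → η ∈ Y ∨ η ∈ Z) :
    Curv2.euler k X GW + Curv2.euler k X GU ≤ Curv2.euler k X G1 + Curv2.euler k X G ∧
      ((∀ η ∈ genericPoints X, η ∈ Y → η ∉ Z) ∨ (∀ η ∈ genericPoints X, η ∈ U) →
        Curv2.euler k X GW + Curv2.euler k X GU = Curv2.euler k X G1 + Curv2.euler k X G) := by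
  haveI := CurveCohLib.isNoetherian_of_proper (k := k) (X := X)
  have hrk := hF.2.2
  have hrk' := m.isRkOne hrk
  obtain ⟨rW, hrW⟩ := exists_factor hrk m.quot hGW hWY (𝟙 F)
  obtain ⟨rU, hrU⟩ := exists_factor hrk hGU m.quot hYU (𝟙 F)
  rw [Category.id_comp] at hrW hrU
  haveI := m.quot.1; haveI := hGW.1; haveI := hGU.1; haveI := h1.1
  haveI : Epi rW := by
    haveI : Epi (π ≫ rW) := by rw [hrW]; infer_instance
    exact epi_of_epi π rW
  haveI : Epi rU := by
    haveI : Epi (πU ≫ rU) := by rw [hrU]; infer_instance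
    exact epi_of_epi πU rU
  have hrW_inj : ∀ η ∈ genericPoints X, η ∈ W → Function.Injective (st rW η) := fun η hη hηW => by
    refine (injective_iff_map_eq_zero _).2 fun v hv => ?_
    obtain ⟨w, rfl⟩ := st_surjective π η v
    rw [← st_comp, hrW] at hv
    rw [(bijective_quot hrk hGW hη hηW).1 (hv.trans (map_zero _).symm), map_zero]
  have hrU_inj : ∀ η ∈ genericPoints X, η ∈ Y → Function.Injective (st rU η) := fun η hη hηY => by
    refine (injective_iff_map_eq_zero _).2 fun v hv => ?_
    obtain ⟨w, rfl⟩ := st_surjective πU η v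
    rw [← st_comp, hrU] at hv
    rw [(bijective_quot hrk m.quot hη hηY).1 (hv.trans (map_zero _).symm), map_zero]
  have hα0 : kernel.ι rW ≫ m.a ≫ π1 = 0 := hom_eq_zero h1.2.1.1 h1.2.2.1 _ fun η hη v => by
    rw [st_comp]
    by_cases hηZ : η ∈ Z
    · by_cases hηY : η ∈ Y
      · rw [hrW_inj η hη (hW η hη hηY hηZ) (show st rW η (st (kernel.ι rW) η v) = st rW η 0 by
          rw [← st_comp, kernel.condition, st_zero, map_zero]), map_zero]
      · rw [stalk_eq_zero m.quot hηY (st (kernel.ι rW) η v), map_zero]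
    · exact stalk_eq_zero h1 hηZ _
  let α : GW ⟶ G1 := Abelian.epiDesc rW (m.a ≫ π1) hα0
  have hα : ∀ x w, st α x (st rW x w) = st π1 x (st m.a x w) := fun x w => by
    rw [← st_comp, Abelian.comp_epiDesc, st_comp]
  haveI : Mono α := Preadditive.mono_of_kernel_zero <| hom_eq_zero hGW.2.1.1 hGW.2.2.1 _ fun η hη v => by
    have h0 : st α η (st (kernel.ι α) η v) = 0 := by rw [← st_comp, kernel.condition, st_zero]
    obtain ⟨w, hw⟩ := st_surjective rW η (st (kernel.ι α) η v)
    rw [← hw] at h0 ⊢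
    by_cases hηW : η ∈ W
    · have := (bijective_quot hrk' h1 hη (hWZ hηW)).1 (((hα η w).symm.trans h0).trans (map_zero _).symm)
      rw [m.inj η (this.trans (map_zero _).symm), map_zero]
    · exact stalk_eq_zero hGW hηW _
  have hκ0 : (m.b ≫ πU) ≫ rU = 0 := by rw [Category.assoc, hrU, m.bπ]
  let κ : F' ⟶ kernel rU := kernel.lift rU (m.b ≫ πU) hκ0
  have hκ : ∀ x v, st (kernel.ι rU) x (st κ x v) = st πU x (st m.b x v) := fun x v => by
    rw [← st_comp, kernel.lift_ι, st_comp]
  haveI : Epi κ := Exactness.epi_of_stalk _ fun x => (ModuleCat.epi_iff_surjective _).2 fun u => by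
    obtain ⟨v, hv⟩ := st_surjective πU x (st (kernel.ι rU) x u)
    obtain ⟨w, rfl⟩ := m.ex₂ x v (by rw [← hrU, st_comp, hv, ← st_comp, kernel.condition, st_zero])
    exact ⟨w, st_injective (kernel.ι rU) x ((hκ x w).trans hv)⟩
  have hD : Coh.IsCoh (kernel rU) := QCoh.isCoh_kernel hGU.2.1 m.quot.2.1 rU
  have htD : TorSh.IsTorsionFree (kernel rU) := torsionFree_of_mono (kernel.ι rU) hGU.2.2.1
  have hDY : ∀ η ∈ genericPoints X, η ∈ Y → ∀ u : (DerSch.stalkFunctor X η).obj (kernel rU), u = 0 :=
    fun η hη hηY u => st_injective (kernel.ι rU) η (hrU_inj η hη hηY (by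
      rw [← st_comp, kernel.condition, st_zero, map_zero, map_zero]))
  have hl0 : kernel.ι π1 ≫ κ = 0 := hom_eq_zero hD.1 htD _ fun η hη v => by
    rw [st_comp]
    by_cases hηZ : η ∈ Z
    · rw [(bijective_quot hrk' h1 hη hηZ).1 (show st π1 η (st (kernel.ι π1) η v) = st π1 η 0 by
        rw [← st_comp, kernel.condition, st_zero, map_zero]), map_zero]
    · by_cases hηY : η ∈ Y
      · exact hDY η hη hηY _
      · refine st_injective (kernel.ι rU) η ?_
        have hηU : η ∉ U := fun h => (hU η hη h).elim hηY hηZ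
        exact (stalk_eq_zero hGU hηU _).trans (stalk_eq_zero hGU hηU _).symm
  let lam : G1 ⟶ kernel rU := Abelian.epiDesc π1 κ hl0
  have hlam : ∀ x v, st lam x (st π1 x v) = st κ x v := fun x v => by rw [← st_comp, Abelian.comp_epiDesc]
  haveI : Epi lam := by
    haveI : Epi (π1 ≫ lam) := by rw [Abelian.comp_epiDesc]; infer_instance
    exact epi_of_epi π1 lam
  have hαlam : α ≫ lam = 0 := by
    rw [← cancel_epi rW, Abelian.comp_epiDesc_assoc, comp_zero, Category.assoc, Abelian.comp_epiDesc,
      ← cancel_mono (kernel.ι rU), Category.assoc, kernel.lift_ι, ← Category.assoc, m.ab, zero_comp, zero_comp]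
  let α' : GW ⟶ kernel lam := kernel.lift lam α hαlam
  haveI : Mono α' := mono_of_mono_fac (kernel.lift_ι lam α hαlam)
  have hL : Coh.IsCoh (kernel lam) := QCoh.isCoh_kernel h1.2.1 hD lam
  have hT : Coh.IsCoh (cokernel α') := QCoh.isCoh_cokernel hGW.2.1.1 hL α'
  have e1 := euler_epi k h1.2.1 hD lam
  have e2 := Euler.euler_add k (S := ShortComplex.mk α' (cokernel.π α') (cokernel.condition α'))
    (.mk' (ShortComplex.exact_of_g_is_cokernel _ (cokernelIsCokernel α')) inferInstance inferInstance)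
    hGW.2.1 hL hT
  have e3 := euler_epi k hGU.2.1 m.quot.2.1 rU
  have hgen : ∀ η ∈ genericPoints X, η ∉ CohB1.support (cokernel α') := fun η hη hmem => by
    refine hmem (subsingleton_of_forall_eq 0 fun u => ?_)
    obtain ⟨v, rfl⟩ := st_surjective (cokernel.π α') η u
    suffices h : ∃ w, st α' η w = v by
      obtain ⟨w, rfl⟩ := h
      rw [← st_comp, cokernel.condition, st_zero]
    obtain ⟨w, hw⟩ := st_surjective π1 η (st (kernel.ι lam) η v)
    have hw0 : st κ η w = 0 := by rw [← hlam, hw, ← st_comp, kernel.condition, st_zero]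
    by_cases hηZ : η ∈ Z
    · by_cases hηY : η ∈ Y
      · obtain ⟨g, rfl⟩ := (m.a_bijective hrk hη hηY).2 w
        exact ⟨st rW η g, st_injective (kernel.ι lam) η (by rw [← st_comp, kernel.lift_ι, hα, hw])⟩
      · have hw' : w = 0 := (m.b_bijective hηY).1 ((bijective_quot hrk hGU hη (hZU hηZ)).1
          (by rw [← hκ, hw0, map_zero, map_zero, map_zero]))
        exact ⟨0, st_injective (kernel.ι lam) η (by rw [map_zero, map_zero, ← hw, hw', map_zero])⟩
    · exact ⟨0, st_injective (kernel.ι lam) η (by rw [← hw, stalk_eq_zero h1 hηZ (st π1 η w), map_zero, map_zero])⟩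
  refine ⟨by linarith [euler_nonneg k hdim hT hgen], fun hcase => ?_⟩
  haveI : Epi α' := by
    rcases hcase with hc | hc
    · have hz : kernel.ι lam = 0 := hom_eq_zero h1.2.1.1 h1.2.2.1 _ fun η hη v => by
        obtain ⟨w, hw⟩ := st_surjective π1 η (st (kernel.ι lam) η v)
        have hw0 : st κ η w = 0 := by rw [← hlam, hw, ← st_comp, kernel.condition, st_zero]
        rw [← hw]
        by_cases hηZ : η ∈ Z
        · have hηY : η ∉ Y := fun h => hc η hη h hηZ
          rw [(m.b_bijective hηY).1 ((bijective_quot hrk hGU hη (hZU hηZ)).1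
            (show st πU η (st m.b η w) = st πU η (st m.b η 0) by
              rw [← hκ, hw0, map_zero, map_zero, map_zero])), map_zero]
        · exact stalk_eq_zero h1 hηZ _
      exact Exactness.epi_of_stalk _ fun x => (ModuleCat.epi_iff_surjective _).2 fun v =>
        ⟨0, st_injective (kernel.ι lam) x (by rw [hz, st_zero, st_zero])⟩
    · haveI : Mono πU := Preadditive.mono_of_kernel_zero <| hom_eq_zero hF.1.1 hF.2.1 _ fun η hη v =>
        (bijective_quot hrk hGU hη (hc η hη)).1 (by rw [← st_comp, kernel.condition, st_zero, map_zero])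
      refine Exactness.epi_of_stalk _ fun x => (ModuleCat.epi_iff_surjective _).2 fun v => ?_
      obtain ⟨w, hw⟩ := st_surjective π1 x (st (kernel.ι lam) x v)
      have hw0 : st κ x w = 0 := by rw [← hlam, hw, ← st_comp, kernel.condition, st_zero]
      obtain ⟨g, rfl⟩ := m.ex₁ x w (st_injective πU x (by rw [← hκ, hw0, map_zero, map_zero]))
      exact ⟨st rW x g, st_injective (kernel.ι lam) x (by rw [← st_comp, kernel.lift_ι, hα, hw])⟩
  haveI : IsIso α' := isIso_of_mono_of_epi α'
  linarith [euler_of_isIso k α']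

include k m in
/-- If `F'` decomposes at `Y`, its quotient on `Y` is the inserted copy of `G`. -/
theorem isIso_of_isIso_lift (hF : TFOne.IsTF1 X F) {Y' : Set X}
    {G1 G2 : X.Modules} {π1 : F' ⟶ G1} {π2 : F' ⟶ G2} (h1 : TFOne.IsQuotOn X F' Y G1 π1)
    (h2 : TFOne.IsQuotOn X F' Y' G2 π2) (hY' : ∀ η ∈ genericPoints X, η ∈ Y' ↔ η ∉ Y)
    [hiso : IsIso (biprod.lift π1 π2)] : IsIso (m.a ≫ π1) := by
  haveI := CurveCohLib.isNoetherian_of_proper (k := k) (X := X)
  have hrk := hF.2.2
  have hF' := m.isTF1 hF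
  let α : G ⟶ G1 := m.a ≫ π1
  have hαgen : ∀ η ∈ genericPoints X, Function.Injective (st α η) := fun η hη => by
    by_cases hηY : η ∈ Y
    · have h := ((bijective_quot hF'.2.2 h1 hη hηY).comp (m.a_bijective hrk hη hηY)).1
      rwa [show (st α η : _ → _) = st π1 η ∘ st m.a η from funext fun v => st_comp m.a π1 η v]
    · exact fun p q _ => (stalk_eq_zero m.quot hηY p).trans (stalk_eq_zero m.quot hηY q).symm
  haveI : Mono α := Preadditive.mono_of_kernel_zero <| hom_eq_zero m.quot.2.1.1 m.quot.2.2.1 _ fun η hη v =>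
    hαgen η hη (by rw [← st_comp, kernel.condition, st_zero, map_zero])
  have hzero : kernel.ι π2 ≫ m.b = 0 := hom_eq_zero hF.1.1 hF.2.1 _ fun η hη v => by
    rw [st_comp]
    by_cases hηY : η ∈ Y
    · exact m.b_eq_zero hrk hη hηY _
    · rw [(bijective_quot hF'.2.2 h2 hη ((hY' η hη).2 hηY)).1
        (show st π2 η (st (kernel.ι π2) η v) = st π2 η 0 by rw [← st_comp, kernel.condition, st_zero, map_zero]),
        map_zero]
  haveI : Epi α := Exactness.epi_of_stalk _ fun x => (ModuleCat.epi_iff_surjective _).2 fun u => by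
    obtain ⟨v, hv⟩ := (ConcreteCategory.bijective_of_isIso ((DerSch.stalkFunctor X x).map (biprod.lift π1 π2))).2
      (st biprod.inl x u)
    let j : G1 ⟶ F' := biprod.inl ≫ inv (biprod.lift π1 π2)
    have hj2 : j ≫ π2 = 0 := by
      have := congrArg (fun f => biprod.inl ≫ inv (biprod.lift π1 π2) ≫ f) (biprod.lift_snd π1 π2)
      simp only [IsIso.inv_hom_id_assoc, biprod.inl_snd] at this
      rw [Category.assoc]; exact this.symm
    have hj1 : j ≫ π1 = 𝟙 G1 := by
      have := congrArg (fun f => biprod.inl ≫ inv (biprod.lift π1 π2) ≫ f) (biprod.lift_fst π1 π2)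
      simp only [IsIso.inv_hom_id_assoc, biprod.inl_fst] at this
      rw [Category.assoc]; exact this.symm
    obtain ⟨w, hw⟩ := m.ex₁ x (st j x u) (by
      rw [← kernel.lift_ι π2 j hj2, st_comp, ← st_comp (kernel.ι π2), hzero, st_zero])
    refine ⟨w, ?_⟩
    show st (m.a ≫ π1) x w = u
    rw [st_comp, hw, ← st_comp, hj1]
    show (DerSch.stalkFunctor X x).map (𝟙 _) u = u
    rw [CategoryTheory.Functor.map_id]
    rfl
  exact isIso_of_mono_of_epi α

include m in
/-- `F'` decomposes at `Y` exactly when its quotient on `Y` has the Euler characteristic of `G`. -/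
theorem euler_eq_iff_isIso_lift (hF : TFOne.IsTF1 X F) (hdim : topologicalKrullDim X ≤ 1) {Y' : Set X}
    {G1 G2 : X.Modules} {π1 : F' ⟶ G1} {π2 : F' ⟶ G2} (h1 : TFOne.IsQuotOn X F' Y G1 π1)
    (h2 : TFOne.IsQuotOn X F' Y' G2 π2) (hY' : ∀ η ∈ genericPoints X, η ∈ Y' ↔ η ∉ Y) :
    Curv2.euler k X G1 = Curv2.euler k X G ↔ IsIso (biprod.lift π1 π2) := by
  haveI := CurveCohLib.isNoetherian_of_proper (k := k) (X := X)
  have hrk := hF.2.2
  have hF' := m.isTF1 hF
  haveI := h1.1; haveI := h2.1
  let α : G ⟶ G1 := m.a ≫ π1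
  have hαgen : ∀ η ∈ genericPoints X, Function.Bijective (st α η) := fun η hη => by
    by_cases hηY : η ∈ Y
    · have h := (bijective_quot hF'.2.2 h1 hη hηY).comp (m.a_bijective hrk hη hηY)
      rwa [show (st α η : _ → _) = st π1 η ∘ st m.a η from funext fun v => st_comp m.a π1 η v]
    · exact ⟨fun p q _ => (stalk_eq_zero m.quot hηY p).trans (stalk_eq_zero m.quot hηY q).symm,
        fun v => ⟨0, (map_zero _).trans (stalk_eq_zero h1 hηY v).symm⟩⟩
  haveI : Mono α := Preadditive.mono_of_kernel_zero <| hom_eq_zero m.quot.2.1.1 m.quot.2.2.1 _ fun η hη v =>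
    (hαgen η hη).1 (by rw [← st_comp, kernel.condition, st_zero, map_zero])
  have hC : Coh.IsCoh (cokernel α) := QCoh.isCoh_cokernel m.quot.2.1.1 h1.2.1 α
  have e1 := Euler.euler_add k (S := ShortComplex.mk α (cokernel.π α) (cokernel.condition α))
    (.mk' (ShortComplex.exact_of_g_is_cokernel _ (cokernelIsCokernel α)) inferInstance inferInstance)
    m.quot.2.1 h1.2.1 hC
  have hπ2a : m.a ≫ π2 = 0 := hom_eq_zero h2.2.1.1 h2.2.2.1 _ fun η hη v => by
    by_cases hηY : η ∈ Y
    · exact stalk_eq_zero h2 (fun h => (hY' η hη).1 h hηY) _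
    · rw [stalk_eq_zero m.quot hηY v, map_zero]
  constructor
  · intro heq
    haveI hepi : Epi α := by
      refine Preadditive.epi_of_isZero_cokernel _ ((Euler.euler_nonneg_of_good k hC
        (Euler.good_of_support hC fun x hx => closure_eq_iff_isClosed.2
          (isClosed_singleton_of_notMem hdim fun hg => ?_))).2 (by linarith))
      refine hx (subsingleton_of_forall_eq 0 fun u => ?_)
      obtain ⟨v, rfl⟩ := st_surjective (cokernel.π α) x u
      obtain ⟨w, rfl⟩ := (hαgen x hg).2 v
      rw [← st_comp, cokernel.condition, st_zero]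
    haveI : Mono (biprod.lift π1 π2) := Preadditive.mono_of_kernel_zero <|
      hom_eq_zero hF'.1.1 hF'.2.1 _ fun η hη v => by
        have h0 : st (biprod.lift π1 π2) η (st (kernel.ι (biprod.lift π1 π2)) η v) = 0 := by
          rw [← st_comp, kernel.condition, st_zero]
        by_cases hηY : η ∈ Y
        · refine (bijective_quot hF'.2.2 h1 hη hηY).1 ?_
          have := congrArg (st biprod.fst η) h0
          rwa [← st_comp _ biprod.fst, biprod.lift_fst, map_zero, ← map_zero (st π1 η).hom] at this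
        · refine (bijective_quot hF'.2.2 h2 hη ((hY' η hη).2 hηY)).1 ?_
          have := congrArg (st biprod.snd η) h0
          rwa [← st_comp _ biprod.snd, biprod.lift_snd, map_zero, ← map_zero (st π2 η).hom] at this
    haveI : Epi (biprod.lift π1 π2) := Exactness.epi_of_stalk _ fun x => (ModuleCat.epi_iff_surjective _).2 fun v => by
      obtain ⟨v₂, hv₂⟩ := st_surjective π2 x (st biprod.snd x v)
      obtain ⟨w, hw⟩ := st_surjective α x (st biprod.fst x v - st π1 x v₂)
      refine ⟨v₂ + st m.a x w, ?_⟩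
      have hw' : st π1 x (st m.a x w) = st biprod.fst x v - st π1 x v₂ := by rw [← st_comp]; exact hw
      rw [st_biprod_eq x v, biprod.lift_eq, st_add, st_comp, st_comp, map_add, hw', add_sub_cancel, map_add, ← hv₂,
        ← st_comp m.a π2, hπ2a, st_zero, add_zero]
    exact isIso_of_mono_of_epi _
  · intro hiso
    haveI : IsIso α := isIso_of_isIso_lift (k := k) m hF h1 h2 hY'
    exact (euler_of_isIso k α).symm

end Euler

end Groth.Agent.TFQuot

end
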