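import Groth.Agent.TFQuot.TFStalk
import Groth.Agent.TFQuot.ModifDvr
import Groth.Agent.MiscSh16.GenRank
import Groth.Agent.SmoothReg.Scheme
import Groth.Agent.RegLoc6.Basic
import Mathlib.RingTheory.Regular.Flat

/-!
# Standing facts on families of torsion-free sheaves over a valuation ring
-/

set_option autoImplicit false
set_option linter.style.haveILetI false
set_option linter.unusedSectionVars false
set_option backward.isDefEq.respectTransparency false
set_option backward.isDefEq.respectTransparency.types false
set_option maxHeartbeats 1000000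

universe u

open CategoryTheory CategoryTheory.Limits AlgebraicGeometry TopologicalSpace
open scoped TensorProduct

noncomputable section

namespace Groth.Agent.TFQuot

open Groth.Agent

variable {X Y : Scheme.{u}}

/-- Torsion-freeness and rank one descend along faithfully flat morphisms. -/
theorem isTF1_of_pullback [IsLocallyNoetherian X] [AlgebraicGeometry.IsReduced X] [AlgebraicGeometry.IsReduced Y]
    (g : Y ⟶ X) [Flat g] (hg : Function.Surjective g) {G : X.Modules} (hGc : Coh.IsCoh G)
    (h : TFOne.IsTF1 Y ((Scheme.Modules.pullback g).obj G)) : TFOne.IsTF1 X G := by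
  refine ⟨hGc, fun x => ?_, fun η hη => ?_⟩
  · obtain ⟨y, rfl⟩ := hg x
    let A : Type u := X.presheaf.stalk (g y)
    let B : Type u := Y.presheaf.stalk y
    let M : Type u := G.presheaf.stalk (g y)
    letI : Algebra A B := (g.stalkMap y).hom.toAlgebra
    haveI hfl : Module.Flat A B := Flat.stalkMap g y
    haveI : IsLocalHom (algebraMap A B) := inferInstanceAs (IsLocalHom (g.stalkMap y).hom)
    haveI : Module.FaithfullyFlat A B := Module.FaithfullyFlat.of_flat_of_isLocalHom
    constructor
    intro a ha
    rw [isSMulRegular_iff_right_eq_zero_of_smul]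
    intro v hv
    let e := ((KFlatLib.stalkPullbackIso g y).app G).toLinearEquiv
    have hb : IsSMulRegular B (algebraMap A B a) := IsSMulRegular.of_flat ha.1
    have hb' : IsRegular (algebraMap A B a) := ⟨hb, fun p q hpq => hb (by simpa [mul_comm] using hpq)⟩
    haveI hN : Module.IsTorsionFree B (((Scheme.Modules.pullback g).obj G).presheaf.stalk y) := h.2.1 y
    have h1 : algebraMap A B a • ((1 : B) ⊗ₜ[A] (show M from v)) = 0 := by
      rw [algebraMap_smul, ← TensorProduct.tmul_smul, show a • (show M from v) = 0 from hv, TensorProduct.tmul_zero]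
    have h2 : e.symm ((1 : B) ⊗ₜ[A] (show M from v)) = 0 :=
      (hN.isSMulRegular hb').right_eq_zero_of_smul (by
        refine e.injective ?_
        erw [map_smul, e.apply_symm_apply, map_zero]
        exact h1)
    refine Module.FaithfullyFlat.tensorProduct_mk_injective (A := A) (B := B) M ?_
    rw [map_zero]
    exact e.symm.map_eq_zero_iff.1 h2
  · obtain ⟨y, rfl⟩ := hg η
    obtain ⟨θ, hθ, hθy, -⟩ := isUnion_univ (X := Y) y trivial
    have he : g θ = g y := eq_of_specializes_generic hη (hθy.map g.continuous)
    rw [← he] at hη ⊢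
    obtain ⟨l⟩ := h.2.2 θ hθ
    have hr := MiscSh16.rank_stalk_pullback g G hGc.1 θ (isField_stalk_generic hη) (isField_stalk_generic hθ)
    letI := (isField_stalk_generic hη).toField
    letI := (isField_stalk_generic hθ).toField
    rw [l.rank_eq, Module.rank_self] at hr
    exact nonempty_linearEquiv_of_rank_eq (hr.symm.trans (Module.rank_self _).symm)

variable {R : Type u} [CommRing R] [IsDomain R] [IsDiscreteValuationRing R] (f : X ⟶ Spec (CommRingCat.of R))

/-- A sheaf on which a uniformizer acts injectively is flat. -/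
theorem flat_of_injective (t : R) (ht : Irreducible t) (M : X.Modules)
    (hinj : letI : X.Over (Spec (CommRingCat.of R)) := ⟨f⟩
      ∀ x, Function.Injective (st (Formal.smulMod R M t) x)) : FlatMod.IsFlatOver f M := fun x => by
  letI : X.Over (Spec (CommRingCat.of R)) := ⟨f⟩
  letI := FlatMod.moduleStalkOver f M x
  show Module.Flat ((Spec (CommRingCat.of R)).presheaf.stalk (f x)) (M.presheaf.stalk x)
  letI : Algebra R ((Spec (CommRingCat.of R)).presheaf.stalk (f x)) := StructureSheaf.stalkAlgebra R (f x)
  haveI : IsLocalization.AtPrime ((Spec (CommRingCat.of R)).presheaf.stalk (f x))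
      (PrimeSpectrum.asIdeal (R := R) (f x)) :=
    StructureSheaf.IsLocalization.to_stalk (CommRingCat.of R) (f x)
  haveI : IsDomain ((Spec (CommRingCat.of R)).presheaf.stalk (f x)) := H23.SpGysin.isDomain_stalk (f x)
  haveI : IsDedekindDomain ((Spec (CommRingCat.of R)).presheaf.stalk (f x)) :=
    IsLocalization.isDedekindDomain R (PrimeSpectrum.asIdeal (R := R) (f x)).primeCompl_le_nonZeroDivisors _
  haveI : Module.IsTorsionFree ((Spec (CommRingCat.of R)).presheaf.stalk (f x)) (M.presheaf.stalk x) := by
    refine Module.IsTorsionFree.of_smul_eq_zero fun a v hav => ?_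
    by_cases ha : a = 0
    · exact Or.inl ha
    refine Or.inr ?_
    obtain ⟨⟨r, d⟩, hrd⟩ := IsLocalization.surj (PrimeSpectrum.asIdeal (R := R) (f x)).primeCompl a
    have hu := IsLocalization.map_units ((Spec (CommRingCat.of R)).presheaf.stalk (f x)) d
    have hr0 : r ≠ 0 := fun h0 => ha (hu.mul_left_eq_zero.1 (hrd.trans (by rw [h0, map_zero])))
    obtain ⟨k, u, rfl⟩ := IsDiscreteValuationRing.eq_unit_mul_pow_irreducible hr0 ht
    have h1 : algebraMap R ((Spec (CommRingCat.of R)).presheaf.stalk (f x)) ((u : R) * t ^ k) • v = 0 := by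
      rw [← hrd, mul_comm, mul_smul, hav, smul_zero]
    rw [map_mul, mul_smul, (u.isUnit.map (algebraMap R _)).smul_eq_zero, map_pow] at h1
    clear hr0 hrd hav
    induction k generalizing v with
    | zero => simpa using h1
    | succ k ih =>
      rw [pow_succ, mul_smul] at h1
      have hi : ∀ w : M.presheaf.stalk x, st (Formal.smulMod R M t) x w =
          (algebraMap R ((Spec (CommRingCat.of R)).presheaf.stalk (f x)) t • w : M.presheaf.stalk x) :=
        fun w => by
        rw [st_smulMod]
        exact congrArg (fun r => r • w) (Scheme.Hom.germ_stalkMap_apply f ⊤ x trivial _).symm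
      refine hinj x ((hi v).trans ?_)
      rw [map_zero]
      exact ih _ h1
  infer_instance

/-- A subsheaf of a flat sheaf is flat. -/
theorem flat_of_mono {A B : X.Modules} (ι : A ⟶ B) [Mono ι] (hB : FlatMod.IsFlatOver f B) :
    FlatMod.IsFlatOver f A := by
  letI : X.Over (Spec (CommRingCat.of R)) := ⟨f⟩
  obtain ⟨t, ht⟩ := IsDiscreteValuationRing.exists_irreducible R
  refine flat_of_injective f t ht A fun x v w hvw => st_injective ι x (injective_of_flat f t ht B hB x ?_)
  have h := congrArg (st ι x) hvw
  rwa [← st_comp, ← st_comp, FFun.smulMod_naturality, st_comp, st_comp] at h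

section Point

variable {W : Scheme.{u}} [IsLocallyNoetherian W] [AlgebraicGeometry.IsReduced W]

/-- At a point with a domain as local ring only one component passes. -/
theorem eq_generic_of_isDomain_stalk {x η η' : W} [IsDomain (W.presheaf.stalk x)] (hη : η ∈ genericPoints W)
    (hη' : η' ∈ genericPoints W) (h : η ⤳ x) (h' : η' ⤳ x) : η = η' := by
  have key : ∀ θ ∈ genericPoints W, θ ⤳ x → W.fromSpecStalk x ⟨⊥, Ideal.isPrime_bot⟩ = θ := fun θ hθ hs => by
    obtain ⟨P, rfl⟩ : θ ∈ Set.range (W.fromSpecStalk x) := by rw [Scheme.range_fromSpecStalk]; exact hs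
    refine eq_of_specializes_generic hθ ?_
    exact ((PrimeSpectrum.le_iff_specializes (⟨⊥, Ideal.isPrime_bot⟩ : PrimeSpectrum (W.presheaf.stalk x)) P).1
      bot_le).map (W.fromSpecStalk x).continuous
  exact (key η hη h).symm.trans (key η' hη' h')

/-- Where only components of `Z` pass, the quotient on `Z` is injective. -/
theorem injective_quot_at [CompactSpace W] {M G : W.Modules} (hM : TFOne.IsTF1 W M) {Z : Set W} {π : M ⟶ G}
    (h : TFOne.IsQuotOn W M Z G π) {x : W} (hx : ∀ η ∈ genericPoints W, η ⤳ x → η ∈ Z) :
    Function.Injective (st π x) := by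
  haveI : AlgebraicGeometry.IsNoetherian W := {}
  refine (injective_iff_map_eq_zero _).2 fun v hv => ?_
  obtain ⟨w, rfl⟩ := (ShortComplex.moduleCat_exact_iff _).1
    ((ShortComplex.exact_kernel π).map (DerSch.stalkFunctor W x)) v hv
  obtain ⟨U, hxU, s, rfl⟩ := (kernel π).presheaf.exists_germ_eq w
  let S : Set W := ⋃ η ∈ {η | η ∈ genericPoints W ∧ ¬ η ⤳ x}, closure {η}
  have hS : IsClosed S := (finite_genericPoints.subset fun η h => h.1).isClosed_biUnion fun η _ => isClosed_closure
  have hxS : x ∉ S := fun hh => by
    simp only [S, Set.mem_iUnion₂] at hh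
    obtain ⟨η, hη, hh⟩ := hh
    exact hη.2 (specializes_iff_mem_closure.2 hh)
  let V : W.Opens := ⟨(U : Set W) ∩ Sᶜ, U.2.inter hS.isOpen_compl⟩
  have hVU : V ≤ U := Set.inter_subset_left
  have h0 : (kernel π).presheaf.map (homOfLE hVU).op s = 0 :=
    TFCurvLib.eq_zero_of_germ_isField (QCoh.isQCoh_kernel hM.1.1 h.2.1.1 π)
      (torsionFree_of_mono (kernel.ι π) hM.2.1) _ fun y hy hf => by
      have hy1 := mem_genericPoints_of_isField hf
      have hyx : y ⤳ x := by
        by_contra hn
        exact hy.2 (Set.mem_iUnion₂.2 ⟨y, ⟨hy1, hn⟩, subset_closure rfl⟩)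
      refine st_injective (kernel.ι π) y ((bijective_quot hM.2.2 h hy1 (hx y hy1 hyx)).1 ?_)
      rw [← st_comp, kernel.condition, st_zero, map_zero, map_zero]
  rw [← TopCat.Presheaf.germ_res_apply (kernel π).presheaf (homOfLE hVU) x ⟨hxU, hxS⟩ s, h0, map_zero]
  exact map_zero _

end Point

end Groth.Agent.TFQuot

end
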