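import Groth.Agent.TFQuot.TowerAlg
import Groth.Agent.TFQuot.TFStalk
import Groth.Agent.KFlatLib.Scheme.Flatness
import Groth.Agent.MorLib.FlatBC
import Groth.Agent.ASB.Sigma
import Groth.Agent.CILib.Basic
import Groth.Agent.S0549

/-!
# Decomposing towers after completion of the base
-/

set_option autoImplicit false
set_option linter.style.haveILetI false
set_option linter.unusedSectionVars false
set_option backward.isDefEq.respectTransparency false
set_option backward.isDefEq.respectTransparency.types false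
set_option maxHeartbeats 1000000

universe u

open CategoryTheory CategoryTheory.Limits AlgebraicGeometry TopologicalSpace

noncomputable section

namespace Groth.Agent.TFQuot

open Groth.Agent

variable {R : Type u} [CommRing R] [IsDomain R] [IsDiscreteValuationRing R] {X : Scheme.{u}}
  (f : X ⟶ Spec (CommRingCat.of R)) {Xs : Scheme.{u}}

/-- The reduction of a quasi-coherent module at a uniformizer. -/
theorem unit_props (i : Xs ⟶ X) {q : Xs ⟶ Spec (CommRingCat.of (IsLocalRing.ResidueField R))}
    (hsq : IsPullback i q f (Spec.map (CommRingCat.ofHom (IsLocalRing.residue R)))) (t : R) (ht : Irreducible t)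
    {M : X.Modules} (hM : Coh.IsQCoh M) :
    letI : X.Over (Spec (CommRingCat.of R)) := ⟨f⟩
    (Formal.smulMod R M t ≫ (Scheme.Modules.pullbackPushforwardAdjunction i).unit.app M = 0) ∧
      (∀ x v, st ((Scheme.Modules.pullbackPushforwardAdjunction i).unit.app M) x v = 0 →
        ∃ w, st (Formal.smulMod R M t) x w = v) ∧
      (∀ x, Function.Surjective (st ((Scheme.Modules.pullbackPushforwardAdjunction i).unit.app M) x)) := by
  letI : X.Over (Spec (CommRingCat.of R)) := ⟨f⟩
  haveI : IsClosedImmersion i := by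
    haveI : IsClosedImmersion (Spec.map (CommRingCat.ofHom (IsLocalRing.residue R))) :=
      IsClosedImmersion.spec_of_surjective _ Ideal.Quotient.mk_surjective
    exact MorphismProperty.of_isPullback hsq.flip inferInstance
  have hJ : IsLocalRing.maximalIdeal R = Ideal.span {t} := ht.maximalIdeal_eq
  let adj := Scheme.Modules.pullbackPushforwardAdjunction i
  let sq : IsPullback i (q : Xs ⟶ Spec (CommRingCat.of (R ⧸ IsLocalRing.maximalIdeal R)))
      (X ↘ Spec (CommRingCat.of R))
      (Spec.map (CommRingCat.ofHom (Ideal.Quotient.mk (IsLocalRing.maximalIdeal R)))) := hsq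
  obtain ⟨h, hiso⟩ := AmpleVan.unit_desc_iso sq hM
  haveI := hiso
  have h1 : Formal.smulMod R M t ≫ adj.unit.app M = 0 := by
    have := congrArg (fun φ => Sigma.ι (fun _ : IsLocalRing.maximalIdeal R => M)
      ⟨t, hJ ▸ Ideal.mem_span_singleton_self t⟩ ≫ φ) h
    simp only [comp_zero, ← Category.assoc] at this
    rwa [show Sigma.ι (fun _ : IsLocalRing.maximalIdeal R => M) ⟨t, hJ ▸ Ideal.mem_span_singleton_self t⟩ ≫
      Formal.smulFamily _ M = Formal.smulMod R M t from Sigma.ι_desc _ _] at this
  haveI hepi : Epi (adj.unit.app M) := by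
    rw [show adj.unit.app M = cokernel.π _ ≫ cokernel.desc _ _ h from (cokernel.π_desc _ _ _).symm]
    infer_instance
  refine ⟨h1, fun x v hv => ?_, fun x => st_surjective (adj.unit.app M) x⟩
  have hπ : st (cokernel.π (Formal.smulFamily (IsLocalRing.maximalIdeal R) M)) x v = 0 := by
    refine st_injective (cokernel.desc _ _ h) x ?_
    rw [← st_comp, cokernel.π_desc, map_zero]
    exact hv
  obtain ⟨w, hw⟩ := (st_cokernel_iff _ x v).1 hπ
  choose c hc using fun a : IsLocalRing.maximalIdeal R =>
    Ideal.mem_span_singleton'.1 (show (a : R) ∈ Ideal.span {t} from hJ ▸ a.2)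
  refine ⟨st (Sigma.desc fun a => Formal.smulMod R M (c a)) x w, ?_⟩
  rw [← st_comp, show Sigma.desc (fun a => Formal.smulMod R M (c a)) ≫ Formal.smulMod R M t =
    Formal.smulFamily (IsLocalRing.maximalIdeal R) M from ?_]
  · exact hw
  refine Sigma.hom_ext _ _ fun a => ?_
  rw [← Category.assoc, Sigma.ι_desc]
  refine Eq.symm ((Sigma.ι_desc _ _).trans ?_)
  show Formal.smulMod R M (a : R) = _
  rw [← hc a]
  simp only [Formal.smulMod, map_mul, KLin.smulModΓ_mul]

/-- Restriction to the special fibre of the kernel of a reduction is exact. -/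
theorem exact_kernel_redQuot (i : Xs ⟶ X) {q : Xs ⟶ Spec (CommRingCat.of (IsLocalRing.ResidueField R))}
    (hsq : IsPullback i q f (Spec.map (CommRingCat.ofHom (IsLocalRing.residue R)))) {I : X.Modules}
    (hI : Coh.IsQCoh I) {G : Xs.Modules} (π : (Scheme.Modules.pullback i).obj I ⟶ G) (z : Xs)
    (v : (DerSch.stalkFunctor Xs z).obj ((Scheme.Modules.pullback i).obj I)) (hv : st π z v = 0) :
    ∃ w, st ((Scheme.Modules.pullback i).map (kernel.ι (redQuot i π))) z w = v := by
  haveI : IsClosedImmersion i := by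
    haveI : IsClosedImmersion (Spec.map (CommRingCat.ofHom (IsLocalRing.residue R))) :=
      IsClosedImmersion.spec_of_surjective _ Ideal.Quotient.mk_surjective
    exact MorphismProperty.of_isPullback hsq.flip inferInstance
  obtain ⟨t, ht⟩ := IsDiscreteValuationRing.exists_irreducible R
  obtain ⟨-, -, hsurj⟩ := unit_props f i hsq t ht hI
  let adj := Scheme.Modules.pullbackPushforwardAdjunction i
  obtain ⟨e, he⟩ := exists_stalkPushEquiv i z
  let uI : I ⟶ (Scheme.Modules.pushforward i).obj ((Scheme.Modules.pullback i).obj I) := adj.unit.app I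
  let uK : kernel (redQuot i π) ⟶
      (Scheme.Modules.pushforward i).obj ((Scheme.Modules.pullback i).obj (kernel (redQuot i π))) :=
    adj.unit.app (kernel (redQuot i π))
  have hnat : kernel.ι (redQuot i π) ≫ uI =
      uK ≫ (Scheme.Modules.pushforward i).map ((Scheme.Modules.pullback i).map (kernel.ι (redQuot i π))) :=
    adj.unit.naturality _
  replace hsurj : ∀ x, Function.Surjective (st uI x) := hsurj
  obtain ⟨y, hy⟩ := hsurj (i z) ((e _).symm v)
  have h0 : st (uI ≫ (Scheme.Modules.pushforward i).map π) (i z) y = 0 := by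
    rw [st_comp, hy]
    refine (e G).injective ?_
    rw [he, AddEquiv.apply_symm_apply, hv, map_zero]
  obtain ⟨w, rfl⟩ := (st_kernel_iff (redQuot i π) _ _).1 h0
  refine ⟨e _ (st uK (i z) w), ?_⟩
  rw [← he]
  refine (e _).symm.injective ?_
  rw [AddEquiv.symm_apply_apply, ← hy, ← st_comp, ← st_comp, hnat]

/-- A submodule containing `tI` whose restriction has the kernel of `π` as image is the kernel of the reduction. -/
theorem isIso_kernel_lift (i : Xs ⟶ X) {q : Xs ⟶ Spec (CommRingCat.of (IsLocalRing.ResidueField R))}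
    (hsq : IsPullback i q f (Spec.map (CommRingCat.ofHom (IsLocalRing.residue R)))) (t : R) (ht : Irreducible t)
    {B I : X.Modules} (hB : Coh.IsQCoh B) (hI : Coh.IsQCoh I) (j : B ⟶ I) [Mono j] (s : I ⟶ B)
    (hs : letI : X.Over (Spec (CommRingCat.of R)) := ⟨f⟩; s ≫ j = Formal.smulMod R I t) {G : Xs.Modules}
    (π : (Scheme.Modules.pullback i).obj I ⟶ G) (hw : j ≫ redQuot i π = 0)
    (hex : ∀ z v, st π z v = 0 → ∃ w, st ((Scheme.Modules.pullback i).map j) z w = v) :
    IsIso (kernel.lift (redQuot i π) j hw) := by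
  letI : X.Over (Spec (CommRingCat.of R)) := ⟨f⟩
  haveI : IsClosedImmersion i := by
    haveI : IsClosedImmersion (Spec.map (CommRingCat.ofHom (IsLocalRing.residue R))) :=
      IsClosedImmersion.spec_of_surjective _ Ideal.Quotient.mk_surjective
    exact MorphismProperty.of_isPullback hsq.flip inferInstance
  obtain ⟨-, hkI, -⟩ := unit_props f i hsq t ht hI
  obtain ⟨-, -, hsB⟩ := unit_props f i hsq t ht hB
  let adj := Scheme.Modules.pullbackPushforwardAdjunction i
  let uI : I ⟶ (Scheme.Modules.pushforward i).obj ((Scheme.Modules.pullback i).obj I) := adj.unit.app I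
  let uB : B ⟶ (Scheme.Modules.pushforward i).obj ((Scheme.Modules.pullback i).obj B) := adj.unit.app B
  have hnat : j ≫ uI = uB ≫ (Scheme.Modules.pushforward i).map ((Scheme.Modules.pullback i).map j) :=
    adj.unit.naturality j
  replace hkI : ∀ x v, st uI x v = 0 → ∃ w, st (Formal.smulMod R I t) x w = v := hkI
  replace hsB : ∀ x, Function.Surjective (st uB x) := hsB
  haveI : Mono (kernel.lift (redQuot i π) j hw) := mono_of_mono_fac (kernel.lift_ι _ _ hw)
  haveI : Epi (kernel.lift (redQuot i π) j hw) := Exactness.epi_of_stalk _ fun x =>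
    (ModuleCat.epi_iff_surjective _).2 fun v => by
      let y := st (kernel.ι (redQuot i π)) x v
      have hy : st (uI ≫ (Scheme.Modules.pushforward i).map π) x y = 0 := by
        show st (redQuot i π) x (st (kernel.ι (redQuot i π)) x v) = 0
        rw [← st_comp, kernel.condition, st_zero]
      suffices h : ∃ b, st j x b = y by
        obtain ⟨b, hb⟩ := h
        exact ⟨b, st_injective (kernel.ι (redQuot i π)) x (by rw [← st_comp, kernel.lift_ι]; exact hb)⟩
      obtain ⟨b, hb⟩ : ∃ b, st uI x (st j x b) = st uI x y := by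
        by_cases hx : x ∈ Set.range i
        · obtain ⟨z, rfl⟩ := hx
          obtain ⟨e, he⟩ := exists_stalkPushEquiv i z
          obtain ⟨w, hw'⟩ := hex z (e _ (st uI (i z) y)) (by
            rw [← he, ← st_comp]
            exact (congrArg (e G) hy).trans (map_zero _))
          obtain ⟨b, hb⟩ := hsB (i z) ((e _).symm w)
          refine ⟨b, (e _).injective ?_⟩
          rw [← st_comp, hnat, st_comp, he, hb, AddEquiv.apply_symm_apply, hw']
        · haveI : Subsingleton ((DerSch.stalkFunctor X x).obj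
              ((Scheme.Modules.pushforward i).obj ((Scheme.Modules.pullback i).obj I))) :=
            AddCommGrpCat.subsingleton_of_isZero (KFlatLib.isZero_stalk_push i x hx _)
          exact ⟨0, Subsingleton.elim _ _⟩
      obtain ⟨c, hc⟩ := hkI x (y - st j x b) (by rw [map_sub, hb, sub_self])
      refine ⟨b + st s x c, ?_⟩
      rw [map_add, ← st_comp, hs, hc]
      abel
  exact isIso_of_mono_of_epi _

section Completion

variable [Xs.Over (Spec (CommRingCat.of (IsLocalRing.ResidueField R)))] (i : Xs ⟶ X)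

/-- A flat extension of `R` by a complete discrete valuation ring, with the same special fibre. -/
structure Cpl where
  /-- the ring -/
  A : Type u
  [ring : CommRing A]
  [dom : IsDomain A]
  [dvr : IsDiscreteValuationRing A]
  [complete : IsAdicComplete (IsLocalRing.maximalIdeal A) A]
  /-- the map from `R` -/
  φ : R →+* A
  inj : Function.Injective φ
  irr : ∀ t, Irreducible t → Irreducible (φ t)
  /-- the residue map -/
  ev : A →+* IsLocalRing.ResidueField R
  ev_surj : Function.Surjective ev
  /-- the base change -/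
  X' : Scheme.{u}
  /-- the projection -/
  p : X' ⟶ X
  /-- the structure map -/
  f' : X' ⟶ Spec (CommRingCat.of A)
  /-- the special fibre -/
  i' : Xs ⟶ X'
  sq : IsPullback p f' f (Spec.map (CommRingCat.ofHom φ))
  sq' : IsPullback i' (Xs ↘ Spec (CommRingCat.of (IsLocalRing.ResidueField R))) f'
    (Spec.map (CommRingCat.ofHom ev))
  hi : i' ≫ p = i

attribute [instance] Cpl.ring Cpl.dom Cpl.dvr Cpl.complete

/-- The completion of `R`. -/
theorem nonempty_cpl (hsq : IsPullback i (Xs ↘ Spec (CommRingCat.of (IsLocalRing.ResidueField R))) f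
    (Spec.map (CommRingCat.ofHom (IsLocalRing.residue R)))) : Nonempty (Cpl f i) := by
  let m := IsLocalRing.maximalIdeal R
  let A := AdicCompletion m R
  obtain ⟨hdom, hdvr⟩ := (Groth.Agent.S0549.result R).1 ⟨inferInstance, inferInstance⟩
  haveI := hdom
  haveI : IsDiscreteValuationRing A := hdvr
  haveI : IsAdicComplete (IsLocalRing.maximalIdeal A) A := CILib.isAdicComplete_adicCompletion R
  let φ : R →+* A := algebraMap R A
  let ev : A →+* IsLocalRing.ResidueField R := (AdicCompletion.evalOneₐ m).toRingHom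
  have hev : ev.comp φ = IsLocalRing.residue R := AdicCompletion.evalOneₐ_comp_algebraMap_eq_mk m
  have hinj : Function.Injective φ := by
    refine (injective_iff_map_eq_zero _).2 fun r hr => ?_
    have h0 := Ideal.iInf_pow_eq_bot_of_isLocalRing m (IsLocalRing.maximalIdeal.isMaximal R).ne_top
    rw [← Ideal.mem_bot, ← h0, Submodule.mem_iInf]
    intro n
    have h1 := congrArg (fun a : A => a.val n) hr
    simp only [AdicCompletion.val_zero, Pi.zero_apply, φ] at h1
    have h2 : Ideal.Quotient.mk (m ^ n • ⊤ : Ideal R) r = 0 := h1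
    rw [Ideal.Quotient.eq_zero_iff_mem] at h2
    simpa using h2
  refine ⟨{ A := A, φ := φ, inj := hinj, irr := fun t ht => ?_, ev := ev, ev_surj := AdicCompletion.evalOneₐ_surjective m,
            X' := pullback f (Spec.map (CommRingCat.ofHom φ)), p := pullback.fst _ _, f' := pullback.snd _ _,
            i' := pullback.lift i ((Xs ↘ Spec (CommRingCat.of (IsLocalRing.ResidueField R))) ≫
              Spec.map (CommRingCat.ofHom ev)) ?_,
            sq := IsPullback.of_hasPullback _ _, sq' := ?_, hi := pullback.lift_fst _ _ _ }⟩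
  · refine IsDiscreteValuationRing.irreducible_iff_uniformizer _ |>.2 ?_
    have h1 : IsLocalRing.maximalIdeal A = Ideal.map φ m := AdicCompletion.maximalIdeal_eq_map (R := R)
    have h2 : Ideal.map φ m = Ideal.map φ (Ideal.span {t}) := congrArg (Ideal.map φ) ht.maximalIdeal_eq
    rw [h1, h2, Ideal.map_span, Set.image_singleton]
  · rw [Category.assoc, ← Spec.map_comp, ← CommRingCat.ofHom_comp, hev]
    exact hsq.w
  · refine IsPullback.of_right ?_ (pullback.lift_snd _ _ _) (IsPullback.of_hasPullback _ _)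
    rw [pullback.lift_fst, ← Spec.map_comp, ← CommRingCat.ofHom_comp, hev]
    exact hsq

variable {f i}

/-- The identification of restrictions to the special fibre. -/
def Cpl.cIso (c : Cpl f i) (M : X.Modules) :
    (Scheme.Modules.pullback c.i').obj ((Scheme.Modules.pullback c.p).obj M) ≅ (Scheme.Modules.pullback i).obj M :=
  (Scheme.Modules.pullbackComp c.i' c.p).app M ≪≫ (Scheme.Modules.pullbackCongr c.hi).app M

theorem Cpl.cIso_natural (c : Cpl f i) {M N : X.Modules} (u : M ⟶ N) :
    (Scheme.Modules.pullback c.i').map ((Scheme.Modules.pullback c.p).map u) ≫ (c.cIso N).hom =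
      (c.cIso M).hom ≫ (Scheme.Modules.pullback i).map u :=
  (Scheme.Modules.pullbackComp c.i' c.p ≪≫ Scheme.Modules.pullbackCongr c.hi).hom.naturality u

theorem Cpl.isProper [IsProper f] (c : Cpl f i) : IsProper c.f' :=
  MorphismProperty.of_isPullback c.sq inferInstance

theorem Cpl.flat [Flat f] (c : Cpl f i) : Flat c.f' :=
  MorphismProperty.of_isPullback c.sq inferInstance

theorem Cpl.flat_p (c : Cpl f i) : Flat c.p := by
  refine MorphismProperty.of_isPullback c.sq.flip ?_
  rw [HasRingHomProperty.Spec_iff (P := @Flat)]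
  show RingHom.Flat c.φ
  algebraize [c.φ]
  haveI : FaithfulSMul R c.A := (faithfulSMul_iff_algebraMap_injective R c.A).2 c.inj
  show Module.Flat R c.A
  infer_instance

/-- A decomposing tower over `R` gives a flat quotient over the completion. -/
theorem exists_flat_quotient_cpl [Flat f] [IsProper f] [AlgebraicGeometry.IsReduced Xs] (c : Cpl f i)
    (hsq : IsPullback i (Xs ↘ Spec (CommRingCat.of (IsLocalRing.ResidueField R))) f
      (Spec.map (CommRingCat.ofHom (IsLocalRing.residue R))))
    (In : ℕ → X.Modules) (hIc : Coh.IsCoh (In 0)) (hIf : FlatMod.IsFlatOver f (In 0))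
    (hIs : TFOne.IsTF1 Xs ((Scheme.Modules.pullback i).obj (In 0))) (Y : Set Xs) (hY : IsClosed Y) (Y' : Set Xs)
    (hY' : Y' = ⋃₀ {C | C ∈ irreducibleComponents (Xs : Type u) ∧ ¬ C ⊆ Y}) (G G' : ℕ → Xs.Modules)
    (π : ∀ n : ℕ, ((Scheme.Modules.pullback i).obj (In n)) ⟶ G n)
    (π' : ∀ n : ℕ, ((Scheme.Modules.pullback i).obj (In n)) ⟶ G' n)
    (hG : ∀ n : ℕ, TFOne.IsQuotOn Xs ((Scheme.Modules.pullback i).obj (In n)) Y (G n) (π n))
    (hG' : ∀ n : ℕ, TFOne.IsQuotOn Xs ((Scheme.Modules.pullback i).obj (In n)) Y' (G' n) (π' n))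
    (hstep : ∀ n : ℕ, In (n + 1) = kernel (redQuot i (π n))) (hdec : ∀ n : ℕ, IsIso (biprod.lift (π n) (π' n))) :
    ∃ (F : c.X'.Modules) (u : (Scheme.Modules.pullback c.p).obj (In 0) ⟶ F),
      Coh.IsCoh F ∧ Epi u ∧ FlatMod.IsFlatOver c.f' F ∧ ∃ e : (Scheme.Modules.pullback c.i').obj F ≅ G 0,
        (Scheme.Modules.pullback c.i').map u ≫ e.hom = (c.cIso (In 0)).hom ≫ π 0 := by
  letI : X.Over (Spec (CommRingCat.of R)) := ⟨f⟩
  haveI := c.isProper
  haveI := c.flat
  haveI := c.flat_p
  letI : c.X'.Over (Spec (CommRingCat.of c.A)) := ⟨c.f'⟩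
  haveI : IsLocallyNoetherian X := LocallyOfFiniteType.isLocallyNoetherian f
  haveI : IsLocallyNoetherian c.X' := LocallyOfFiniteType.isLocallyNoetherian c.f'
  -- the residue field of the completion
  haveI : IsLocalHom c.ev := IsLocalHom.of_surjective c.ev c.ev_surj
  let ε : IsLocalRing.ResidueField c.A →+* IsLocalRing.ResidueField R := IsLocalRing.ResidueField.lift c.ev
  haveI : IsIso (CommRingCat.ofHom ε) := (ConcreteCategory.isIso_iff_bijective _).2 ⟨ε.injective, fun b => by
    obtain ⟨a, rfl⟩ := c.ev_surj b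
    exact ⟨IsLocalRing.residue c.A a, rfl⟩⟩
  have hεev : Spec.map (CommRingCat.ofHom ε) ≫ Spec.map (CommRingCat.ofHom (IsLocalRing.residue c.A)) =
      Spec.map (CommRingCat.ofHom c.ev) := by
    rw [← Spec.map_comp]
    rfl
  letI : Xs.Over (Spec (CommRingCat.of (IsLocalRing.ResidueField c.A))) :=
    ⟨(Xs ↘ Spec (CommRingCat.of (IsLocalRing.ResidueField R))) ≫ Spec.map (CommRingCat.ofHom ε)⟩
  have hsq' : IsPullback c.i' (Xs ↘ Spec (CommRingCat.of (IsLocalRing.ResidueField c.A))) c.f'
      (Spec.map (CommRingCat.ofHom (IsLocalRing.residue c.A))) :=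
    c.sq'.of_iso (Iso.refl _) (Iso.refl _) (asIso (Spec.map (CommRingCat.ofHom ε))) (Iso.refl _)
      (by simp) (by simp; rfl) (by simp) (by simpa using hεev.symm)
  obtain ⟨t, ht⟩ := IsDiscreteValuationRing.exists_irreducible R
  haveI : IsClosedImmersion i := by
    haveI : IsClosedImmersion (Spec.map (CommRingCat.ofHom (IsLocalRing.residue R))) :=
      IsClosedImmersion.spec_of_surjective _ Ideal.Quotient.mk_surjective
    exact MorphismProperty.of_isPullback hsq.flip inferInstance
  haveI : IsFinite i := inferInstance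
  have hcoh : ∀ n, Coh.IsCoh (In n) := fun n => by
    induction n with
    | zero => exact hIc
    | succ n ih =>
      rw [hstep]
      exact QCoh.isCoh_kernel ih (QCoh.isCoh_pushforward_finite i (hG n).2.1) _
  -- the tower upstairs
  let P := Scheme.Modules.pullback c.p
  let Q := Scheme.Modules.pullback c.i'
  haveI : P.Additive := Adjunction.left_adjoint_additive (Scheme.Modules.pullbackPushforwardAdjunction c.p)
  haveI : P.PreservesHomology := KFlatLib.preservesHomology_pullback c.p
  haveI := Functor.preservesFiniteLimits_of_preservesHomology P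
  haveI : Q.Additive := Adjunction.left_adjoint_additive (Scheme.Modules.pullbackPushforwardAdjunction c.i')
  let adj := Scheme.Modules.pullbackPushforwardAdjunction i
  let adj' := Scheme.Modules.pullbackPushforwardAdjunction c.i'
  have step : ∀ (n : ℕ) (M : c.X'.Modules) (e : M ≅ P.obj (In n)),
      Nonempty (kernel (redQuot c.i' ((Q.map e.hom ≫ (c.cIso (In n)).hom) ≫ π n)) ≅ P.obj (In (n + 1))) := by
    intro n M e
    obtain ⟨ι, hι⟩ : ∃ ι : In (n + 1) ⟶ In n, ι = eqToHom (hstep n) ≫ kernel.ι (redQuot i (π n)) := ⟨_, rfl⟩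
    have hιw : ι ≫ redQuot i (π n) = 0 := by rw [hι, Category.assoc, kernel.condition, comp_zero]
    haveI : Mono ι := hι ▸ inferInstance
    obtain ⟨u0, -, -⟩ := unit_props f i hsq t ht (hcoh n).1
    let s : In n ⟶ In (n + 1) := kernel.lift (redQuot i (π n)) (Formal.smulMod R (In n) t)
      (by rw [← Category.assoc, u0, zero_comp]) ≫ eqToHom (hstep n).symm
    have hsι : s ≫ ι = Formal.smulMod R (In n) t := by simp [s, hι]
    let j : P.obj (In (n + 1)) ⟶ M := P.map ι ≫ e.inv
    let s' : M ⟶ P.obj (In (n + 1)) := e.hom ≫ P.map s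
    have hsm : P.map (Formal.smulMod R (In n) t) = Formal.smulMod c.A (P.obj (In n)) (c.φ t) := by
      show P.map (Formal.smulModΓ (In n) (Coh.toGlobal f t)) = Formal.smulModΓ _ (Coh.toGlobal c.f' (c.φ t))
      rw [ASB.pullback_smulModΓ, ← KLin.toGlobal_comp, c.sq.w, KLin.toGlobal_comp]
      congr 1
      show c.f'.appTop ((Spec.map (CommRingCat.ofHom c.φ)).appTop ((Scheme.ΓSpecIso (CommRingCat.of R)).inv t)) = _
      rw [← ConcreteCategory.comp_apply (Scheme.ΓSpecIso (CommRingCat.of R)).inv, ← Scheme.ΓSpecIso_inv_naturality]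
      rfl
    have hs' : s' ≫ j = Formal.smulMod c.A M (c.φ t) := by
      simp only [s', j, Category.assoc, ← P.map_comp_assoc, hsι, hsm]
      rw [FFun.smulMod_naturality, Iso.hom_inv_id_assoc]
    have hQj : Q.map j ≫ Q.map e.hom = Q.map (P.map ι) := by
      rw [← Q.map_comp]
      simp [j]
    have hw : j ≫ redQuot c.i' ((Q.map e.hom ≫ (c.cIso (In n)).hom) ≫ π n) = 0 := by
      show j ≫ adj'.unit.app M ≫ (Scheme.Modules.pushforward c.i').map _ = 0
      have hnat := adj'.unit.naturality j
      simp only [Functor.id_obj, Functor.comp_obj, Functor.id_map, Functor.comp_map] at hnat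
      rw [reassoc_of% hnat, ← Functor.map_comp]
      have hz : (Scheme.Modules.pullback i).map ι ≫ π n = 0 := by
        apply (adj.homEquiv _ _).injective
        rw [adj.homEquiv_naturality_left, adj.homEquiv_unit, adj.homEquiv_unit, Functor.map_zero, comp_zero]
        exact hιw
      rw [show Q.map j ≫ (Q.map e.hom ≫ (c.cIso (In n)).hom) ≫ π n = 0 from ?_, Functor.map_zero, comp_zero]
      rw [Category.assoc, reassoc_of% hQj]
      exact (congrArg (· ≫ π n) (c.cIso_natural ι)).trans (by rw [Category.assoc, hz, comp_zero]) |>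
        fun h => (Category.assoc _ _ _).symm.trans h
    haveI : Mono j := mono_comp _ _
    haveI := isIso_kernel_lift c.f' c.i' hsq' (c.φ t) (c.irr t ht) (QCoh.isQCoh_pullback c.p (hcoh (n + 1)).1)
      (SheafHomX.isCoh_of_iso e.symm (ZClosLib.isCoh_pullback c.p (hcoh n))).1 j s' hs'
      ((Q.map e.hom ≫ (c.cIso (In n)).hom) ≫ π n) hw (fun z v hv => by
        rw [st_comp] at hv
        obtain ⟨w, hw'⟩ := exact_kernel_redQuot f i hsq (hcoh n).1 (π n) z _ hv
        let d : (Scheme.Modules.pullback i).obj (In (n + 1)) ≅ Q.obj (P.obj (In (n + 1))) := (c.cIso _).symm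
        refine ⟨st (((Scheme.Modules.pullback i).map (eqToHom (hstep n).symm)) ≫ d.hom) z w, ?_⟩
        refine st_injective (Q.map e.hom ≫ (c.cIso (In n)).hom) z ?_
        rw [← hw', ← st_comp, ← st_comp]
        congr 2
        have hnat : Q.map j ≫ Q.map e.hom ≫ (c.cIso (In n)).hom =
            (c.cIso (In (n + 1))).hom ≫ (Scheme.Modules.pullback i).map ι := by
          rw [reassoc_of% hQj]
          exact c.cIso_natural ι
        simp only [Category.assoc, d, Iso.symm_hom]
        refine congrArg (fun u => st u z) ?_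
        show (Scheme.Modules.pullback i).map _ ≫ (c.cIso (In (n + 1))).inv ≫ Q.map j ≫ Q.map e.hom ≫ (c.cIso (In n)).hom = _
        rw [hnat, Iso.inv_hom_id_assoc, ← Functor.map_comp, hι]
        simp)
    exact ⟨(asIso (kernel.lift _ j hw)).symm⟩
  let J : ∀ n, Σ' M : c.X'.Modules, M ≅ P.obj (In n) := fun n =>
    Nat.rec (motive := fun n => Σ' M : c.X'.Modules, M ≅ P.obj (In n)) ⟨P.obj (In 0), Iso.refl _⟩
      (fun n Jn => ⟨_, (step n Jn.1 Jn.2).some⟩) n
  let eJ : ∀ n, Q.obj (J n).1 ≅ (Scheme.Modules.pullback i).obj (In n) := fun n =>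
    Q.mapIso (J n).2 ≪≫ c.cIso (In n)
  have hquot : ∀ {n : ℕ} {Z : Set Xs} {H : Xs.Modules} {ρ : (Scheme.Modules.pullback i).obj (In n) ⟶ H},
      TFOne.IsQuotOn Xs _ Z H ρ → TFOne.IsQuotOn Xs (Q.obj (J n).1) Z H ((eJ n).hom ≫ ρ) := fun h => by
    haveI := h.1
    exact ⟨inferInstance, h.2⟩
  obtain ⟨F, u, hFc, hu, hFf, e, he⟩ := exists_flat_quotient c.A c.X' c.f' Xs c.i' hsq' (fun n => (J n).1)
    (ZClosLib.isCoh_pullback c.p hIc)
    (fun x' => MorLib.FlatBC.isFlatOverAt_baseChange f c.f' c.p (Spec.map (CommRingCat.ofHom c.φ)) c.sq (In 0) x'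
      (hIf _))
    (isTF1_iso (c.cIso (In 0)).symm hIs) Y hY Y' hY' G G' (fun n => (eJ n).hom ≫ π n) (fun n => (eJ n).hom ≫ π' n)
    (fun n => hquot (hG n)) (fun n => hquot (hG' n)) (fun n => rfl) fun n => by
      haveI := hdec n
      rw [show biprod.lift ((eJ n).hom ≫ π n) ((eJ n).hom ≫ π' n) = (eJ n).hom ≫ biprod.lift (π n) (π' n) from by
        apply biprod.hom_ext <;> simp]
      infer_instance
  refine ⟨F, u, hFc, hu, hFf, e, he.trans ?_⟩
  show (Q.map (𝟙 _) ≫ (c.cIso (In 0)).hom) ≫ π 0 = _
  rw [CategoryTheory.Functor.map_id, Category.id_comp]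

end Completion

end Groth.Agent.TFQuot

end
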