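import Groth.Agent.TFQuot.Bq
import Groth.Agent.TFQuot.TowerBC
import Groth.Agent.TFQuot.Special
import Groth.Agent.TFQuot.Idem

/-!
# Extensions of a sheaf of the generic fibre and their elementary modifications
-/

set_option autoImplicit false
set_option linter.style.haveILetI false
set_option linter.unusedSectionVars false
set_option backward.isDefEq.respectTransparency false
set_option backward.isDefEq.respectTransparency.types false
set_option maxHeartbeats 1000000

universe u

open CategoryTheory CategoryTheory.Limits AlgebraicGeometry TopologicalSpace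

noncomputable section

namespace Groth.Agent.TFQuot

open Groth.Agent

variable {R : Type u} [CommRing R] [IsDomain R] [IsDiscreteValuationRing R] {X : Scheme.{u}}
  (f : X ⟶ Spec (CommRingCat.of R)) [Flat f] [IsProper f] {Xs : Scheme.{u}}
  [Xs.Over (Spec (CommRingCat.of (IsLocalRing.ResidueField R)))] (i : Xs ⟶ X) {Xg : Scheme.{u}}
  [Xg.Over (Spec (CommRingCat.of (FractionRing R)))] (j : Xg ⟶ X) (I₀ : X.Modules)

/-- An extension of the generic fibre of `I₀` with torsion-free rank one special fibre. -/
structure Good (I : X.Modules) : Prop where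
  coh : Coh.IsCoh I
  flat : FlatMod.IsFlatOver f I
  tf : TFOne.IsTF1 Xs ((Scheme.Modules.pullback i).obj I)
  gen : Nonempty ((Scheme.Modules.pullback j).obj I ≅ (Scheme.Modules.pullback j).obj I₀)

variable {f i j I₀}

/-- The kernel of a reduction agrees with the sheaf on the generic fibre. -/
theorem isIso_pullback_kernel
    (hsq : IsPullback i (Xs ↘ Spec (CommRingCat.of (IsLocalRing.ResidueField R))) f
      (Spec.map (CommRingCat.ofHom (IsLocalRing.residue R))))
    (hgen : IsPullback j (Xg ↘ Spec (CommRingCat.of (FractionRing R))) f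
      (Spec.map (CommRingCat.ofHom (algebraMap R (FractionRing R)))))
    {I : X.Modules} (hI : Coh.IsQCoh I) {G : Xs.Modules} (π : (Scheme.Modules.pullback i).obj I ⟶ G) :
    IsIso ((Scheme.Modules.pullback j).map (kernel.ι (redQuot i π))) := by
  letI : X.Over (Spec (CommRingCat.of R)) := ⟨f⟩
  obtain ⟨t, ht⟩ := IsDiscreteValuationRing.exists_irreducible R
  obtain ⟨u0, -, -⟩ := unit_props f i hsq t ht hI
  let s : I ⟶ kernel (redQuot i π) :=
    kernel.lift _ (Formal.smulMod R I t) (by rw [← Category.assoc, u0, zero_comp])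
  let ι := kernel.ι (redQuot i π)
  have hsι : s ≫ ι = Formal.smulMod R I t := kernel.lift_ι _ _ _
  have hιs : ι ≫ s = Formal.smulMod R (kernel (redQuot i π)) t := by
    rw [← cancel_mono ι, Category.assoc, hsι, FFun.smulMod_naturality]
  have ht0 : algebraMap R (FractionRing R) t ≠ 0 := fun h => ht.ne_zero
    (IsFractionRing.injective R (FractionRing R) (h.trans (map_zero _).symm))
  have key : ∀ M : X.Modules, IsIso ((Scheme.Modules.pullback j).map (Formal.smulMod R M t)) := fun M => by
    have h1 : (Scheme.Modules.pullback j).map (Formal.smulMod R M t) =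
        Formal.smulMod (FractionRing R) ((Scheme.Modules.pullback j).obj M) (algebraMap R (FractionRing R) t) := by
      show (Scheme.Modules.pullback j).map (Formal.smulModΓ M (Coh.toGlobal f t)) =
        Formal.smulModΓ _ (Coh.toGlobal (Xg ↘ Spec (CommRingCat.of (FractionRing R))) (algebraMap R (FractionRing R) t))
      rw [ASB.pullback_smulModΓ, ← KLin.toGlobal_comp, hgen.w, KLin.toGlobal_comp]
      congr 1
      show (Xg ↘ Spec (CommRingCat.of (FractionRing R))).appTop
        ((Spec.map (CommRingCat.ofHom (algebraMap R (FractionRing R)))).appTop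
          ((Scheme.ΓSpecIso (CommRingCat.of R)).inv t)) = _
      rw [← ConcreteCategory.comp_apply (Scheme.ΓSpecIso (CommRingCat.of R)).inv, ← Scheme.ΓSpecIso_inv_naturality]
      rfl
    rw [h1]
    refine ⟨Formal.smulMod (FractionRing R) _ (algebraMap R (FractionRing R) t)⁻¹, ?_, ?_⟩
    · rw [← FFun.smulMod_mul, inv_mul_cancel₀ ht0, FFun.smulMod_one]
    · rw [← FFun.smulMod_mul, mul_inv_cancel₀ ht0, FFun.smulMod_one]
  haveI := key I
  haveI := key (kernel (redQuot i π))
  haveI : IsIso ((Scheme.Modules.pullback j).map s ≫ (Scheme.Modules.pullback j).map ι) := by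
    rw [← Functor.map_comp, hsι]; infer_instance
  haveI : IsIso ((Scheme.Modules.pullback j).map ι ≫ (Scheme.Modules.pullback j).map s) := by
    rw [← Functor.map_comp, hιs]; infer_instance
  haveI : Mono ((Scheme.Modules.pullback j).map ι) := mono_of_mono _ ((Scheme.Modules.pullback j).map s)
  haveI : Epi ((Scheme.Modules.pullback j).map ι) := epi_of_epi ((Scheme.Modules.pullback j).map s) _
  exact isIso_of_mono_of_epi _

variable [AlgebraicGeometry.IsReduced Xs]
  (hsq : IsPullback i (Xs ↘ Spec (CommRingCat.of (IsLocalRing.ResidueField R))) f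
    (Spec.map (CommRingCat.ofHom (IsLocalRing.residue R))))
  (hgen : IsPullback j (Xg ↘ Spec (CommRingCat.of (FractionRing R))) f
    (Spec.map (CommRingCat.ofHom (algebraMap R (FractionRing R)))))

include hsq hgen in
theorem Good.modif {I : X.Modules} (hI : Good f i j I₀ I) {Y : Set Xs} {G : Xs.Modules}
    {π : (Scheme.Modules.pullback i).obj I ⟶ G} (hG : TFOne.IsQuotOn Xs ((Scheme.Modules.pullback i).obj I) Y G π) :
    Good f i j I₀ (kernel (redQuot i π)) := by
  haveI : IsClosedImmersion i := by
    haveI : IsClosedImmersion (Spec.map (CommRingCat.ofHom (IsLocalRing.residue R))) :=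
      IsClosedImmersion.spec_of_surjective _ Ideal.Quotient.mk_surjective
    exact MorphismProperty.of_isPullback hsq.flip inferInstance
  haveI : IsLocallyNoetherian X := LocallyOfFiniteType.isLocallyNoetherian f
  haveI : IsLocallyNoetherian Xs := LocallyOfFiniteType.isLocallyNoetherian i
  haveI : IsFinite i := inferInstance
  obtain ⟨m⟩ := nonempty_modif f i hsq I hI.coh hI.flat hG
  haveI := isIso_pullback_kernel hsq hgen hI.coh.1 π
  obtain ⟨e⟩ := hI.gen
  exact ⟨QCoh.isCoh_kernel hI.coh (QCoh.isCoh_pushforward_finite i hG.2.1) _, flat_of_mono f (kernel.ι _) hI.flat,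
    m.isTF1 hI.tf, ⟨asIso ((Scheme.Modules.pullback j).map (kernel.ι (redQuot i π))) ≪≫ e⟩⟩

include hsq in
theorem Good.euler_modif {I : X.Modules} (hI : Good f i j I₀ I) {Y : Set Xs} {G : Xs.Modules}
    {π : (Scheme.Modules.pullback i).obj I ⟶ G} (hG : TFOne.IsQuotOn Xs ((Scheme.Modules.pullback i).obj I) Y G π) :
    Curv2.euler (IsLocalRing.ResidueField R) Xs ((Scheme.Modules.pullback i).obj (kernel (redQuot i π))) =
      Curv2.euler (IsLocalRing.ResidueField R) Xs ((Scheme.Modules.pullback i).obj I) := by
  haveI : IsProper (Xs ↘ Spec (CommRingCat.of (IsLocalRing.ResidueField R))) :=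
    MorphismProperty.of_isPullback hsq inferInstance
  obtain ⟨m⟩ := nonempty_modif f i hsq I hI.coh hI.flat hG
  exact TFQuot.euler_modif (k := IsLocalRing.ResidueField R) m hI.tf.1

end Groth.Agent.TFQuot

end
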