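import Groth.Agent.TFQuot.Sub
import Groth.Agent.S0004
import Mathlib.RingTheory.Flat.TorsionFree
import Mathlib.RingTheory.Filtration

/-!
# Towers of elementary modifications which decompose, and their algebraization
-/

set_option autoImplicit false
set_option linter.style.haveILetI false
set_option linter.unusedSectionVars false
set_option backward.isDefEq.respectTransparency false
set_option backward.isDefEq.respectTransparency.types false
set_option maxHeartbeats 1000000

universe u

open CategoryTheory CategoryTheory.Limits AlgebraicGeometry TopologicalSpace Opposite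

noncomputable section

namespace Groth.Agent.TFQuot

open Groth.Agent

section Algebra

variable {A M : Type*} [CommRing A] [AddCommGroup M] [Module A M] (τ : A) (N : ℕ → Submodule A M)

/-- A decreasing chain in which multiplication by `τ` identifies successive layers. -/
structure Layers : Prop where
  zero : N 0 = ⊤
  le : ∀ n, N (n + 1) ≤ N n
  mul : ∀ n, ∀ v ∈ N n, τ • v ∈ N (n + 1)
  surj : ∀ n, ∀ v ∈ N (n + 1), ∃ w ∈ N n, v - τ • w ∈ N (n + 2)
  inj : ∀ n, ∀ v ∈ N n, τ • v ∈ N (n + 2) → v ∈ N (n + 1)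

variable {τ N} (L : Layers τ N)

include L

theorem Layers.pow_mem (n : ℕ) (v : M) : τ ^ n • v ∈ N n := by
  induction n with
  | zero => rw [L.zero]; trivial
  | succ n ih => rw [pow_succ', mul_smul]; exact L.mul n _ ih

theorem Layers.antitone {m n : ℕ} (h : m ≤ n) : N n ≤ N m := antitone_nat_of_succ_le L.le h

theorem Layers.mem_of_smul_mem {m : ℕ} {v : M} (h : τ • v ∈ N (m + 1)) : v ∈ N m := by
  suffices ∀ k, k ≤ m → v ∈ N k from this m le_rfl
  intro k
  induction k with
  | zero => intro _; rw [L.zero]; trivial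
  | succ k ih => exact fun hk => L.inj k v (ih (by omega)) (L.antitone (show k + 2 ≤ m + 1 by omega) h)

theorem Layers.exists_pow (n : ℕ) : ∀ v ∈ N n, ∃ w, v - τ ^ n • w ∈ N (n + 1) := by
  induction n with
  | zero => exact fun v _ => ⟨v, by simp⟩
  | succ n ih =>
    intro v hv
    obtain ⟨w, hw, hvw⟩ := L.surj n v hv
    obtain ⟨z, hz⟩ := ih w hw
    refine ⟨z, ?_⟩
    have h1 : τ • (w - τ ^ n • z) ∈ N (n + 2) := L.mul (n + 1) _ hz
    have := (N (n + 2)).add_mem hvw h1
    rwa [smul_sub, ← mul_smul, ← pow_succ', sub_add_sub_cancel] at this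

end Algebra

variable {X : Scheme.{u}}

/-- The image of a map in a stalk. -/
def stRange {A B : X.Modules} (φ : A ⟶ B) (x : X) : Submodule (X.presheaf.stalk x) ((DerSch.stalkFunctor X x).obj B) :=
  LinearMap.range (st φ x).hom

theorem mem_stRange {A B : X.Modules} {φ : A ⟶ B} {x : X} {v : (DerSch.stalkFunctor X x).obj B} :
    v ∈ stRange φ x ↔ ∃ w, st φ x w = v := Iff.rfl

theorem st_kernel_iff {A B : X.Modules} (p : A ⟶ B) (x : X) (v : (DerSch.stalkFunctor X x).obj A) :
    st p x v = 0 ↔ ∃ w, st (kernel.ι p) x w = v := by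
  refine ⟨fun hv => (ShortComplex.moduleCat_exact_iff _).1 ((ShortComplex.exact_kernel p).map (DerSch.stalkFunctor X x)) v hv, ?_⟩
  rintro ⟨w, rfl⟩
  rw [← st_comp, kernel.condition, st_zero]

theorem st_cokernel_iff {A B : X.Modules} (p : A ⟶ B) (x : X) (v : (DerSch.stalkFunctor X x).obj B) :
    st (cokernel.π p) x v = 0 ↔ ∃ w, st p x w = v := by
  refine ⟨fun hv => (ShortComplex.moduleCat_exact_iff _).1
    ((ShortComplex.exact_of_g_is_cokernel (ShortComplex.mk p (cokernel.π p) (cokernel.condition p))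
      (cokernelIsCokernel p)).map (DerSch.stalkFunctor X x)) v hv, ?_⟩
  rintro ⟨w, rfl⟩
  rw [← st_comp, cokernel.condition, st_zero]

/-- Compose a tower of maps. -/
def towerMap {C : ℕ → X.Modules} (j : ∀ n, C (n + 1) ⟶ C n) : ∀ n, C n ⟶ C 0
  | 0 => 𝟙 _
  | n + 1 => j n ≫ towerMap j n

theorem mono_towerMap {C : ℕ → X.Modules} (j : ∀ n, C (n + 1) ⟶ C n) [∀ n, Mono (j n)] : ∀ n, Mono (towerMap j n)
  | 0 => inferInstanceAs (Mono (𝟙 _))
  | n + 1 => haveI := mono_towerMap j n; inferInstanceAs (Mono (j n ≫ towerMap j n))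

section Smul

variable {A : Type u} [CommRing A] [X.Over (Spec (CommRingCat.of A))]

/-- The image of `a : A` in a local ring. -/
def scalSt (x : X) (a : A) : X.presheaf.stalk x :=
  X.presheaf.germ ⊤ x trivial (Coh.toGlobal (X ↘ Spec (CommRingCat.of A)) a)

theorem st_smul (M : X.Modules) (a : A) (x : X) (v : (DerSch.stalkFunctor X x).obj M) :
    st (Formal.smulMod A M a) x v = scalSt x a • v := by
  show (DerSch.stalkFunctor X x).map (Formal.smulMod A M a) v = _
  rw [ExtShX.stalk_smulMod]
  rfl

theorem scalSt_pow (x : X) (a : A) (n : ℕ) : scalSt x (a ^ n) = scalSt x a ^ n := by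
  simp only [scalSt, map_pow]

/-- The kernel of the reduction modulo a principal ideal. -/
theorem st_modPow_iff {t : A} {I : Ideal A} (hI : I = Ideal.span {t}) (M : X.Modules) (n : ℕ) (x : X)
    (v : (DerSch.stalkFunctor X x).obj M) :
    st (Formal.modPowπ I n M) x v = 0 ↔ ∃ w, scalSt x t ^ n • w = v := by
  refine (st_cokernel_iff _ x v).trans ⟨?_, ?_⟩
  · rintro ⟨w, rfl⟩
    choose c hc using fun a : (I ^ n : Ideal A) => Ideal.mem_span_singleton'.1
      (show (a : A) ∈ Ideal.span {t ^ n} by rw [← Ideal.span_singleton_pow, ← hI]; exact a.2)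
    have hfac : Formal.smulFamily (I ^ n) M =
        Sigma.desc (fun a => Formal.smulMod A M (c a)) ≫ Formal.smulMod A M (t ^ n) := by
      refine Sigma.hom_ext _ _ fun a => ?_
      rw [← Category.assoc, Sigma.ι_desc]
      refine (Sigma.ι_desc _ _).trans ?_
      show Formal.smulMod A M (a : A) = _
      rw [← hc a, FFun.smulMod_mul]
      exact (FFun.smulMod_naturality _ _).symm
    exact ⟨st (Sigma.desc fun a => Formal.smulMod A M (c a)) x w, by
      rw [hfac, st_comp, st_smul, scalSt_pow]⟩
  · rintro ⟨w, rfl⟩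
    have hm : t ^ n ∈ I ^ n := Ideal.pow_mem_pow (hI ▸ Ideal.mem_span_singleton_self t) n
    refine ⟨st (Sigma.ι (fun _ : (I ^ n : Ideal A) => M) ⟨t ^ n, hm⟩) x w, ?_⟩
    rw [← st_comp, show Sigma.ι (fun _ : (I ^ n : Ideal A) => M) ⟨t ^ n, hm⟩ ≫ Formal.smulFamily (I ^ n) M =
      Formal.smulMod A M (t ^ n) from Sigma.ι_desc _ _, st_smul, scalSt_pow]

end Smul

section Step

variable {R : Type u} [CommRing R] [IsDomain R] [IsDiscreteValuationRing R] (f : X ⟶ Spec (CommRingCat.of R))
  [IsProper f] {Xs : Scheme.{u}} [Xs.Over (Spec (CommRingCat.of (IsLocalRing.ResidueField R)))] (i : Xs ⟶ X)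
  [AlgebraicGeometry.IsReduced Xs]

/-- The map to the direct image of a quotient of the special fibre. -/
abbrev redQuot {I : X.Modules} {G : Xs.Modules} (π : (Scheme.Modules.pullback i).obj I ⟶ G) :
    I ⟶ (Scheme.Modules.pushforward i).obj G :=
  (Scheme.Modules.pullbackPushforwardAdjunction i).unit.app I ≫ (Scheme.Modules.pushforward i).map π

/-- One step of a decomposing tower. -/
theorem tower_step [X.Over (Spec (CommRingCat.of R))] (hover : (X ↘ Spec (CommRingCat.of R)) = f)
    (hsq : IsPullback i (Xs ↘ Spec (CommRingCat.of (IsLocalRing.ResidueField R))) f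
      (Spec.map (CommRingCat.ofHom (IsLocalRing.residue R)))) (t : R) (ht : Irreducible t)
    (I B : X.Modules) (hIc : Coh.IsCoh I) (htinj : ∀ x, Function.Injective (st (Formal.smulMod R I t) x))
    (hTF : TFOne.IsTF1 Xs ((Scheme.Modules.pullback i).obj I)) {Y Y' : Set Xs}
    (hY' : ∀ η ∈ genericPoints Xs, η ∈ Y' ↔ η ∉ Y) {G G1 G2 : Xs.Modules}
    {π : (Scheme.Modules.pullback i).obj I ⟶ G} (hG : TFOne.IsQuotOn Xs ((Scheme.Modules.pullback i).obj I) Y G π)
    (hB : B = kernel (redQuot i π))
    {π1 : (Scheme.Modules.pullback i).obj B ⟶ G1} {π2 : (Scheme.Modules.pullback i).obj B ⟶ G2}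
    (h1 : TFOne.IsQuotOn Xs ((Scheme.Modules.pullback i).obj B) Y G1 π1)
    (h2 : TFOne.IsQuotOn Xs ((Scheme.Modules.pullback i).obj B) Y' G2 π2) (hdec : IsIso (biprod.lift π1 π2)) :
    Coh.IsCoh B ∧ (∀ x, Function.Injective (st (Formal.smulMod R B t) x)) ∧
      TFOne.IsTF1 Xs ((Scheme.Modules.pullback i).obj B) ∧
      ∃ (j : B ⟶ I) (s : I ⟶ B) (θ : (Scheme.Modules.pushforward i).obj G ⟶ (Scheme.Modules.pushforward i).obj G1),
        Mono j ∧ IsIso θ ∧ s ≫ j = Formal.smulMod R I t ∧ s ≫ redQuot i π1 = redQuot i π ≫ θ ∧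
          (∀ x v, st (redQuot i π) x v = 0 ↔ ∃ w, st j x w = v) ∧
          (∀ x, Function.Surjective (st (redQuot i π) x)) := by
  obtain rfl := hover
  subst hB
  haveI hp : IsProper (Xs ↘ Spec (CommRingCat.of (IsLocalRing.ResidueField R))) :=
    MorphismProperty.of_isPullback hsq inferInstance
  haveI : IsClosedImmersion i := by
    haveI : IsClosedImmersion (Spec.map (CommRingCat.ofHom (IsLocalRing.residue R))) :=
      IsClosedImmersion.spec_of_surjective _ Ideal.Quotient.mk_surjective
    exact MorphismProperty.of_isPullback hsq.flip inferInstance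
  haveI : IsLocallyNoetherian X := LocallyOfFiniteType.isLocallyNoetherian (X ↘ Spec (CommRingCat.of R))
  haveI hn := CurveCohLib.isNoetherian_of_proper (k := IsLocalRing.ResidueField R) (X := Xs)
  haveI : IsFinite i := inferInstance
  haveI := hG.1
  obtain ⟨m, hm⟩ := exists_modif (X ↘ Spec (CommRingCat.of R)) i hsq t ht I hIc htinj hG
  haveI hα : IsIso (m.a ≫ π1) :=
    isIso_of_isIso_lift (k := IsLocalRing.ResidueField R) m hTF h1 h2 hY' (hiso := hdec)
  have hPc : Coh.IsCoh ((Scheme.Modules.pushforward i).obj G) := QCoh.isCoh_pushforward_finite i hG.2.1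
  have htp : Formal.smulMod R I t ≫ redQuot i π = 0 := by
    have h0 : Formal.smulMod R ((Scheme.Modules.pushforward i).obj G) t = 0 := by
      letI : Xs.Over (Spec (CommRingCat.of R)) := ⟨i ≫ (X ↘ Spec (CommRingCat.of R))⟩
      rw [← AmpleVan.push_map_smulMod i rfl G t]
      rw [show Formal.smulMod R G t = 0 from ?_, Functor.map_zero]
      show Formal.smulModΓ G (Coh.toGlobal (i ≫ (X ↘ Spec (CommRingCat.of R))) t) = 0
      have hz : Coh.toGlobal (i ≫ (X ↘ Spec (CommRingCat.of R))) t = 0 := by
        rw [hsq.w]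
        have h := KLin.toGlobal_comp (Xs ↘ Spec (CommRingCat.of (IsLocalRing.ResidueField R)))
          (Spec.map (CommRingCat.ofHom (IsLocalRing.residue R))) t
        rw [h]
        show (Xs ↘ Spec (CommRingCat.of (IsLocalRing.ResidueField R))).appTop.hom
          ((Spec.map (CommRingCat.ofHom (IsLocalRing.residue R))).appTop.hom
            ((Scheme.ΓSpecIso (CommRingCat.of R)).inv.hom t)) = 0
        have hn : (Spec.map (CommRingCat.ofHom (IsLocalRing.residue R))).appTop.hom
            ((Scheme.ΓSpecIso (CommRingCat.of R)).inv.hom t) =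
            (Scheme.ΓSpecIso (CommRingCat.of (IsLocalRing.ResidueField R))).inv.hom (IsLocalRing.residue R t) :=
          congr($((Scheme.ΓSpecIso_inv_naturality (CommRingCat.ofHom (IsLocalRing.residue R))).symm) t)
        have ht0 : IsLocalRing.residue R t = 0 :=
          (IsLocalRing.residue_eq_zero_iff t).2 ((IsLocalRing.mem_maximalIdeal t).2 ht.not_isUnit)
        rw [hn, ht0, map_zero, map_zero]
      rw [hz]
      refine Scheme.Modules.hom_ext _ _ fun U => ?_
      ext v
      show (show Γ(Xs, U) from Coh.resTop Xs (op U) 0) • (show Γ(G, U) from v) = 0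
      rw [show Coh.resTop Xs (op U) 0 = 0 from map_zero _, zero_smul]
    rw [FFun.smulMod_naturality, h0, comp_zero]
  let j : kernel (redQuot i π) ⟶ I := kernel.ι _
  let s : I ⟶ kernel (redQuot i π) := kernel.lift _ (Formal.smulMod R I t) htp
  have hsj : s ≫ j = Formal.smulMod R I t := kernel.lift_ι _ _ _
  refine ⟨QCoh.isCoh_kernel hIc hPc _, fun x => ?_, m.isTF1 hTF, j, s, (Scheme.Modules.pushforward i).map (m.a ≫ π1),
    inferInstance, inferInstance, hsj, ?_, fun x v => st_kernel_iff _ x v, fun x => ?_⟩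
  · intro v w hvw
    refine st_injective j x (htinj x ?_)
    have h2 := congrArg (st j x) hvw
    rwa [← st_comp, ← st_comp, FFun.smulMod_naturality, st_comp, st_comp] at h2
  · show s ≫ (Scheme.Modules.pullbackPushforwardAdjunction i).unit.app _ ≫ (Scheme.Modules.pushforward i).map π1 = _
    exact (reassoc_of% (hm s hsj)) _ |>.trans (congrArg (redQuot i π ≫ ·) ((Scheme.Modules.pushforward i).map_comp _ _).symm)
  · haveI : Epi ((Scheme.Modules.pullbackPushforwardAdjunction i).unit.app I) := by
      refine Exactness.epi_of_stalk _ fun y => (ModuleCat.epi_iff_surjective _).2 fun v => ?_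
      obtain ⟨U, hyU, a, rfl⟩ := TopCat.Presheaf.exists_germ_eq
        ((Scheme.Modules.pushforward i).obj ((Scheme.Modules.pullback i).obj I)).presheaf v
      obtain ⟨_, ⟨W, hW, rfl⟩, hyW, hWU⟩ := X.isBasis_affineOpens.exists_subset_of_mem_open hyU U.2
      obtain ⟨b, hb⟩ := (QCoh.unit_app_closed i hIc.1 hW).1
        (((Scheme.Modules.pushforward i).obj ((Scheme.Modules.pullback i).obj I)).presheaf.map
          (homOfLE (show W ≤ U from hWU)).op a)
      refine ⟨I.presheaf.germ W y hyW b, (DerSch.stalkFunctor_map_germ y _ W hyW b).trans ?_⟩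
      rw [hb]
      exact TopCat.Presheaf.germ_res_apply _ _ _ _ a
    haveI := ExtShX.ClosedHom.preservesFiniteColimits_push i
    haveI : PreservesColimitsOfShape WalkingSpan (Scheme.Modules.pushforward i) :=
      PreservesFiniteColimits.preservesFiniteColimits WalkingSpan
    haveI : Epi ((Scheme.Modules.pushforward i).map π) := (Scheme.Modules.pushforward i).map_epi π
    exact st_surjective _ x

end Step

end Groth.Agent.TFQuot

end
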